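import Cfsg.Agent.Lib.SymChar.Runner
import Mathlib.GroupTheory.Perm.Fin

/-!
# Conjugate sets of beta numbers

Reflecting the complement of a set of beta numbers multiplies `chiX` by the sign of the cycle type.
-/

namespace Cfsg.Agent.SymChar

open Finset Equiv

variable {N : ℕ}

/-- The inversion sign of a tuple. -/
def invSign (t : Fin N → ℕ) : ℤ :=
  ∏ j, ∏ i ∈ Finset.Iio j, if t i < t j then 1 else -1

theorem canon_strictMono {S : Finset ℕ} (h : S.card = N) : StrictMono (canon N S) := by
  rw [canon, dif_pos h]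
  exact (S.orderEmbOfFin h).strictMono

theorem invSign_canon_comp {S : Finset ℕ} (h : S.card = N) (σ : Equiv.Perm (Fin N)) :
    invSign (canon N S ∘ σ) = (Equiv.Perm.sign σ : ℤ) := by
  rw [Equiv.Perm.sign_eq_prod_prod_Iio, Units.coe_prod]
  refine Finset.prod_congr rfl fun j _ => ?_
  rw [Units.coe_prod]
  refine Finset.prod_congr rfl fun i _ => ?_
  simp only [Function.comp_apply, (canon_strictMono h).lt_iff_lt]
  split_ifs <;> simp

/-- The members of `S` strictly between. -/
def betw (S : Finset ℕ) (a b : ℕ) : ℕ := (S.filter fun x => a < x ∧ x < b).card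

/-- The movable members. -/
def movable (S : Finset ℕ) (k : ℕ) : Finset ℕ := S.filter fun b => k ≤ b ∧ b - k ∉ S

/-- Move a member down. -/
def moveDown (S : Finset ℕ) (k b : ℕ) : Finset ℕ := insert (b - k) (S.erase b)

theorem moveDown_mem_Beta {n k b : ℕ} {S : Finset ℕ} (hS : S ∈ Beta N n) (hk : 0 < k)
    (hb : b ∈ movable S k) : k ≤ n ∧ moveDown S k b ∈ Beta N (n - k) := by
  obtain ⟨hbS, hkb, hfree⟩ := Finset.mem_filter.1 hb
  obtain ⟨hc, hs⟩ := mem_Beta.1 hS
  have hnot : b - k ∉ S.erase b := fun h => hfree (Finset.mem_of_mem_erase h)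
  have hcard : (moveDown S k b).card = N := by
    rw [moveDown, Finset.card_insert_of_notMem hnot, Finset.card_erase_of_mem hbS, hc]
    have : 0 < S.card := Finset.card_pos.2 ⟨b, hbS⟩
    omega
  have hsum : (∑ x ∈ moveDown S k b, x) + k = baseSum N + n := by
    rw [moveDown, Finset.sum_insert hnot, ← hs, ← Finset.add_sum_erase _ _ hbS]
    show b - k + (∑ x ∈ S.erase b, x) + k = b + ∑ x ∈ S.erase b, x
    omega
  have h1 := baseSum_le_sum (canon_injective hcard)
  rw [sum_canon hcard] at h1
  exact ⟨by omega, mem_Beta.2 ⟨hcard, by omega⟩⟩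

theorem chiX_canon_cons {S : Finset ℕ} (hS : S.card = N) (k : ℕ) (hk : 0 < k) (c : Multiset ℕ) :
    chiX (canon N S) (k ::ₘ c) =
      ∑ b ∈ movable S k, (-1) ^ betw S (b - k) b * chiX (canon N (moveDown S k b)) c := by
  classical
  set l := canon N S with hl
  have hinj := canon_injective hS
  have himg := image_canon hS
  have hmem : ∀ x, x ∈ S ↔ ∃ i, l i = x := fun x => by
    conv_lhs => rw [← himg]
    simp [hl]
  rw [chiX_cons, ← Finset.sum_filter_add_sum_filter_not Finset.univ (fun i => l i ∈ movable S k),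
    Finset.sum_eq_zero (s := Finset.univ.filter fun i => ¬ l i ∈ movable S k) fun i hi => ?_,
    add_zero]
  swap
  · by_cases hki : k ≤ l i
    · rw [if_pos hki]
      refine chiX_eq_zero (fun hd => (Finset.mem_filter.1 hi).2 ?_) c
      refine Finset.mem_filter.2 ⟨(hmem _).2 ⟨i, rfl⟩, hki, fun h => ?_⟩
      obtain ⟨j, hj⟩ := (hmem _).1 h
      have hji : j ≠ i := fun e => by rw [e] at hj; omega
      exact hji (hd (by rw [dec_ne hji, dec_self_image, hj]))
    · rw [if_neg hki]
  refine Finset.sum_bij (fun i _ => l i) ?_ ?_ ?_ ?_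
  · exact fun i hi => (Finset.mem_filter.1 hi).2
  · exact fun a _ b _ h => hinj h
  · intro b hb
    obtain ⟨i, rfl⟩ := (hmem b).1 (Finset.mem_filter.1 hb).1
    exact ⟨i, Finset.mem_filter.2 ⟨Finset.mem_univ _, hb⟩, rfl⟩
  · intro i hi
    obtain ⟨-, hki, hfree⟩ := Finset.mem_filter.1 (Finset.mem_filter.1 hi).2
    rw [if_pos hki]
    set t := dec l i k with ht
    have htinj : Function.Injective t := by
      intro x y hxy
      by_cases hx : x = i <;> by_cases hy : y = i
      · rw [hx, hy]
      · subst hx; rw [ht, dec_self_image, dec_ne hy] at hxy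
        exact absurd ((hmem _).2 ⟨y, hxy.symm⟩) hfree
      · subst hy; rw [ht, dec_self_image, dec_ne hx] at hxy
        exact absurd ((hmem _).2 ⟨x, hxy⟩) hfree
      · rw [ht, dec_ne hx, dec_ne hy] at hxy; exact hinj hxy
    have himgt : Finset.univ.image t = moveDown S k (l i) := by
      ext x
      simp only [Finset.mem_image, Finset.mem_univ, true_and, moveDown, Finset.mem_insert,
        Finset.mem_erase]
      constructor
      · rintro ⟨j, rfl⟩
        by_cases hj : j = i
        · subst hj; left; rw [ht, dec_self_image]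
        · right; rw [ht, dec_ne hj]; exact ⟨fun e => hj (hinj e), (hmem _).2 ⟨j, rfl⟩⟩
      · rintro (rfl | ⟨hne, hxS⟩)
        · exact ⟨i, by rw [ht, dec_self_image]⟩
        · obtain ⟨j, rfl⟩ := (hmem x).1 hxS
          exact ⟨j, by rw [ht, dec_ne (fun e => hne (by rw [e]))]⟩
    obtain ⟨σ, hσ⟩ := exists_canon_perm htinj
    rw [himgt] at hσ
    have hσ' : t = canon N (moveDown S k (l i)) ∘ ⇑σ.symm := by rw [hσ]; funext x; simp
    have hcard : (moveDown S k (l i)).card = N := by
      rw [← himgt, Finset.card_image_of_injective _ htinj, Finset.card_univ, Fintype.card_fin]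
    have hsgn : (Equiv.Perm.sign σ.symm : ℤ) = (-1) ^ betw S (l i - k) (l i) := by
      rw [← invSign_canon_comp hcard, ← hσ', invSign]
      have hmono := canon_strictMono hS
      rw [Finset.prod_eq_single i]
      · rw [Finset.prod_congr rfl fun j hj => show (if t j < t i then (1 : ℤ) else -1) =
            if l i - k < l j then -1 else 1 by
          have hji : j ≠ i := ne_of_lt (Finset.mem_Iio.1 hj)
          have hne : l j ≠ l i - k := fun e => hfree ((hmem _).2 ⟨j, e⟩)
          rw [ht, dec_self_image, dec_ne hji]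
          split_ifs <;> first | rfl | omega]
        rw [Finset.prod_ite, Finset.prod_const, Finset.prod_const, one_pow, mul_one]
        congr 1
        rw [betw, ← Finset.card_image_of_injOn hinj.injOn]
        congr 1
        ext x
        simp only [Finset.mem_image, Finset.mem_filter, Finset.mem_Iio]
        constructor
        · rintro ⟨j, ⟨hj, h⟩, rfl⟩
          exact ⟨(hmem _).2 ⟨j, rfl⟩, h, hmono hj⟩
        · rintro ⟨hx, h1, h2⟩
          obtain ⟨j, rfl⟩ := (hmem x).1 hx
          exact ⟨j, ⟨hmono.lt_iff_lt.1 h2, h1⟩, rfl⟩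
      · intro j _ hji
        refine Finset.prod_eq_one fun a ha => if_pos ?_
        have haj := hmono (Finset.mem_Iio.1 ha)
        rw [ht, dec_ne hji]
        by_cases hai : a = i
        · subst hai; rw [dec_self_image]; exact lt_of_le_of_lt (Nat.sub_le _ _) haj
        · rw [dec_ne hai]; exact haj
      · simp
    rw [hσ', chiX_comp, hsgn]

/-- The reflected complement in `[0, M)`. -/
def starSet (M : ℕ) (S : Finset ℕ) : Finset ℕ :=
  ((Finset.range M) \ S).image fun x => M - 1 - x

theorem mem_starSet {M y : ℕ} {S : Finset ℕ} :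
    y ∈ starSet M S ↔ y < M ∧ M - 1 - y ∉ S := by
  simp only [starSet, Finset.mem_image, Finset.mem_sdiff, Finset.mem_range]
  constructor
  · rintro ⟨x, ⟨hx, hxS⟩, rfl⟩
    exact ⟨by omega, by rwa [show M - 1 - (M - 1 - x) = x by omega]⟩
  · rintro ⟨hy, h⟩
    exact ⟨M - 1 - y, ⟨by omega, h⟩, by omega⟩

theorem starSet_starSet {M : ℕ} {S : Finset ℕ} (h : S ⊆ Finset.range M) :
    starSet M (starSet M S) = S := by
  ext y
  rw [mem_starSet, mem_starSet]
  constructor
  · rintro ⟨hy, h2⟩
    by_contra hyS
    exact h2 ⟨by omega, by rwa [show M - 1 - (M - 1 - y) = y by omega]⟩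
  · intro hyS
    have hy := Finset.mem_range.1 (h hyS)
    exact ⟨hy, fun hh => hh.2 (by rwa [show M - 1 - (M - 1 - y) = y by omega])⟩

theorem starSet_subset (M : ℕ) (S : Finset ℕ) : starSet M S ⊆ Finset.range M := fun _ hy =>
  Finset.mem_range.2 (mem_starSet.1 hy).1

theorem baseSum_double (M : ℕ) : 2 * baseSum M + M = M * M := by
  induction M with
  | zero => simp [baseSum]
  | succ M ih =>
    rw [baseSum, Finset.sum_range_succ, ← baseSum]
    nlinarith

/-- Cardinality and sum of the reflected complement. -/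
theorem starSet_card_sum {M : ℕ} {S : Finset ℕ} (h : S ⊆ Finset.range M) :
    (starSet M S).card + S.card = M ∧
      (∑ x ∈ starSet M S, x) + baseSum S.card = (∑ x ∈ S, x) + baseSum (starSet M S).card := by
  have hinj : Set.InjOn (fun x => M - 1 - x) ((Finset.range M \ S : Finset ℕ) : Set ℕ) := by
    intro a ha b hb hab
    have h1 := Finset.mem_range.1 (Finset.mem_sdiff.1 (Finset.mem_coe.1 ha)).1
    have h2 := Finset.mem_range.1 (Finset.mem_sdiff.1 (Finset.mem_coe.1 hb)).1
    simp only at hab
    omega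
  have hc : (starSet M S).card + S.card = M := by
    rw [starSet, Finset.card_image_of_injOn hinj, Finset.card_sdiff_add_card_eq_card h,
      Finset.card_range]
  refine ⟨hc, ?_⟩
  have hsd : ∑ x ∈ Finset.range M \ S, x + ∑ x ∈ S, x = baseSum M := Finset.sum_sdiff h
  have hpair : ∑ x ∈ starSet M S, x + ∑ x ∈ Finset.range M \ S, x =
      (starSet M S).card * (M - 1) := by
    rw [starSet, Finset.sum_image hinj, ← Finset.sum_add_distrib,
      Finset.card_image_of_injOn hinj, Finset.sum_congr rfl fun x hx => show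
        M - 1 - x + x = M - 1 by
          have := Finset.mem_range.1 (Finset.mem_sdiff.1 hx).1; omega,
      Finset.sum_const, smul_eq_mul]
  have hM := baseSum_double M
  have hS := baseSum_double S.card
  have hT := baseSum_double (starSet M S).card
  rcases Nat.eq_zero_or_pos M with rfl | hM0
  · have : S = ∅ := by rw [← Finset.subset_empty]; simpa using h
    subst this
    simp [starSet]
  obtain ⟨M', rfl⟩ : ∃ M', M = M' + 1 := ⟨M - 1, by omega⟩
  rw [Nat.add_sub_cancel] at hpair
  set u := (starSet (M' + 1) S).card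
  set v := S.card
  have hM' : M' + 1 = u + v := hc.symm
  nlinarith [hpair, hsd, hM, hS, hT, hM']

theorem subset_range_of_mem_Beta {n : ℕ} {S : Finset ℕ} (hS : S ∈ Beta N n) :
    S ⊆ Finset.range (N + n) := by
  intro x hx
  obtain ⟨hc, hs⟩ := mem_Beta.1 hS
  have h1 := baseSum_le (s := S.erase x) (g := fun y => y) Function.injective_id.injOn
  rw [Finset.card_erase_of_mem hx, hc] at h1
  have h2 := Finset.add_sum_erase S (fun y => y) hx
  obtain ⟨N', rfl⟩ : ∃ N', N = N' + 1 := ⟨N - 1, by
    have : 0 < S.card := Finset.card_pos.2 ⟨x, hx⟩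
    omega⟩
  rw [Nat.add_sub_cancel] at h1
  rw [baseSum, Finset.sum_range_succ, ← baseSum] at hs
  rw [Finset.mem_range]
  have h3 : x + (∑ y ∈ S.erase x, y) = ∑ y ∈ S, y := h2
  have h4 : baseSum N' ≤ ∑ y ∈ S.erase x, y := h1
  omega

theorem subset_range_two {n : ℕ} (hn : n ≤ N) {S : Finset ℕ} (hS : S ∈ Beta N n) :
    S ⊆ Finset.range (2 * N) :=
  (subset_range_of_mem_Beta hS).trans (Finset.range_mono (by omega))

theorem starSet_mem_Beta {n : ℕ} (hn : n ≤ N) {S : Finset ℕ} (hS : S ∈ Beta N n) :
    starSet (2 * N) S ∈ Beta N n := by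
  obtain ⟨hc, hs⟩ := mem_Beta.1 hS
  obtain ⟨h1, h2⟩ := starSet_card_sum (subset_range_two hn hS)
  have h3 : (starSet (2 * N) S).card = N := by omega
  rw [hc, h3] at h2
  exact mem_Beta.2 ⟨h3, by omega⟩

theorem betw_star {M : ℕ} {S : Finset ℕ} {k b : ℕ} (hk : 0 < k) (hkb : k ≤ b) (hbM : b < M) :
    betw (starSet M S) (M - 1 - b) (M - 1 - (b - k)) + betw S (b - k) b = k - 1 := by
  have h1 : betw (starSet M S) (M - 1 - b) (M - 1 - (b - k)) =
      ((Finset.Ioo (b - k) b).filter fun x => x ∉ S).card := by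
    rw [betw]
    refine Finset.card_bij' (fun y _ => M - 1 - y) (fun x _ => M - 1 - x) ?_ ?_ ?_ ?_
    · intro y hy
      simp only [Finset.mem_filter, mem_starSet] at hy
      simp only [Finset.mem_filter, Finset.mem_Ioo]
      exact ⟨by omega, hy.1.2⟩
    · intro x hx
      simp only [Finset.mem_filter, Finset.mem_Ioo] at hx
      simp only [Finset.mem_filter, mem_starSet]
      exact ⟨⟨by omega, by rw [show M - 1 - (M - 1 - x) = x by omega]; exact hx.2⟩, by omega⟩
    · intro y hy
      simp only [Finset.mem_filter, mem_starSet] at hy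
      omega
    · intro x hx
      simp only [Finset.mem_filter, Finset.mem_Ioo] at hx
      omega
  have h2 : betw S (b - k) b = ((Finset.Ioo (b - k) b).filter fun x => x ∈ S).card := by
    rw [betw]
    congr 1
    ext x
    simp only [Finset.mem_filter, Finset.mem_Ioo]
    tauto
  rw [h1, h2, add_comm, Finset.card_filter_add_card_filter_not, Nat.card_Ioo]
  omega

theorem star_moveDown {M : ℕ} {S : Finset ℕ} (hS : S ⊆ Finset.range M) {k b : ℕ} (hk : 0 < k)
    (hb : b ∈ movable S k) :
    M - 1 - (b - k) ∈ movable (starSet M S) k ∧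
      moveDown (starSet M S) k (M - 1 - (b - k)) = starSet M (moveDown S k b) := by
  obtain ⟨hbS, hkb, hfree⟩ := Finset.mem_filter.1 hb
  have hbM := Finset.mem_range.1 (hS hbS)
  refine ⟨Finset.mem_filter.2 ⟨mem_starSet.2 ⟨by omega, ?_⟩, by omega, fun h => ?_⟩, ?_⟩
  · rwa [show M - 1 - (M - 1 - (b - k)) = b - k by omega]
  · rw [mem_starSet] at h
    exact h.2 (by rwa [show M - 1 - (M - 1 - (b - k) - k) = b by omega])
  · ext y
    simp only [moveDown, Finset.mem_insert, Finset.mem_erase, mem_starSet]
    constructor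
    · rintro (rfl | ⟨hne, hy, hyS⟩)
      · refine ⟨by omega, ?_⟩
        rw [show M - 1 - (M - 1 - (b - k) - k) = b by omega]
        rintro (h | h)
        · omega
        · exact h.1 rfl
      · refine ⟨hy, ?_⟩
        rintro (h | h)
        · omega
        · exact hyS h.2
    · rintro ⟨hy, h⟩
      push Not at h
      by_cases hyb : M - 1 - y = b
      · left; omega
      · right
        exact ⟨fun e => h.1 (by omega), hy, fun hh => h.2 hyb hh⟩

theorem neg_one_pow_cancel {a b m : ℕ} (h : a + b = m) :
    (-1 : ℤ) ^ a = (-1) ^ m * (-1) ^ b := by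
  rw [← h, pow_add, mul_assoc, ← pow_add, ← two_mul, pow_mul]
  simp

/-- **Conjugation multiplies by the sign.** -/
theorem chiX_star : ∀ (c : Multiset ℕ) {n : ℕ} {S : Finset ℕ}, n ≤ N → S ∈ Beta N n →
    (∀ k ∈ c, 0 < k) → c.sum = n →
    chiX (canon N (starSet (2 * N) S)) c = (-1) ^ (c.sum + c.card) * chiX (canon N S) c := by
  intro c
  induction c using Multiset.induction_on with
  | empty =>
    intro n S _ hS _ hsum
    simp only [Multiset.sum_zero] at hsum
    subst hsum
    obtain ⟨hc, hs⟩ := mem_Beta.1 hS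
    have hS0 : S = Finset.range N := eq_range_of_sum hc (by simpa using hs)
    have hstar : starSet (2 * N) S = S := by
      ext y
      rw [mem_starSet, hS0, Finset.mem_range, Finset.mem_range]
      omega
    simp [hstar]
  | cons k c ih =>
    intro n S hn hS hpos hsum
    have hk : 0 < k := hpos k (Multiset.mem_cons_self _ _)
    have hSr := subset_range_two hn hS
    have hS' := starSet_mem_Beta hn hS
    rw [chiX_canon_cons (mem_Beta.1 hS').1 k hk, chiX_canon_cons (mem_Beta.1 hS).1 k hk,
      Finset.mul_sum]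
    refine Finset.sum_bij' (fun b _ => 2 * N - 1 - (b - k)) (fun b _ => 2 * N - 1 - (b - k))
      ?_ ?_ ?_ ?_ ?_
    · intro b hb
      have := (star_moveDown (starSet_subset _ S) hk hb).1
      rwa [starSet_starSet hSr] at this
    · exact fun b hb => (star_moveDown hSr hk hb).1
    · intro b hb
      obtain ⟨hb1, hb2, -⟩ := Finset.mem_filter.1 hb
      have := Finset.mem_range.1 (starSet_subset _ S hb1)
      omega
    · intro b hb
      obtain ⟨hb1, hb2, -⟩ := Finset.mem_filter.1 hb
      have := Finset.mem_range.1 (hSr hb1)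
      omega
    · intro b hb
      obtain ⟨hb1, hb2, -⟩ := Finset.mem_filter.1 hb
      have hbr := Finset.mem_range.1 (starSet_subset _ S hb1)
      set b' := 2 * N - 1 - (b - k) with hb'
      have hmov : b' ∈ movable S k := by
        have := (star_moveDown (starSet_subset _ S) hk hb).1
        rwa [starSet_starSet hSr] at this
      obtain ⟨hb'1, hb'2, -⟩ := Finset.mem_filter.1 hmov
      obtain ⟨hkn, hT⟩ := moveDown_mem_Beta hS hk hmov
      have hb'' : 2 * N - 1 - (b' - k) = b := by omega
      have hmd : moveDown (starSet (2 * N) S) k b = starSet (2 * N) (moveDown S k b') := by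
        rw [← hb'']; exact (star_moveDown hSr hk hmov).2
      have hsum' : c.sum = n - k := by rw [Multiset.sum_cons] at hsum; omega
      rw [hmd, ih (n := n - k) (by omega) hT (fun x hx => hpos x (Multiset.mem_cons_of_mem hx)) hsum',
        Multiset.sum_cons, Multiset.card_cons]
      have hbt := betw_star (S := S) hk hb'2 (Finset.mem_range.1 (hSr hb'1))
      rw [hb'', show 2 * N - 1 - b' = b - k by omega] at hbt
      rw [neg_one_pow_cancel hbt, show k + c.sum + (c.card + 1) = (k - 1) + (c.sum + c.card) + 2 by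
        omega, pow_add, pow_add, pow_two]
      ring

/-- Runners of the reflected complement, when `p` divides the range. -/
theorem runner_starSet {p M r : ℕ} (hr : r < p) {S : Finset ℕ}
    (hS : S ⊆ Finset.range (p * M)) :
    runner p (starSet (p * M) S) (p - 1 - r) = starSet M (runner p S r) ∧
      runner p S r ⊆ Finset.range M := by
  have hp : 0 < p := by omega
  have hsub : runner p S r ⊆ Finset.range M := by
    intro a ha
    obtain ⟨x, hx, rfl⟩ := Finset.mem_image.1 ha
    exact Finset.mem_range.2 (Nat.div_lt_of_lt_mul (Finset.mem_range.1 (hS (Finset.mem_filter.1 hx).1)))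
  refine ⟨?_, hsub⟩
  have hmem : ∀ (U : Finset ℕ) (r a : ℕ), r < p → (a ∈ runner p U r ↔ r + p * a ∈ U) := by
    intro U r a hr
    constructor
    · intro h
      obtain ⟨x, hx, rfl⟩ := Finset.mem_image.1 h
      obtain ⟨h1, h2⟩ := Finset.mem_filter.1 hx
      rwa [← h2, Nat.mod_add_div]
    · intro h
      refine Finset.mem_image.2 ⟨r + p * a, Finset.mem_filter.2 ⟨h, ?_⟩, ?_⟩
      · rw [Nat.add_mul_mod_self_left, Nat.mod_eq_of_lt hr]
      · rw [Nat.add_mul_div_left _ _ hp, Nat.div_eq_of_lt hr, Nat.zero_add]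
  ext a
  rw [hmem _ _ _ (by omega), mem_starSet, mem_starSet, hmem _ _ _ hr]
  constructor
  · rintro ⟨h1, h2⟩
    have ha : a < M := by
      by_contra hcon
      have := Nat.mul_le_mul_left p (not_lt.1 hcon)
      omega
    refine ⟨ha, fun h => h2 ?_⟩
    obtain ⟨d, rfl⟩ := Nat.exists_eq_add_of_lt ha
    rw [show a + d + 1 - 1 - a = d by omega] at h
    convert h using 1
    rw [Nat.mul_add, Nat.mul_add, Nat.mul_one]
    omega
  · rintro ⟨ha, h⟩
    obtain ⟨d, rfl⟩ := Nat.exists_eq_add_of_lt ha
    rw [show a + d + 1 - 1 - a = d by omega] at h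
    have hh : p * (a + d + 1) = p * a + p * d + p := by
      rw [Nat.mul_add, Nat.mul_add, Nat.mul_one]
    refine ⟨by omega, fun h' => h ?_⟩
    convert h' using 1
    omega

/-- Residue counts of the reflected complement. -/
theorem resKey_star {p M n : ℕ} (hM : 2 * N = p * M) (hn : n ≤ N) {q : ℕ → ℕ} {S : Finset ℕ}
    (hS : S ∈ Beta N n) (hkey : resKey p (canon N S) = q) {r : ℕ} (hr : r < p) :
    resKey p (canon N (starSet (2 * N) S)) (p - 1 - r) + q r = M := by
  obtain ⟨hc, -⟩ := baseSum_le_runner (r := r) hS hkey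
  obtain ⟨hc', -⟩ := runner_facts (p := p) (r := p - 1 - r) (mem_Beta.1 (starSet_mem_Beta hn hS)).1
  obtain ⟨h1, h2⟩ := runner_starSet (M := M) hr (S := S) (hM ▸ subset_range_two hn hS)
  rw [← hc', ← hc, hM, h1]
  exact (starSet_card_sum h2).1

end Cfsg.Agent.SymChar
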