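import Cfsg.Agent.Lib.SymChar.Blocks
import Cfsg.Agent.Lib.SymChar.Conjugate
import Cfsg.Agent.Lib.BlocksX.MaxCovering
import Mathlib.GroupTheory.SpecificGroups.Alternating

/-!
# Blocks of alternating groups and residue counts

The characters of a block of `A_n` lie under the characters with residue counts `q` (or the
conjugate counts), so its `p`-regular rank is at most the number of sets with counts `q` and one
empty runner plus the number of self-conjugate sets with counts `q`.
-/

namespace Cfsg.Agent.SymChar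

open Finset Equiv Cfsg
open scoped ComplexConjugate

set_option linter.style.haveILetI false
set_option linter.unusedSectionVars false

variable {N n : ℕ}

theorem sign_cycParts (σ : Equiv.Perm (Fin n)) :
    (Equiv.Perm.sign σ : ℤ) = (-1) ^ ((cycParts σ).sum + (cycParts σ).card) := by
  rw [Equiv.Perm.sign_of_cycleType, cycParts_eq, Multiset.sum_add, Multiset.card_add,
    Multiset.sum_replicate, Multiset.card_replicate, smul_eq_mul, mul_one, Units.val_pow_eq_pow_val,
    Units.val_neg, Units.val_one]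
  rw [show σ.cycleType.sum + (n - σ.support.card) + (σ.cycleType.card + (n - σ.support.card)) =
    σ.cycleType.sum + σ.cycleType.card + 2 * (n - σ.support.card) by ring]
  simp [pow_add, pow_mul]

theorem chiX_star_perm (hn : n ≤ N) {S : Finset ℕ} (hS : S ∈ Beta N n)
    (σ : Equiv.Perm (Fin n)) :
    chiX (canon N (starSet (2 * N) S)) (cycParts σ) =
      (Equiv.Perm.sign σ : ℤ) * chiX (canon N S) (cycParts σ) := by
  obtain ⟨hpos, hsum⟩ := mem_Parts.1 (cycParts_mem σ)
  rw [sign_cycParts, chiX_star (cycParts σ) hn hS hpos hsum]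

theorem isPRegular_coe {p : ℕ} (a : alternatingGroup (Fin n)) :
    IsPRegular p (a : Equiv.Perm (Fin n)) ↔ IsPRegular p a := by
  rw [IsPRegular, IsPRegular, Subgroup.orderOf_coe]

/-- The characters with residue counts `q`, or the conjugate counts. -/
def conjKeySet (p N n : ℕ) (q : ℕ → ℕ) : Set (IrrCharacter (Equiv.Perm (Fin n))) :=
  {χ | ∃ S, ∃ hS : S ∈ Beta N n, χ = irrOf S hS ∧
    (resKey p (canon N S) = q ∨ resKey p (canon N (starSet (2 * N) S)) = q)}

theorem resKey_of_le {p : ℕ} (hp : 0 < p) (l : Fin N → ℕ) {r : ℕ} (hr : p ≤ r) :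
    resKey p l r = 0 := by
  rw [resKey, Finset.card_eq_zero, Finset.filter_eq_empty_iff]
  intro i _ h
  have := Nat.mod_lt (l i) hp
  omega

theorem resKey_star_congr {p M : ℕ} (hp : 0 < p) (hM : 2 * N = p * M) (hn : n ≤ N)
    {S T : Finset ℕ} (hS : S ∈ Beta N n) (hT : T ∈ Beta N n)
    (h : resKey p (canon N S) = resKey p (canon N T)) :
    resKey p (canon N (starSet (2 * N) S)) = resKey p (canon N (starSet (2 * N) T)) := by
  funext r
  by_cases hr : r < p
  · have h1 := resKey_star hM hn hS rfl (r := p - 1 - r) (by omega)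
    have h2 := resKey_star hM hn hT rfl (r := p - 1 - r) (by omega)
    rw [show p - 1 - (p - 1 - r) = r by omega] at h1 h2
    rw [h] at h1
    omega
  · rw [resKey_of_le hp _ (not_lt.1 hr), resKey_of_le hp _ (not_lt.1 hr)]

theorem conjKeySet_closed {p M : ℕ} [hp : Fact p.Prime] (hM : 2 * N = p * M) (hn : n ≤ N)
    {I : Ideal AlgInt} [I.IsMaximal] (hpI : (p : AlgInt) ∈ I) (q : ℕ → ℕ) :
    ∀ χ ∈ conjKeySet p N n q, blockOf I χ.1 ⊆ conjKeySet p N n q := by
  classical
  rintro _ ⟨S, hS, rfl, hq⟩ ψ hψ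
  have hsub : blockOf I (irrOf S hS).1 ⊆ keySet p N n (resKey p (canon N S)) :=
    Blocks.blockOf_subset_of_scoeff
      (Blocks.scoeff_of_weak_orthogonality hpI _
        fun x y hx hy => weak_orth_keySet hp.out hn _ hx hy) ⟨S, hS, rfl, rfl⟩
  obtain ⟨T, hT, rfl, hkey⟩ := hsub hψ
  refine ⟨T, hT, rfl, ?_⟩
  rcases hq with hq | hq
  · exact Or.inl (hkey.trans hq)
  · exact Or.inr ((resKey_star_congr hp.out.pos hM hn hT hS hkey).trans hq)

open Classical in
theorem blockCoeff_odd {p : ℕ} (hn : n ≤ N) (q : ℕ → ℕ) {g : Equiv.Perm (Fin n)}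
    (hg : Equiv.Perm.sign g = -1) : blockCoeff (conjKeySet p N n q) g = 0 := by
  rw [Blocks.blockCoeff_eq_sum]
  refine mul_eq_zero_of_right _ ?_
  set K := (Beta N n).filter fun S =>
    resKey p (canon N S) = q ∨ resKey p (canon N (starSet (2 * N) S)) = q with hK
  let T : Finset ℕ → ℂ := fun S =>
    (chiX (canon N S) (cycParts (1 : Equiv.Perm (Fin n))) : ℂ) * chiX (canon N S) (cycParts g)
  have hsum : ∑ S ∈ K, T S =
      ∑ χ ∈ Finset.univ.filter (· ∈ conjKeySet p N n q), χ.1 1 * conj (χ.1 g) := by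
    refine Finset.sum_bij (fun S hS => irrOf S (Finset.mem_filter.1 hS).1) ?_ ?_ ?_ ?_
    · intro S hS
      exact Finset.mem_filter.2 ⟨Finset.mem_univ _, S, _, rfl, (Finset.mem_filter.1 hS).2⟩
    · intro a ha b hb h
      exact irrOf_injective _ _ h
    · intro χ hχ
      obtain ⟨S, hS, rfl, hq⟩ := (Finset.mem_filter.1 hχ).2
      exact ⟨S, Finset.mem_filter.2 ⟨hS, hq⟩, rfl⟩
    · intro S hS
      obtain ⟨ε, hε, hv⟩ := irrOf_spec (Finset.mem_filter.1 hS).1
      have hε' : (ε : ℂ) * ε = 1 := by exact_mod_cast hε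
      simp only [T, hv, map_mul, map_intCast]
      linear_combination (-(chiX (canon N S) (cycParts (1 : Equiv.Perm (Fin n))) : ℂ) *
        chiX (canon N S) (cycParts g)) * hε'
  rw [← hsum]
  have hneg : ∀ S ∈ K, T (starSet (2 * N) S) = - T S := fun S hS => by
    simp only [T, chiX_star_perm hn (Finset.mem_filter.1 hS).1, hg, map_one]
    push_cast
    ring
  refine Finset.sum_involution (fun S _ => starSet (2 * N) S) ?_ ?_ ?_ ?_
  · intro S hS
    rw [hneg S hS, add_neg_cancel]
  · intro S hS hT he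
    have := hneg S hS
    rw [he] at this
    exact hT (CharZero.eq_neg_self_iff.1 this)
  · intro S hS
    obtain ⟨hB, hq⟩ := Finset.mem_filter.1 hS
    refine Finset.mem_filter.2 ⟨starSet_mem_Beta hn hB, ?_⟩
    rw [starSet_starSet (subset_range_two hn hB)]
    exact hq.symm
  · intro S hS
    exact starSet_starSet (subset_range_two hn (Finset.mem_filter.1 hS).1)

theorem exists_resFun_star (hn : n ≤ N) {S : Finset ℕ} (hS : S ∈ Beta N n) :
    ∃ c : ℂ, c ≠ 0 ∧ Char.resFun (alternatingGroup (Fin n))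
        (irrOf (starSet (2 * N) S) (starSet_mem_Beta hn hS)).1 =
      c • Char.resFun (alternatingGroup (Fin n)) (irrOf S hS).1 := by
  obtain ⟨ε, hε, hv⟩ := irrOf_spec hS
  obtain ⟨δ, hδ, hw⟩ := irrOf_spec (starSet_mem_Beta hn hS)
  have hε' : (ε : ℂ) * ε = 1 := by exact_mod_cast hε
  have hδ' : (δ : ℂ) * δ = 1 := by exact_mod_cast hδ
  refine ⟨(δ : ℂ) * ε, mul_ne_zero (left_ne_zero_of_mul_eq_one hδ')
    (left_ne_zero_of_mul_eq_one hε'), funext fun a => ?_⟩
  simp only [Char.resFun_apply, Pi.smul_apply, smul_eq_mul, hv, hw, chiX_star_perm hn hS,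
    Equiv.Perm.mem_alternatingGroup.1 a.2, Units.val_one, one_mul]
  linear_combination (-(δ : ℂ) * chiX (canon N S) (cycParts (a : Equiv.Perm (Fin n)))) * hε'

/-- The key of a block of the alternating group: every member lies under a set with this key. -/
def CoversKey (p N n : ℕ) (q : ℕ → ℕ) (b : Set (IrrCharacter (alternatingGroup (Fin n)))) : Prop :=
  ∀ θ ∈ b, ∃ S, ∃ hS : S ∈ Beta N n, resKey p (canon N S) = q ∧
    classInner (Char.resFun (alternatingGroup (Fin n)) (irrOf S hS).1) θ.1 ≠ 0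

theorem exists_coversKey {p M : ℕ} [hp : Fact p.Prime] (hM : 2 * N = p * M) (hn : n ≤ N)
    {I : Ideal AlgInt} [I.IsMaximal] (hpI : (p : AlgInt) ∈ I)
    {b : Set (IrrCharacter (alternatingGroup (Fin n)))} (hb : IsPBlock I b) :
    ∃ q : ℕ → ℕ, CoversKey p N n q b := by
  classical
  obtain ⟨θ₀, hθ₀⟩ := Blocks.block_nonempty hb
  obtain ⟨χ₀, hχ₀⟩ := BlocksX.exists_over (alternatingGroup (Fin n)) θ₀
  obtain ⟨S₀, hS₀, rfl⟩ := exists_irrOf hn χ₀
  refine ⟨resKey p (canon N S₀), fun θ hθ => ?_⟩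
  obtain ⟨ψ, hψ⟩ := BlocksX.exists_over (alternatingGroup (Fin n)) θ
  set q := resKey p (canon N S₀)
  haveI := Fintype.ofFinite (ConjClasses (Equiv.Perm (Fin n)))
  have hK : ψ ∈ conjKeySet p N n q := by
    by_contra hn'
    refine Blocks.not_memLocalIdeal_one (M := I) ?_
    have hS := BlocksX.scoeff_blockIdem_of_closed (conjKeySet p N n q)
      (conjKeySet_closed hM hn hpI q)
    have hc := Blocks.isCentralElt_blockIdem (conjKeySet p N n q)
    have h1 : Blocks.omega (irrOf S₀ hS₀).1 (Blocks.blockIdem (conjKeySet p N n q)) -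
        Blocks.omega ψ.1 (Blocks.blockIdem (conjKeySet p N n q)) = 1 := by
      rw [Blocks.omega_blockIdem, Blocks.omega_blockIdem,
        if_pos (show irrOf S₀ hS₀ ∈ conjKeySet p N n q from ⟨S₀, hS₀, rfl, Or.inl rfl⟩),
        if_neg hn', sub_zero]
    rw [← h1, Blocks.omega_eq_sum_classes _ hc, Blocks.omega_eq_sum_classes _ hc,
      ← Finset.sum_sub_distrib]
    refine Blocks.MemLocalIdeal.sum _ fun C _ => ?_
    rw [← mul_sub]
    rcases Int.units_eq_one_or (Equiv.Perm.sign C.out) with hev | hodd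
    · refine Blocks.MemLocalIdeal.mul_left (hS _) ?_
      have hmem : C.out ∈ alternatingGroup (Fin n) := Equiv.Perm.mem_alternatingGroup.2 hev
      rw [show C.out = ((⟨C.out, hmem⟩ : alternatingGroup (Fin n)) : Equiv.Perm (Fin n)) from rfl,
        BlocksX.centralChar_eq_of_constituent _ _ θ₀ hχ₀,
        BlocksX.centralChar_eq_of_constituent _ _ θ hψ]
      exact BlocksX.inducedCentralChar_sub _ (Blocks.sameBlock_of_mem hb hθ₀ hθ) _
    · rw [Blocks.coeff_blockIdem, blockCoeff_odd hn q hodd, zero_mul]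
      exact Blocks.memLocalIdeal_zero
  obtain ⟨S, hS, rfl, hq | hq⟩ := hK
  · exact ⟨S, hS, hq, hψ⟩
  · refine ⟨_, starSet_mem_Beta hn hS, hq, ?_⟩
    obtain ⟨c, hc, he⟩ := exists_resFun_star hn hS
    rw [he, Char.classInner_smul_left]
    exact mul_ne_zero hc hψ

/-- The self-conjugate sets with residue counts `q`. -/
noncomputable def fixedSets (N p n : ℕ) (q : ℕ → ℕ) : Finset (Finset ℕ) :=
  by classical exact (Beta N n).filter fun S => resKey p (canon N S) = q ∧ starSet (2 * N) S = S

theorem mem_fixedSets {p : ℕ} {q : ℕ → ℕ} {S : Finset ℕ} :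
    S ∈ fixedSets N p n q ↔ S ∈ Beta N n ∧ resKey p (canon N S) = q ∧ starSet (2 * N) S = S := by
  classical
  simp [fixedSets]

theorem classInner_res_irrOf (h2 : 2 ≤ n) (hn : n ≤ N) {S : Finset ℕ} (hS : S ∈ Beta N n) :
    classInner (Char.resFun (alternatingGroup (Fin n)) (irrOf S hS).1)
        (Char.resFun (alternatingGroup (Fin n)) (irrOf S hS).1) =
      1 + (if starSet (2 * N) S = S then 1 else 0) := by
  classical
  haveI : Nontrivial (Fin n) := Fin.nontrivial_iff_two_le.2 h2
  obtain ⟨ε, hε, hv⟩ := irrOf_spec hS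
  have hε' : (ε : ℂ) * ε = 1 := by exact_mod_cast hε
  let f : Equiv.Perm (Fin n) → ℂ := fun σ =>
    (chiX (canon N S) (cycParts σ) : ℂ) * chiX (canon N S) (cycParts σ)
  have hA : ∑ a : alternatingGroup (Fin n), f a =
      ∑ σ ∈ Finset.univ.filter (fun σ => Equiv.Perm.sign σ = 1), f σ :=
    (Finset.sum_subtype _ (fun σ => by simp [Equiv.Perm.mem_alternatingGroup]) f).symm
  have h2A : 2 * ∑ σ ∈ Finset.univ.filter (fun σ => Equiv.Perm.sign σ = 1), f σ =
      ∑ σ, f σ + ∑ σ, ((Equiv.Perm.sign σ : ℤ) : ℂ) * f σ := by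
    rw [Finset.mul_sum, Finset.sum_filter, ← Finset.sum_add_distrib]
    refine Finset.sum_congr rfl fun σ _ => ?_
    rcases Int.units_eq_one_or (Equiv.Perm.sign σ) with h | h <;> simp [h, two_mul]
  have horth1 := classInner_symFun (n := n) (sum_canon_of_mem hS) (sum_canon_of_mem hS)
  have horth2 := classInner_symFun (n := n)
    (sum_canon_of_mem (starSet_mem_Beta hn hS)) (sum_canon_of_mem hS)
  rw [classInner, detD_self (canon_injective (mem_Beta.1 hS).1)] at horth1
  rw [classInner] at horth2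
  have hd : detD (canon N (starSet (2 * N) S)) (canon N S) =
      if starSet (2 * N) S = S then 1 else 0 := by
    have h := orthonormal_canon (starSet_mem_Beta hn hS) hS
    rw [orthonormal n _ _ (sum_canon_of_mem (starSet_mem_Beta hn hS)) (sum_canon_of_mem hS)] at h
    split_ifs at h ⊢ <;> exact_mod_cast h
  have hcard : (Fintype.card (Equiv.Perm (Fin n)) : ℂ) =
      2 * (Fintype.card (alternatingGroup (Fin n)) : ℂ) := by
    rw [← two_mul_card_alternatingGroup]; push_cast; ring
  have hG0 : (Fintype.card (Equiv.Perm (Fin n)) : ℂ) ≠ 0 := Nat.cast_ne_zero.2 Fintype.card_ne_zero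
  have hA0 : (Fintype.card (alternatingGroup (Fin n)) : ℂ) ≠ 0 :=
    Nat.cast_ne_zero.2 Fintype.card_ne_zero
  rw [classInner]
  simp only [Char.resFun_apply, hv, map_mul, map_intCast, Nat.card_eq_fintype_card]
  simp only [symFun, map_intCast, chiX_star_perm hn hS, Int.cast_mul,
    Nat.card_eq_fintype_card] at horth1 horth2
  rw [hd] at horth2
  have hterm : ∀ a : alternatingGroup (Fin n),
      (ε : ℂ) * chiX (canon N S) (cycParts (a : Equiv.Perm (Fin n))) *
        ((ε : ℂ) * chiX (canon N S) (cycParts (a : Equiv.Perm (Fin n)))) = f a := fun a => by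
    simp only [f]
    linear_combination ((chiX (canon N S) (cycParts (a : Equiv.Perm (Fin n))) : ℂ) *
      chiX (canon N S) (cycParts (a : Equiv.Perm (Fin n)))) * hε'
  rw [Finset.sum_congr rfl fun a _ => hterm a, hA]
  have e1 : ∑ σ, f σ = (Fintype.card (Equiv.Perm (Fin n)) : ℂ) := by
    simp only [f]
    field_simp at horth1
    simp only [Int.cast_one, mul_one] at horth1
    rw [← horth1]
    exact Finset.sum_congr rfl fun σ _ => by ring
  have e2 : ∑ σ, ((Equiv.Perm.sign σ : ℤ) : ℂ) * f σ =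
      (Fintype.card (Equiv.Perm (Fin n)) : ℂ) * (if starSet (2 * N) S = S then 1 else 0) := by
    simp only [f, ← mul_assoc]
    rw [show ((if starSet (2 * N) S = S then (1 : ℤ) else 0 : ℤ) : ℂ) =
      (if starSet (2 * N) S = S then 1 else 0 : ℂ) by split_ifs <;> simp] at horth2
    rw [← horth2, ← mul_assoc, mul_inv_cancel₀ hG0, one_mul]
  rw [e1, e2, hcard] at h2A
  field_simp
  linear_combination h2A / 2

theorem constituent_cases {G : Type*} [Group G] [Fintype G] {ρ : G → ℂ} (hρ : IsCharacter G ρ)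
    {k : ℕ} (hk : classInner ρ ρ = k) {η : IrrCharacter G} (hη : classInner ρ η.1 ≠ 0) :
    (k ≤ 1 → ρ = η.1) ∧
      (k ≤ 2 → ∀ θ : IrrCharacter G, classInner ρ θ.1 ≠ 0 → θ ≠ η → ρ = θ.1 + η.1) := by
  classical
  obtain ⟨m, hm, hm'⟩ := Char.IsCharacter.exists_decomp hρ
  have hsq : ∑ ψ, m ψ ^ 2 = k := by
    have h : (∑ ψ, ((m ψ : ℤ) : ℤ) ^ 2 : ℤ) = (k : ℤ) := by
      have := Char.IsGeneralizedCharacter.classInner_self_eq_sum (θ := ρ)
        (m := fun ψ => (m ψ : ℤ)) (by rw [hm]; simp)
      rw [hk] at this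
      exact_mod_cast this.symm
    exact_mod_cast h
  have hne : ∀ ψ : IrrCharacter G, classInner ρ ψ.1 ≠ 0 → 1 ≤ m ψ ^ 2 := fun ψ hψ => by
    have : m ψ ≠ 0 := fun h => hψ (by rw [hm' ψ, h, Nat.cast_zero])
    exact Nat.one_le_pow _ _ (Nat.pos_of_ne_zero this)
  have hself : ∀ x : ℕ, x ^ 2 = 1 → x = 1 := fun x h => by nlinarith
  constructor
  · intro hk1
    rw [← Finset.add_sum_erase _ _ (Finset.mem_univ η)] at hsq
    have h1 := hne η hη
    have hrest := (Finset.sum_eq_zero_iff (f := fun ψ => m ψ ^ 2) (s := Finset.univ.erase η)).1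
      (show ∑ ψ ∈ Finset.univ.erase η, m ψ ^ 2 = 0 by omega)
    rw [hm, Finset.sum_eq_single η]
    · rw [hself (m η) (by omega), Nat.cast_one, one_smul]
    · intro ψ _ hψ
      have := hrest ψ (Finset.mem_erase.2 ⟨hψ, Finset.mem_univ _⟩)
      rw [pow_eq_zero_iff two_ne_zero] at this
      rw [this, Nat.cast_zero, zero_smul]
    · simp
  · intro hk2 θ hθ hne'
    rw [← Finset.add_sum_erase _ _ (Finset.mem_univ η),
      ← Finset.add_sum_erase _ _ (Finset.mem_erase.2 ⟨hne', Finset.mem_univ θ⟩)] at hsq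
    have h1 := hne η hη
    have h2 := hne θ hθ
    have hrest := (Finset.sum_eq_zero_iff (f := fun ψ => m ψ ^ 2)
      (s := (Finset.univ.erase η).erase θ)).1
      (show ∑ ψ ∈ (Finset.univ.erase η).erase θ, m ψ ^ 2 = 0 by omega)
    rw [hm, ← Finset.add_sum_erase _ _ (Finset.mem_univ η),
      ← Finset.add_sum_erase _ _ (Finset.mem_erase.2 ⟨hne', Finset.mem_univ θ⟩),
      Finset.sum_eq_zero, hself (m η) (by omega), hself (m θ) (by omega), Nat.cast_one, one_smul,
      one_smul, add_zero, add_comm]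
    intro ψ hψ
    have := hrest ψ hψ
    rw [pow_eq_zero_iff two_ne_zero] at this
    rw [this, Nat.cast_zero, zero_smul]

/-- The regular part of a tuple on the alternating group. -/
noncomputable def altReg (p : ℕ) {N n : ℕ} (l : Fin N → ℕ) : alternatingGroup (Fin n) → ℂ :=
  pRegularPart p fun a : alternatingGroup (Fin n) => symFun n l (a : Equiv.Perm (Fin n))

theorem pRegularPart_smul {G : Type*} [Group G] (p : ℕ) (c : ℂ) (f : G → ℂ) :
    pRegularPart p (c • f) = c • pRegularPart p f := by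
  funext g
  by_cases hg : IsPRegular p g <;> simp [pRegularPart, hg]

theorem pRegularPart_sub {G : Type*} [Group G] (p : ℕ) (f f' : G → ℂ) :
    pRegularPart p (f - f') = pRegularPart p f - pRegularPart p f' := by
  funext g
  by_cases hg : IsPRegular p g <;> simp [pRegularPart, hg]

theorem blockRank_alt_le {p : ℕ} [hp : Fact p.Prime] (h2 : 2 ≤ n) (hn : n ≤ N) (q : ℕ → ℕ)
    {r₀ : ℕ} (hr₀ : r₀ < p) {b : Set (IrrCharacter (alternatingGroup (Fin n)))}
    (hb : CoversKey p N n q b) (G' : Finset (Finset ℕ))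
    (hG : ∀ S ∈ goodSets N p n q r₀, S ∈ G' ∨ starSet (2 * N) S ∈ G') :
    blockRank p b ≤ G'.card + (fixedSets N p n q).card := by
  classical
  let v : (Fin N → ℕ) → (alternatingGroup (Fin n) → ℂ) := fun l => altReg p l
  have hv : IsAlt v := fun l σ => by
    funext g
    simp only [v, altReg, pRegularPart, symFun, Pi.smul_apply, chiX_comp, zsmul_eq_mul]
    by_cases hg : IsPRegular p g <;> simp [hg]
  have hrel : ∀ K, 0 < K → p ∣ K → K ≤ n → ∀ t : Fin N → ℕ,
      ∑ i, t i = baseSum N + (n - K) → ∑ i, v (inc t i K) = 0 := by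
    intro K hK hpK hKn t ht
    funext g
    simp only [v, altReg, Finset.sum_apply, pRegularPart, symFun, Pi.zero_apply]
    by_cases hg : IsPRegular p g
    · simp only [hg, if_true]
      exact sum_inc_chiX hn (cycParts_mem _) hK hKn
        (fun h => not_dvd_of_regular hp.out ((isPRegular_coe g).2 hg) h hpK) ht
    · simp [hg]
  -- one constituent for each self-conjugate set
  let θ0 : {S // S ∈ fixedSets N p n q} → IrrCharacter (alternatingGroup (Fin n)) := fun S =>
    (Char.exists_constituent (alternatingGroup (Fin n))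
      (irrOf S.1 (mem_fixedSets.1 S.2).1)).choose
  have hθ0 : ∀ S, classInner (Char.resFun (alternatingGroup (Fin n))
      (irrOf S.1 (mem_fixedSets.1 S.2).1).1) (θ0 S).1 ≠ 0 :=
    fun S => (Char.exists_constituent _ _).choose_spec
  set F : Finset (alternatingGroup (Fin n) → ℂ) :=
    G'.image (fun S => v (canon N S)) ∪
      (fixedSets N p n q).attach.image (fun S => pRegularPart p (θ0 S).1) with hF
  suffices hle : Submodule.span ℂ
      ((fun χ : IrrCharacter (alternatingGroup (Fin n)) => pRegularPart p (χ.1)) '' b) ≤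
      Submodule.span ℂ (F : Set (alternatingGroup (Fin n) → ℂ)) by
    have h3 : Module.finrank ℂ (Submodule.span ℂ (F : Set (alternatingGroup (Fin n) → ℂ))) ≤
        F.card := finrank_span_finset_le_card F
    exact (Submodule.finrank_mono hle).trans (h3.trans ((Finset.card_union_le _ _).trans
      (Nat.add_le_add Finset.card_image_le
        (Finset.card_image_le.trans (le_of_eq Finset.card_attach)))))
  have hmemv : ∀ S, S ∈ Beta N n → resKey p (canon N S) = q →
      v (canon N S) ∈ Submodule.span ℂ (F : Set (alternatingGroup (Fin n) → ℂ)) := by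
    intro S hS hq
    refine Submodule.span_le.2 ?_ (mem_span_goodSets hv hp.out.pos hr₀ hrel q _
      (sum_canon_of_mem hS) hq)
    rintro _ ⟨T, hT, rfl⟩
    rcases hG T (Finset.mem_coe.1 hT) with h | h
    · exact Submodule.subset_span (Finset.mem_coe.2 (Finset.mem_union_left _
        (Finset.mem_image.2 ⟨T, h, rfl⟩)))
    · have hTB := (Finset.mem_filter.1 (Finset.mem_coe.1 hT)).1
      have he : v (canon N T) = v (canon N (starSet (2 * N) T)) := by
        funext a
        simp only [v, altReg, pRegularPart, symFun, chiX_star_perm hn hTB,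
          Equiv.Perm.mem_alternatingGroup.1 a.2, Units.val_one, one_mul]
      show v (canon N T) ∈ _
      rw [he]
      exact Submodule.subset_span (Finset.mem_coe.2 (Finset.mem_union_left _
        (Finset.mem_image.2 ⟨_, h, rfl⟩)))
  rw [Submodule.span_le]
  rintro _ ⟨θ, hθ, rfl⟩
  obtain ⟨S, hS, hq, hne⟩ := hb θ hθ
  obtain ⟨ε, hε, hval⟩ := irrOf_spec hS
  set ρ := Char.resFun (alternatingGroup (Fin n)) (irrOf S hS).1 with hρdef
  have hρ : IsCharacter (alternatingGroup (Fin n)) ρ :=
    Char.IsCharacter.restrict (Char.irr_isCharacter _) _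
  have hρv : pRegularPart p ρ = (ε : ℂ) • v (canon N S) := by
    simp only [v, altReg]
    rw [← pRegularPart_smul]
    congr 1
    funext a
    simp [hρdef, hval, symFun]
  have hρmem : pRegularPart p ρ ∈ Submodule.span ℂ (F : Set (alternatingGroup (Fin n) → ℂ)) := by
    rw [hρv]; exact Submodule.smul_mem _ _ (hmemv S hS hq)
  have hnorm := classInner_res_irrOf h2 hn hS
  show pRegularPart p θ.1 ∈ _
  by_cases hfix : starSet (2 * N) S = S
  · rw [if_pos hfix] at hnorm
    have hSF : S ∈ fixedSets N p n q := mem_fixedSets.2 ⟨hS, hq, hfix⟩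
    have hmem0 : pRegularPart p (θ0 ⟨S, hSF⟩).1 ∈
        Submodule.span ℂ (F : Set (alternatingGroup (Fin n) → ℂ)) :=
      Submodule.subset_span (Finset.mem_coe.2 (Finset.mem_union_right _
        (Finset.mem_image.2 ⟨⟨S, hSF⟩, Finset.mem_attach _ _, rfl⟩)))
    by_cases he : θ = θ0 ⟨S, hSF⟩
    · rw [he]; exact hmem0
    · have h := (constituent_cases hρ (k := 2) (by rw [hnorm]; norm_num)
        (η := θ0 ⟨S, hSF⟩) (hθ0 ⟨S, hSF⟩)).2 le_rfl θ hne he
      rw [show θ.1 = ρ - (θ0 ⟨S, hSF⟩).1 by rw [h, add_sub_cancel_right], pRegularPart_sub]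
      exact Submodule.sub_mem _ hρmem hmem0
  · rw [if_neg hfix, add_zero] at hnorm
    have h := (constituent_cases hρ (k := 1) (by rw [hnorm]; norm_num) hne).1 le_rfl
    rw [← h]
    exact hρmem

end Cfsg.Agent.SymChar
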