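import Cfsg.Agent.Lib.SymChar.Orth
import Mathlib.Combinatorics.Enumerative.Composition

/-!
# Bounds for numbers of partitions

The number of partitions of `w + 1` is at most twice the number of partitions of `w`, and the
numbers for `w ≤ 4` are at most `1, 1, 2, 3, 5`.
-/

namespace Cfsg.Agent.SymChar

open Finset

theorem card_Parts_le_pow (j : ℕ) : (Parts j).card ≤ 2 ^ (j - 1) :=
  calc (Parts j).card ≤ Fintype.card (Nat.Partition j) := card_Parts_le j
    _ ≤ Fintype.card (Composition j) :=
        Fintype.card_le_of_surjective _ Nat.Partition.ofComposition_surj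
    _ = 2 ^ (j - 1) := composition_card j

/-- Lower the least part by one. -/
noncomputable def lowerMin (c : Multiset ℕ) : Multiset ℕ :=
  if h : c.toFinset.Nonempty then
    if c.toFinset.min' h = 1 then c.erase 1
    else (c.toFinset.min' h - 1) ::ₘ c.erase (c.toFinset.min' h)
  else 0

/-- Raise the least part by one. -/
noncomputable def raiseMin (d : Multiset ℕ) : Multiset ℕ :=
  if h : d.toFinset.Nonempty then (d.toFinset.min' h + 1) ::ₘ d.erase (d.toFinset.min' h) else 0

theorem card_Parts_succ_le (n : ℕ) : (Parts (n + 1)).card ≤ 2 * (Parts n).card := by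
  classical
  refine Finset.card_le_mul_card_image_of_maps_to (f := lowerMin) ?_ 2 ?_
  · intro c hc
    obtain ⟨hpos, hsum⟩ := mem_Parts.1 hc
    have hne : c.toFinset.Nonempty := by
      rw [Finset.nonempty_iff_ne_empty]
      intro h
      rw [Multiset.toFinset_eq_empty] at h
      subst h
      simp at hsum
    have ha : c.toFinset.min' hne ∈ c := Multiset.mem_toFinset.1 (Finset.min'_mem _ _)
    have hsum' : c.toFinset.min' hne + (c.erase (c.toFinset.min' hne)).sum = n + 1 := by
      rw [← Multiset.sum_cons, Multiset.cons_erase ha, hsum]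
    rw [lowerMin, dif_pos hne]
    refine mem_Parts.2 ?_
    split_ifs with h1
    · exact ⟨fun k hk => hpos k (Multiset.mem_of_mem_erase hk), by rw [h1] at hsum'; omega⟩
    · have := hpos _ ha
      refine ⟨fun k hk => ?_, by rw [Multiset.sum_cons]; omega⟩
      rcases Multiset.mem_cons.1 hk with rfl | hk
      · omega
      · exact hpos k (Multiset.mem_of_mem_erase hk)
  · intro d _
    refine (Finset.card_le_card (t := {1 ::ₘ d, raiseMin d}) ?_).trans Finset.card_le_two
    intro c hcd
    obtain ⟨hc, rfl⟩ := Finset.mem_filter.1 hcd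
    obtain ⟨hpos, hsum⟩ := mem_Parts.1 hc
    have hne : c.toFinset.Nonempty := by
      rw [Finset.nonempty_iff_ne_empty]
      intro h
      rw [Multiset.toFinset_eq_empty] at h
      subst h
      simp at hsum
    set a := c.toFinset.min' hne with hadef
    have ha : a ∈ c := Multiset.mem_toFinset.1 (Finset.min'_mem _ _)
    rw [Finset.mem_insert, Finset.mem_singleton]
    by_cases h1 : a = 1
    · left
      rw [lowerMin, dif_pos hne, if_pos (hadef ▸ h1), Multiset.cons_erase (h1 ▸ ha)]
    · right
      have ha0 := hpos a ha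
      have hd : lowerMin c = (a - 1) ::ₘ c.erase a := by
        rw [lowerMin, dif_pos hne, if_neg (hadef ▸ h1)]
      rw [hd]
      have hne' : ((a - 1) ::ₘ c.erase a).toFinset.Nonempty :=
        ⟨a - 1, Multiset.mem_toFinset.2 (Multiset.mem_cons_self _ _)⟩
      have hmin : ((a - 1) ::ₘ c.erase a).toFinset.min' hne' = a - 1 := by
        refine le_antisymm (Finset.min'_le _ _
          (Multiset.mem_toFinset.2 (Multiset.mem_cons_self _ _))) (Finset.le_min' _ _ _ fun y hy => ?_)
        rcases Multiset.mem_cons.1 (Multiset.mem_toFinset.1 hy) with rfl | hy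
        · exact le_rfl
        · have := Finset.min'_le _ _ (Multiset.mem_toFinset.2 (Multiset.mem_of_mem_erase hy))
          omega
      rw [raiseMin, dif_pos hne', hmin, Multiset.erase_cons_head,
        show a - 1 + 1 = a by omega, Multiset.cons_erase ha]

theorem Parts_succ_subset (n : ℕ) : Parts (n + 1) ⊆
    (Finset.range (n + 1)).biUnion fun k => (Parts (n - k)).image fun c => (k + 1) ::ₘ c := by
  intro c hc
  obtain ⟨hpos, hsum⟩ := mem_Parts.1 hc
  obtain ⟨a, ha⟩ := Multiset.exists_mem_of_ne_zero (s := c) (by rintro rfl; simp at hsum)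
  obtain ⟨c', rfl⟩ := Multiset.exists_cons_of_mem ha
  rw [Multiset.sum_cons] at hsum
  have := hpos a ha
  exact Finset.mem_biUnion.2 ⟨a - 1, Finset.mem_range.2 (by omega), Finset.mem_image.2
    ⟨c', mem_Parts.2 ⟨fun x hx => hpos x (Multiset.mem_cons_of_mem hx), by omega⟩,
      by rw [Nat.sub_add_cancel this]⟩⟩

/-- Lists of the partitions of the numbers up to four. -/
def smallParts : List (Finset (Multiset ℕ)) :=
  [{{}}, {{1}}, {{2}, {1, 1}}, {{3}, {2, 1}, {1, 1, 1}},
    {{4}, {3, 1}, {2, 2}, {2, 1, 1}, {1, 1, 1, 1}}]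

theorem smallParts_step : ∀ n : Fin 4, (Finset.range (n + 1 : ℕ)).biUnion
    (fun k => (smallParts.getD (n - k : ℕ) ∅).image fun c => (k + 1) ::ₘ c) ⊆
      smallParts.getD (n + 1 : ℕ) ∅ := by decide

theorem Parts_subset_small : ∀ n, n ≤ 4 → Parts n ⊆ smallParts.getD n ∅ := by
  intro n
  induction n using Nat.strong_induction_on with
  | _ n ih =>
  intro hn
  rcases n with _ | m
  · intro c hc
    obtain ⟨hpos, hsum⟩ := mem_Parts.1 hc
    have : c = 0 := Multiset.eq_zero_of_forall_notMem fun a ha => by
      have := Multiset.le_sum_of_mem ha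
      have := hpos a ha
      omega
    simp [this, smallParts]
  · refine (Parts_succ_subset m).trans (subset_trans ?_ (smallParts_step ⟨m, by omega⟩))
    intro x hx
    obtain ⟨k, hk, hx⟩ := Finset.mem_biUnion.1 hx
    obtain ⟨c, hc, rfl⟩ := Finset.mem_image.1 hx
    have := Finset.mem_range.1 hk
    exact Finset.mem_biUnion.2 ⟨k, hk,
      Finset.mem_image.2 ⟨c, ih (m - k) (by omega) (by omega) hc, rfl⟩⟩

theorem card_Parts_small : (Parts 2).card ≤ 2 ∧ (Parts 3).card ≤ 3 ∧ (Parts 4).card ≤ 5 :=
  ⟨(Finset.card_le_card (Parts_subset_small 2 (by omega))).trans (by decide),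
    (Finset.card_le_card (Parts_subset_small 3 (by omega))).trans (by decide),
    (Finset.card_le_card (Parts_subset_small 4 le_rfl)).trans (by decide)⟩

theorem card_Parts_le_five : ∀ d, (Parts (4 + d)).card ≤ 5 * 2 ^ d
  | 0 => by simpa using card_Parts_small.2.2
  | d + 1 => by
    refine (card_Parts_succ_le (4 + d)).trans ?_
    have := card_Parts_le_five d
    rw [pow_succ]
    omega

end Cfsg.Agent.SymChar
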