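import Cfsg.Agent.Lib.SymChar.AltBlocks
import Cfsg.Agent.Lib.SymChar.PartsBound

/-!
# Counting the bases of blocks of alternating groups

The sets with residue counts `q` and one empty runner, up to conjugation, and the self-conjugate
sets are fewer than `p ^ w` for odd `p` and fewer than `2 ^ max 2 (w - 1)` for `p = 2`.
-/

namespace Cfsg.Agent.SymChar

open Finset Equiv Cfsg

set_option linter.style.haveILetI false
set_option linter.unusedSectionVars false

variable {N n : ℕ}

theorem mem_Beta_runner {p r : ℕ} {q : ℕ → ℕ} {S : Finset ℕ} (hS : S ∈ Beta N n)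
    (hkey : resKey p (canon N S) = q) :
    runner p S r ∈ Beta (q r) ((∑ x ∈ runner p S r, x) - baseSum (q r)) := by
  obtain ⟨hc, hle⟩ := baseSum_le_runner (r := r) hS hkey
  exact mem_Beta.2 ⟨hc, by omega⟩

/-- The runners of a self-conjugate set come in conjugate pairs of equal weight. -/
theorem fixed_runner {p M : ℕ} (hM : 2 * N = p * M) (hn : n ≤ N) {q : ℕ → ℕ} {S : Finset ℕ}
    (hS : S ∈ fixedSets N p n q) {r : ℕ} (hr : r < p) :
    runner p S (p - 1 - r) = starSet M (runner p S r) ∧
      (∑ x ∈ runner p S (p - 1 - r), x) - baseSum (q (p - 1 - r)) =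
        (∑ x ∈ runner p S r, x) - baseSum (q r) := by
  obtain ⟨hB, hkey, hfix⟩ := mem_fixedSets.1 hS
  obtain ⟨h1, h2⟩ := runner_starSet (M := M) hr (S := S) (hM ▸ subset_range_two hn hB)
  rw [hM] at hfix
  rw [hfix] at h1
  refine ⟨h1, ?_⟩
  obtain ⟨hc, hle⟩ := baseSum_le_runner (r := r) hB hkey
  obtain ⟨hc', hle'⟩ := baseSum_le_runner (r := p - 1 - r) hB hkey
  obtain ⟨-, hs⟩ := starSet_card_sum h2
  rw [← h1, hc, hc'] at hs
  omega

/-- The bound for the self-conjugate sets of weight `w`, `p = 2 h + 1`. -/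
def fixBound (h w : ℕ) : ℕ :=
  ∑ i ∈ Finset.range (w / 2 + 1), colComp h i * 2 ^ (w - 2 * i - 1)

theorem colComp_succ_le (h i : ℕ) : colComp h (i + 1) ≤ (h + 1) * colComp h i := by
  rcases Nat.eq_zero_or_pos i with rfl | hi
  · simp [colComp]
  · rw [colComp, colComp, if_neg (by omega), if_neg hi.ne', Nat.add_sub_cancel]
    conv_lhs => rw [← Nat.sub_add_cancel hi, pow_succ]
    exact le_of_eq (by ring)

theorem fixBound_step (h w : ℕ) :
    fixBound h (w + 2) ≤ 2 ^ (w + 1) + (h + 1) * fixBound h w := by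
  rw [fixBound, show (w + 2) / 2 + 1 = w / 2 + 1 + 1 by omega, Finset.sum_range_succ', add_comm]
  refine Nat.add_le_add ?_ ?_
  · simp [colComp]
  · rw [fixBound, Finset.mul_sum]
    refine Finset.sum_le_sum fun i _ => ?_
    rw [← mul_assoc, show w + 2 - 2 * (i + 1) - 1 = w - 2 * i - 1 by omega]
    exact Nat.mul_le_mul_right _ (colComp_succ_le h i)

theorem fixBound_le {h : ℕ} (hh : 1 ≤ h) : ∀ w, 1 ≤ w → fixBound h w ≤ (2 * h + 1) ^ (w - 1)
  | 0, h0 => absurd h0 (by omega)
  | 1, _ => by simp [fixBound, colComp]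
  | 2, _ => by
    simp [fixBound, colComp, Finset.sum_range_succ]
    omega
  | w + 3, _ => by
    have ih := fixBound_le hh (w + 1) (by omega)
    refine (fixBound_step h (w + 1)).trans ?_
    rw [Nat.add_sub_cancel] at ih
    rw [show w + 3 - 1 = w + 2 by omega, show w + 1 + 1 = w + 2 by omega]
    have h2 : 2 ^ w ≤ (2 * h + 1) ^ w := Nat.pow_le_pow_left (by omega) w
    have h3 : 4 + (h + 1) ≤ (2 * h + 1) * (2 * h + 1) := by nlinarith
    calc 2 ^ (w + 2) + (h + 1) * fixBound h (w + 1)
        ≤ 4 * (2 * h + 1) ^ w + (h + 1) * (2 * h + 1) ^ w :=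
          Nat.add_le_add (by rw [pow_add]; omega) (Nat.mul_le_mul_left _ ih)
      _ = (4 + (h + 1)) * (2 * h + 1) ^ w := by ring
      _ ≤ (2 * h + 1) * (2 * h + 1) * (2 * h + 1) ^ w := Nat.mul_le_mul_right _ h3
      _ = (2 * h + 1) ^ (w + 2) := by ring

theorem sum_range_pairs (h : ℕ) (f : ℕ → ℕ)
    (hf : ∀ r, r < 2 * h + 1 → f (2 * h + 1 - 1 - r) = f r) :
    ∑ r ∈ Finset.range (2 * h + 1), f r = 2 * (∑ r ∈ Finset.range h, f r) + f h := by
  rw [show 2 * h + 1 = h + (h + 1) by omega, Finset.sum_range_add, Finset.sum_range_succ' _ h,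
    ← Finset.sum_range_reflect (fun i => f (h + (i + 1))) h, Nat.add_zero,
    Finset.sum_congr rfl fun i hi => show f (h + (h - 1 - i + 1)) = f i by
      have := Finset.mem_range.1 hi
      rw [← hf i (by omega)]
      congr 1
      omega]
  ring

theorem card_fixedSets_le {h M : ℕ} (hM : 2 * N = (2 * h + 1) * M) (hn : n ≤ N) (q : ℕ → ℕ) :
    (fixedSets N (2 * h + 1) n q).card ≤ fixBound h (keyWeight N (2 * h + 1) n q) := by
  classical
  set p := 2 * h + 1 with hp
  set W := keyWeight N p n q
  let T := (Finset.range (W / 2 + 1)).biUnion fun i =>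
    runFam h (fun r => q r) i ×ˢ Beta (q h) (W - 2 * i)
  have hT : T.card ≤ fixBound h W := by
    refine Finset.card_biUnion_le.trans (Finset.sum_le_sum fun i _ => ?_)
    rw [Finset.card_product]
    exact Nat.mul_le_mul (card_runFam_le _ _ _) (card_Beta_le_pow _ _)
  refine (Finset.card_le_card_of_injOn
    (fun S => ((fun r : Fin h => runner p S r), runner p S h)) ?_ ?_).trans hT
  · intro S hS
    obtain ⟨hB, hkey, -⟩ := mem_fixedSets.1 hS
    let w : ℕ → ℕ := fun r => (∑ x ∈ runner p S r, x) - baseSum (q r)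
    have hsum : 2 * (∑ r ∈ Finset.range h, w r) + w h = W := by
      rw [← sum_range_pairs h w fun r hr => (fixed_runner hM hn hS hr).2]
      exact sum_runner_weight (by omega) hB hkey
    refine Finset.mem_coe.2 (Finset.mem_biUnion.2 ⟨∑ r ∈ Finset.range h, w r,
      Finset.mem_range.2 (by omega), Finset.mem_product.2
        ⟨mem_runFam (fun r : Fin h => w r) (fun r => mem_Beta_runner hB hkey)
          (Fin.sum_univ_eq_sum_range w h), ?_⟩⟩)
    rw [show W - 2 * (∑ r ∈ Finset.range h, w r) = w h by omega]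
    exact mem_Beta_runner hB hkey
  · intro S hS T hT' he
    obtain ⟨he1, he2⟩ := Prod.ext_iff.1 he
    have hlow : ∀ r, r ≤ h → runner p S r = runner p T r := fun r hr => by
      rcases Nat.lt_or_eq_of_le hr with hlt | rfl
      · exact congrFun he1 ⟨r, hlt⟩
      · exact he2
    refine ext_of_runner (p := p) (by omega) fun r hr => ?_
    rcases le_or_gt r h with hle | hgt
    · exact hlow r hle
    · have h1 := (fixed_runner hM hn hS (r := p - 1 - r) (by omega)).1
      have h2 := (fixed_runner hM hn hT' (r := p - 1 - r) (by omega)).1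
      rw [show p - 1 - (p - 1 - r) = r by omega] at h1 h2
      rw [h1, h2, hlow (p - 1 - r) (by omega)]

/-- Conjugation preserves the good sets when some set with the same counts is self-conjugate. -/
theorem starSet_mem_goodSets {h M : ℕ} (hM : 2 * N = (2 * h + 1) * M) (hn : n ≤ N) {q : ℕ → ℕ}
    {S₁ : Finset ℕ} (hS₁ : S₁ ∈ fixedSets N (2 * h + 1) n q) {S : Finset ℕ}
    (hS : S ∈ goodSets N (2 * h + 1) n q h) :
    starSet (2 * N) S ∈ goodSets N (2 * h + 1) n q h := by
  classical
  set p := 2 * h + 1 with hp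
  obtain ⟨hB, hkey, hrun⟩ := Finset.mem_filter.1 hS
  obtain ⟨hB₁, hkey₁, hfix₁⟩ := mem_fixedSets.1 hS₁
  have hB' := starSet_mem_Beta hn hB
  have hkey' : resKey p (canon N (starSet (2 * N) S)) = q := by
    rw [resKey_star_congr (by omega) hM hn hB hB₁ (hkey.trans hkey₁.symm), hfix₁, hkey₁]
  refine Finset.mem_filter.2 ⟨hB', hkey', ?_⟩
  obtain ⟨h1, h2⟩ := runner_starSet (M := M) (r := h) (show h < p by omega) (S := S)
    (hM ▸ subset_range_two hn hB)
  rw [show p - 1 - h = h by omega, ← hM] at h1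
  obtain ⟨hc, -⟩ := baseSum_le_runner (r := h) hB hkey
  obtain ⟨hc', -⟩ := baseSum_le_runner (r := h) hB' hkey'
  have hs : ∑ x ∈ runner p S h, x = baseSum (q h) := by
    rw [(runner_facts (mem_Beta.1 hB).1).2, ← hrun]; rfl
  obtain ⟨-, hsum⟩ := starSet_card_sum h2
  rw [← h1, hc, hc', hs] at hsum
  have e : runSum p h (canon N (starSet (2 * N) S)) = ∑ x ∈ runner p (starSet (2 * N) S) h, x :=
    (runner_facts (mem_Beta.1 hB').1).2.symm
  omega

/-- A half of the good sets. -/
theorem exists_half {h M : ℕ} (hM : 2 * N = (2 * h + 1) * M) (hn : n ≤ N) {q : ℕ → ℕ}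
    {S₁ : Finset ℕ} (hS₁ : S₁ ∈ fixedSets N (2 * h + 1) n q) :
    ∃ G' : Finset (Finset ℕ),
      (∀ S ∈ goodSets N (2 * h + 1) n q h, S ∈ G' ∨ starSet (2 * N) S ∈ G') ∧
      2 * G'.card ≤ (goodSets N (2 * h + 1) n q h).card + (fixedSets N (2 * h + 1) n q).card := by
  classical
  set G := goodSets N (2 * h + 1) n q h
  let e : Finset ℕ → ℕ := Encodable.encode
  let st : Finset ℕ → Finset ℕ := starSet (2 * N)
  have hcl : ∀ S ∈ G, st S ∈ G := fun S hS => starSet_mem_goodSets hM hn hS₁ hS
  have hinv : ∀ S ∈ G, st (st S) = S := fun S hS =>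
    starSet_starSet (subset_range_two hn (Finset.mem_filter.1 hS).1)
  refine ⟨G.filter fun S => e S ≤ e (st S), fun S hS => ?_, ?_⟩
  · rcases le_total (e S) (e (st S)) with hle | hle
    · exact Or.inl (Finset.mem_filter.2 ⟨hS, hle⟩)
    · exact Or.inr (Finset.mem_filter.2 ⟨hcl S hS, le_of_le_of_eq hle (by rw [hinv S hS])⟩)
  · set G' := G.filter fun S => e S ≤ e (st S) with hG'
    have hinj : Set.InjOn st G' := fun a ha b hb hab => by
      rw [← hinv a (Finset.mem_filter.1 ha).1, ← hinv b (Finset.mem_filter.1 hb).1, hab]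
    have h1 := Finset.card_union_add_card_inter G' (G'.image st)
    rw [Finset.card_image_of_injOn hinj] at h1
    have h2 : (G' ∪ G'.image st).card ≤ G.card := Finset.card_le_card (Finset.union_subset
      (Finset.filter_subset _ _) fun S hS => by
        obtain ⟨T, hT, rfl⟩ := Finset.mem_image.1 hS
        exact hcl T (Finset.mem_filter.1 hT).1)
    have h3 : (G' ∩ G'.image st).card ≤ (fixedSets N (2 * h + 1) n q).card := by
      refine Finset.card_le_card fun S hS => ?_
      obtain ⟨hS, hS'⟩ := Finset.mem_inter.1 hS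
      obtain ⟨T, hT, rfl⟩ := Finset.mem_image.1 hS'
      obtain ⟨hTG, hTle⟩ := Finset.mem_filter.1 hT
      obtain ⟨hSG, hSle⟩ := Finset.mem_filter.1 hS
      rw [hinv T hTG] at hSle
      have heq : st T = T := (Encodable.encode_injective (le_antisymm hTle hSle)).symm
      obtain ⟨hB, hkey, -⟩ := Finset.mem_filter.1 hSG
      exact mem_fixedSets.2 ⟨hB, hkey, congrArg st heq⟩
    omega

theorem blockRank_alt_lt_odd {p M : ℕ} [hp : Fact p.Prime] (hodd : p ≠ 2) (hM : 2 * N = p * M)
    (h2 : 2 ≤ n) (hn : n ≤ N) (q : ℕ → ℕ) {b : Set (IrrCharacter (alternatingGroup (Fin n)))}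
    (hb : CoversKey p N n q b) :
    blockRank p b < p ^ keyWeight N p n q + (if keyWeight N p n q = 0 then 2 else 0) := by
  classical
  obtain ⟨h, hph⟩ := hp.out.odd_of_ne_two hodd
  subst hph
  have hh : 1 ≤ h := by
    have := hp.out.two_le
    omega
  set W := keyWeight N (2 * h + 1) n q
  set G := goodSets N (2 * h + 1) n q h
  have hgood : G.card ≤ colComp (2 * h) W := by
    have := card_goodSets_le (N := N) hp.out.pos n q (show h < 2 * h + 1 by omega)
    simpa using this
  have hfix : (fixedSets N (2 * h + 1) n q).card ≤ fixBound h W := card_fixedSets_le hM hn q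
  by_cases hW : W = 0
  · have := blockRank_alt_le h2 hn q (show h < 2 * h + 1 by omega) hb G fun S hS => Or.inl hS
    rw [hW] at hgood hfix ⊢
    simp [colComp, fixBound] at hgood hfix ⊢
    omega
  · rw [if_neg hW, add_zero]
    have hF := hfix.trans (fixBound_le hh W (by omega))
    rw [colComp, if_neg hW] at hgood
    have hpow : (2 * h + 1) ^ W = (2 * h + 1) * (2 * h + 1) ^ (W - 1) := by
      rw [← pow_succ', Nat.sub_add_cancel (by omega)]
    have hpos : 1 ≤ (2 * h + 1) ^ (W - 1) := Nat.one_le_pow _ _ (by omega)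
    rw [hpow]
    rcases Finset.eq_empty_or_nonempty (fixedSets N (2 * h + 1) n q) with he | ⟨S₁, hS₁⟩
    · have := blockRank_alt_le h2 hn q (show h < 2 * h + 1 by omega) hb G fun S hS => Or.inl hS
      rw [he, Finset.card_empty] at this
      calc blockRank (2 * h + 1) b ≤ 2 * h * (2 * h + 1) ^ (W - 1) := by omega
        _ < (2 * h + 1) * (2 * h + 1) ^ (W - 1) := Nat.mul_lt_mul_of_pos_right (by omega) hpos
    · obtain ⟨G', hG', hc⟩ := exists_half hM hn hS₁
      have := blockRank_alt_le h2 hn q (show h < 2 * h + 1 by omega) hb G' hG'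
      have hb' : (2 * h + 3) * (2 * h + 1) ^ (W - 1) < 2 * ((2 * h + 1) * (2 * h + 1) ^ (W - 1)) := by
        rw [← mul_assoc]
        exact Nat.mul_lt_mul_of_pos_right (by omega) hpos
      rw [Nat.add_mul] at hb'
      change _ ≤ G.card + _ at hc
      omega

/-- Good sets for `p = 2` are determined by the second runner. -/
theorem card_goodSets_two (n : ℕ) (q : ℕ → ℕ) :
    (goodSets N 2 n q 0).card ≤ (Parts (keyWeight N 2 n q)).card := by
  classical
  have hrun : ∀ S ∈ goodSets N 2 n q 0, ∑ x ∈ runner 2 S 0, x = baseSum (q 0) := by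
    intro S hS
    obtain ⟨hB, -, hr⟩ := Finset.mem_filter.1 hS
    rw [(runner_facts (mem_Beta.1 hB).1).2, ← hr]
    rfl
  refine (Finset.card_le_card_of_injOn (t := Beta (q 1) (keyWeight N 2 n q))
    (fun S => runner 2 S 1) ?_ ?_).trans (card_Beta_le _ _)
  · intro S hS
    obtain ⟨hB, hkey, -⟩ := Finset.mem_filter.1 hS
    have hw := sum_runner_weight (by omega) hB hkey
    rw [Finset.sum_range_succ, Finset.sum_range_one, hrun S hS, Nat.sub_self, zero_add] at hw
    rw [← hw]
    exact mem_Beta_runner hB hkey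
  · intro S hS T hT he
    obtain ⟨hBS, hkS, -⟩ := Finset.mem_filter.1 hS
    obtain ⟨hBT, hkT, -⟩ := Finset.mem_filter.1 hT
    refine ext_of_runner (p := 2) (by omega) fun r hr => ?_
    interval_cases r
    · rw [eq_range_of_sum (baseSum_le_runner hBS hkS).1 (hrun S hS),
        eq_range_of_sum (baseSum_le_runner hBT hkT).1 (hrun T hT)]
    · exact he

theorem card_fixedSets_two {M : ℕ} (hM : 2 * N = 2 * M) (hn : n ≤ N) (q : ℕ → ℕ) :
    (fixedSets N 2 n q).card ≤
      if keyWeight N 2 n q % 2 = 0 then (Parts (keyWeight N 2 n q / 2)).card else 0 := by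
  classical
  set W := keyWeight N 2 n q
  have hw : ∀ S ∈ fixedSets N 2 n q,
      W = 2 * ((∑ x ∈ runner 2 S 1, x) - baseSum (q 1)) := by
    intro S hS
    obtain ⟨hB, hkey, -⟩ := mem_fixedSets.1 hS
    have hw := sum_runner_weight (by omega) hB hkey
    rw [Finset.sum_range_succ, Finset.sum_range_one] at hw
    have h2 := (fixed_runner hM hn hS (r := 1) (by omega)).2
    simp only [Nat.add_one_sub_one, Nat.sub_self] at h2
    omega
  split_ifs with hev
  · refine (Finset.card_le_card_of_injOn (t := Beta (q 1) (W / 2))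
      (fun S => runner 2 S 1) ?_ ?_).trans (card_Beta_le _ _)
    · intro S hS
      obtain ⟨hB, hkey, -⟩ := mem_fixedSets.1 hS
      rw [show W / 2 = (∑ x ∈ runner 2 S 1, x) - baseSum (q 1) by have := hw S hS; omega]
      exact mem_Beta_runner hB hkey
    · intro S hS T hT he
      refine ext_of_runner (p := 2) (by omega) fun r hr => ?_
      interval_cases r
      · have h1 := (fixed_runner hM hn hS (r := 1) (by omega)).1
        have h2 := (fixed_runner hM hn hT (r := 1) (by omega)).1
        simp only [Nat.add_one_sub_one, Nat.sub_self] at h1 h2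
        rw [h1, h2]
        exact congrArg _ he
      · exact he
  · rw [Nat.le_zero, Finset.card_eq_zero, Finset.eq_empty_iff_forall_notMem]
    exact fun S hS => hev (by have := hw S hS; omega)

theorem blockRank_alt_lt_two {M : ℕ} (hM : 2 * N = 2 * M) (h2 : 2 ≤ n) (hn : n ≤ N)
    (q : ℕ → ℕ) {b : Set (IrrCharacter (alternatingGroup (Fin n)))}
    (hb : CoversKey 2 N n q b) (hW : 2 ≤ keyWeight N 2 n q) :
    blockRank 2 b < 2 ^ max 2 (keyWeight N 2 n q - 1) := by
  classical
  haveI : Fact (Nat.Prime 2) := ⟨Nat.prime_two⟩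
  have h := blockRank_alt_le h2 hn q (show 0 < 2 by omega) hb (goodSets N 2 n q 0)
    fun S hS => Or.inl hS
  have hg := card_goodSets_two (N := N) n q
  have hf := card_fixedSets_two (N := N) hM hn q
  generalize keyWeight N 2 n q = W at *
  obtain ⟨hp2, hp3, -⟩ := card_Parts_small
  rcases lt_or_ge W 4 with hlt | hge
  · interval_cases W
    · simp only [Nat.mod_self, if_true, show 2 / 2 = 1 by rfl] at hf
      have := card_Parts_le_pow 1
      norm_num at this ⊢
      omega
    · rw [if_neg (by decide)] at hf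
      norm_num
      omega
  · obtain ⟨d, rfl⟩ := Nat.exists_eq_add_of_le hge
    have h5 := card_Parts_le_five d
    have hsmall : (fixedSets N 2 n q).card ≤ 2 * 2 ^ d := by
      refine hf.trans ?_
      split_ifs
      · refine (card_Parts_le_pow _).trans ?_
        rw [← pow_succ']
        exact Nat.pow_le_pow_right (by omega) (by omega)
      · exact Nat.zero_le _
    rw [show max 2 (4 + d - 1) = d + 3 by omega, pow_add]
    have : 0 < 2 ^ d := Nat.two_pow_pos d
    omega

end Cfsg.Agent.SymChar
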