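import Mathlib.GroupTheory.Perm.ViaEmbedding
import Mathlib.GroupTheory.Perm.Cycle.Type
import Mathlib.GroupTheory.SpecificGroups.Alternating

/-!
# The Klein four groups on four points

For a permutation with two transpositions the Klein four group on its support is normalised by
its centralizer and consists of even permutations.
-/

namespace Cfsg.Agent.SymChar

open Equiv

/-- The Klein four group on `Fin 4`, as a set. -/
def kleinSet : Finset (Equiv.Perm (Fin 4)) :=
  {1, swap 0 1 * swap 2 3, swap 0 2 * swap 1 3, swap 0 3 * swap 1 2}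

theorem kleinSet_mul : ∀ a ∈ kleinSet, ∀ b ∈ kleinSet, a * b ∈ kleinSet ∧ a * b = b * a := by
  decide

theorem kleinSet_inv : ∀ a ∈ kleinSet, a⁻¹ ∈ kleinSet ∧ a ^ 2 = 1 ∧ Equiv.Perm.sign a = 1 := by
  decide

theorem kleinSet_conj :
    ∀ g : Equiv.Perm (Fin 4), ∀ a ∈ kleinSet, g * a * g⁻¹ ∈ kleinSet := by
  decide

theorem kleinSet_card : kleinSet.card = 4 := by decide

theorem cycleType_klein : (swap (0 : Fin 4) 1 * swap 2 3).cycleType = Multiset.replicate 2 2 := by
  have h : Equiv.Perm.Disjoint (swap (0 : Fin 4) 1) (swap 2 3) := by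
    intro x; revert x; decide
  rw [h.cycleType_mul, (Equiv.Perm.isCycle_swap (by decide)).cycleType,
    (Equiv.Perm.isCycle_swap (by decide)).cycleType, Equiv.Perm.card_support_swap (by decide),
    Equiv.Perm.card_support_swap (by decide)]
  rfl

/-- The Klein four group on `Fin 4`. -/
def kleinSub : Subgroup (Equiv.Perm (Fin 4)) where
  carrier := {a | a ∈ kleinSet}
  mul_mem' := fun ha hb => (kleinSet_mul _ ha _ hb).1
  one_mem' := by show (1 : Equiv.Perm (Fin 4)) ∈ kleinSet; decide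
  inv_mem' := fun ha => (kleinSet_inv _ ha).1

theorem exists_klein {n : ℕ} {x : Equiv.Perm (Fin n)}
    (hx : x.cycleType = Multiset.replicate 2 2) :
    ∃ E : Subgroup (Equiv.Perm (Fin n)), Nat.card E = 4 ∧ E ≤ alternatingGroup (Fin n) ∧
      (∀ a ∈ E, ∀ b ∈ E, a * b = b * a) ∧ (∀ a ∈ E, a ^ 2 = 1) ∧
      (∀ a ∈ E, a * x = x * a) ∧ ∀ g, Commute g x → ∀ e ∈ E, g * e * g⁻¹ ∈ E := by
  classical
  have hn : 4 ≤ n := by
    have h1 := Equiv.Perm.sum_cycleType x
    have h2 := Finset.card_le_univ x.support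
    rw [hx] at h1
    rw [Fintype.card_fin, ← h1] at h2
    simpa using h2
  let f : Fin 4 ↪ Fin n := Fin.castLEEmb hn
  let φ := Equiv.Perm.viaEmbeddingHom f
  have hφ : ∀ a i, φ a (f i) = f (a i) := fun a i => Equiv.Perm.viaEmbedding_apply a f i
  have hφ' : ∀ a z, z ∉ Set.range f → φ a z = z := fun a z hz =>
    Equiv.Perm.viaEmbedding_apply_of_notMem a f z hz
  set a₀ : Equiv.Perm (Fin 4) := swap 0 1 * swap 2 3 with ha₀
  have hmove : ∀ i, a₀ i ≠ i := by rw [ha₀]; decide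
  have htype : (φ a₀).cycleType = x.cycleType := by
    rw [hx, ← cycleType_klein]
    show (Equiv.Perm.viaEmbedding a₀ f).cycleType = _
    unfold Equiv.Perm.viaEmbedding
    convert Equiv.Perm.cycleType_extendDomain _ using 3
  obtain ⟨c, hc⟩ := isConj_iff.1 ((Equiv.Perm.isConj_iff_cycleType_eq).2 htype)
  -- the centralizer of `φ a₀` normalises the image
  have hnorm : ∀ g, Commute g (φ a₀) → ∀ v ∈ kleinSub.map φ, g * v * g⁻¹ ∈ kleinSub.map φ := by
    rintro g hg _ ⟨v, hv, rfl⟩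
    have hrange : ∀ i, ∃ j, g (f i) = f j := by
      intro i
      by_contra hno
      push Not at hno
      have h1 : φ a₀ (g (f i)) = g (f i) := hφ' _ _ (fun ⟨j, hj⟩ => hno j hj.symm)
      rw [← Equiv.Perm.mul_apply, ← hg.eq, Equiv.Perm.mul_apply, hφ] at h1
      exact hmove i (f.injective (g.injective h1))
    choose g4 hg4 using hrange
    have hg4i : Function.Injective g4 := fun i j h =>
      f.injective (g.injective (by rw [hg4, hg4, h]))
    let G4 : Equiv.Perm (Fin 4) := Equiv.ofBijective g4 (Finite.injective_iff_bijective.1 hg4i)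
    have hG4 : ∀ i, g (f i) = f (G4 i) := hg4
    refine ⟨G4 * v * G4⁻¹, kleinSet_conj G4 v hv, Equiv.ext fun z => ?_⟩
    by_cases hz : z ∈ Set.range f
    · obtain ⟨i, rfl⟩ := hz
      obtain ⟨j, rfl⟩ := G4.surjective i
      rw [hφ]
      have h2 : g⁻¹ (f (G4 j)) = f j := by rw [← hG4]; simp
      simp only [Equiv.Perm.mul_apply, h2, hφ, hG4]
      simp
    · have h2 : g⁻¹ z ∉ Set.range f := fun ⟨j, hj⟩ => hz ⟨G4 j, by rw [← hG4, hj]; simp⟩
      rw [hφ' _ _ hz]
      simp only [Equiv.Perm.mul_apply, hφ' _ _ h2]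
      simp
  refine ⟨(kleinSub.map φ).map (MulAut.conj c).toMonoidHom, ?_, ?_, ?_, ?_, ?_, ?_⟩
  · rw [Subgroup.card_map_of_injective (MulAut.conj c).injective,
      Subgroup.card_map_of_injective (Equiv.Perm.viaEmbeddingHom_injective f)]
    exact (Nat.card_eq_finsetCard kleinSet).trans kleinSet_card
  · rintro _ ⟨_, ⟨v, hv, rfl⟩, rfl⟩
    rw [Equiv.Perm.mem_alternatingGroup]
    show Equiv.Perm.sign (c * φ v * c⁻¹) = 1
    have : Equiv.Perm.sign (φ v) = 1 := by
      rw [← (kleinSet_inv v hv).2.2]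
      show Equiv.Perm.sign (Equiv.Perm.viaEmbedding v f) = _
      unfold Equiv.Perm.viaEmbedding
      convert Equiv.Perm.sign_extendDomain _ _ using 3
    simp [this]
  · rintro _ ⟨_, ⟨v, hv, rfl⟩, rfl⟩ _ ⟨_, ⟨w, hw, rfl⟩, rfl⟩
    rw [← map_mul, ← map_mul, ← map_mul, ← map_mul, (kleinSet_mul v hv w hw).2]
  · rintro _ ⟨_, ⟨v, hv, rfl⟩, rfl⟩
    rw [← map_pow, ← map_pow, (kleinSet_inv v hv).2.1, map_one, map_one]
  · rintro _ ⟨_, ⟨v, hv, rfl⟩, rfl⟩
    have e : x = (MulAut.conj c).toMonoidHom (φ a₀) := hc.symm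
    rw [e, ← map_mul, ← map_mul, ← map_mul, ← map_mul,
      (kleinSet_mul v hv a₀ (by rw [ha₀]; decide)).2]
  · rintro g hg _ ⟨w, hw, rfl⟩
    have hg' : Commute (c⁻¹ * g * c) (φ a₀) := by
      have h := hg.eq
      rw [← hc] at h
      show c⁻¹ * g * c * φ a₀ = φ a₀ * (c⁻¹ * g * c)
      calc c⁻¹ * g * c * φ a₀ = c⁻¹ * (g * (c * φ a₀ * c⁻¹)) * c := by group
        _ = c⁻¹ * ((c * φ a₀ * c⁻¹) * g) * c := by rw [h]
        _ = φ a₀ * (c⁻¹ * g * c) := by group
    refine ⟨_, hnorm _ hg' w hw, ?_⟩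
    show c * (c⁻¹ * g * c * w * (c⁻¹ * g * c)⁻¹) * c⁻¹ = g * (c * w * c⁻¹) * g⁻¹
    group

end Cfsg.Agent.SymChar
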