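import Cfsg.Agent.Lib.SymChar.AltCount
import Cfsg.Agent.Lib.SymChar.KleinPerm

/-!
# Defect groups of blocks of alternating groups

A defect group contains an elementary abelian subgroup of order `p ^ w` for odd `p`, of order
`2 ^ max 2 (w - 1)` for `p = 2` and weight `w ≥ 2`; for `p = 2` and `w ≤ 1` it is trivial.
-/

namespace Cfsg.Agent.SymChar

open Finset Equiv Cfsg
open scoped ComplexConjugate

set_option linter.style.haveILetI false
set_option linter.unusedSectionVars false

variable {N n : ℕ}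

theorem card_le_sectional {G : Type*} [Group G] {p s : ℕ} {D : Subgroup G}
    (hs : SectionalPRankLE p s D) {E : Subgroup G} (hE : E ≤ D)
    (hcomm : ∀ a ∈ E, ∀ b ∈ E, a * b = b * a) (hexp : ∀ a ∈ E, a ^ p = 1) :
    Nat.card E ≤ p ^ s := by
  let f : E →* (⊤ : Subgroup D) ⧸ (⊥ : Subgroup (⊤ : Subgroup D)) :=
    (QuotientGroup.mk' _).comp
      ((Subgroup.topEquiv (G := D)).symm.toMonoidHom.comp (Subgroup.inclusion hE))
  have hf : Function.Injective f := fun σ τ h => by
    have := QuotientGroup.eq.1 h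
    rw [Subgroup.mem_bot, inv_mul_eq_one] at this
    exact Subgroup.inclusion_injective hE (Subgroup.topEquiv.symm.injective this)
  have hA : IsMulCommutative f.range := ⟨⟨fun ⟨u, σ, hσ⟩ ⟨v, τ, hτ⟩ => Subtype.ext (by
    show u * v = v * u
    rw [← hσ, ← hτ, ← map_mul, ← map_mul]
    exact congrArg f (Subtype.ext (hcomm _ σ.2 _ τ.2)))⟩⟩
  have h := hs ⊤ ⊥ f.range hA (by
    rintro _ ⟨σ, rfl⟩
    rw [← map_pow, show σ ^ p = 1 from Subtype.ext (hexp _ σ.2), map_one])
  rwa [← Nat.card_congr (MonoidHom.ofInjective hf).toEquiv] at h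

theorem weight_mul_le {p : ℕ} (hp : 0 < p) {S : Finset ℕ} (hS : S ∈ Beta N n) :
    pWeight p (canon N S) * p ≤ n := by
  have hinj := canon_injective (mem_Beta.1 hS).1
  have hsum := sum_eq_coreSum_add hp hinj
  rw [← sum_coreT hp hinj, sum_canon_of_mem hS] at hsum
  have hbase := baseSum_le_sum (coreT_injective hp hinj (p := p))
  rw [Nat.mul_comm]
  omega

/-- An element with `w` cycles of length `p` on which the character does not vanish. -/
theorem exists_witness_perm {p : ℕ} [hp : Fact p.Prime] {S : Finset ℕ} (hS : S ∈ Beta N n) :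
    ∃ x : Equiv.Perm (Fin n), x.cycleType = Multiset.replicate (pWeight p (canon N S)) p ∧
      x ^ p = 1 ∧ (∃ k, orderOf x = p ^ k) ∧
      x.cycleFactorsFinset.card = pWeight p (canon N S) ∧ (irrOf S hS).1 x ≠ 0 := by
  classical
  have hinj := canon_injective (mem_Beta.1 hS).1
  set W := pWeight p (canon N S) with hWdef
  have hcinj := coreT_injective hp.out.pos hinj (p := p)
  have hsum := sum_eq_coreSum_add hp.out.pos hinj
  rw [← sum_coreT hp.out.pos hinj, sum_canon_of_mem hS, ← hWdef] at hsum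
  have hbase := baseSum_le_sum hcinj
  have hpW : W * p ≤ n := weight_mul_le hp.out.pos hS
  obtain ⟨x, hx⟩ := (Equiv.Perm.exists_with_cycleType_iff (α := Fin n)
    (m := Multiset.replicate W p)).2
    ⟨by simpa using hpW, fun a ha => by rw [Multiset.eq_of_mem_replicate ha]; exact hp.out.two_le⟩
  have hxp : x ^ p = 1 := Equiv.Perm.pow_prime_eq_one_iff.2 fun c hc => by
    rw [hx] at hc; exact Multiset.eq_of_mem_replicate hc
  refine ⟨x, hx, hxp, ?_, ?_, ?_⟩
  · obtain ⟨k, -, hk⟩ := (Nat.dvd_prime_pow hp.out).1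
      (show orderOf x ∣ p ^ 1 by rw [pow_one]; exact orderOf_dvd_of_pow_eq_one hxp)
    exact ⟨k, hk⟩
  · have := congrArg Multiset.card hx
    rw [Equiv.Perm.cycleType_def, Multiset.card_map, Multiset.card_replicate] at this
    exact this
  · have hcyc : cycParts x = Multiset.replicate W p + Multiset.replicate (n - W * p) 1 := by
      rw [cycParts_eq, ← Equiv.Perm.sum_cycleType, hx, Multiset.sum_replicate, smul_eq_mul]
    obtain ⟨ε, hε, hv⟩ := irrOf_spec hS
    obtain ⟨P, hP, hPe⟩ := hook_path hp.out.pos (Multiset.replicate (n - W * p) 1) W _ hinj rfl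
    rw [hv, hcyc, hPe]
    have hdeg := chiX_degree_ne_zero hcinj (n := n - W * p) (by rw [Nat.mul_comm] at hpW ⊢; omega)
    have hε0 : ε ≠ 0 := fun e => by simp [e] at hε
    exact mul_ne_zero (Int.cast_ne_zero.2 hε0) (Int.cast_ne_zero.2 (mul_ne_zero hP.ne' hdeg))

theorem sign_eq_one_of_pow {p : ℕ} (hp : Odd p) {σ : Equiv.Perm (Fin n)} (h : σ ^ p = 1) :
    Equiv.Perm.sign σ = 1 := by
  have h1 := congrArg Equiv.Perm.sign h
  rw [map_pow, map_one] at h1
  rcases Int.units_eq_one_or (Equiv.Perm.sign σ) with h2 | h2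
  · exact h2
  · rw [h2, hp.neg_one_pow] at h1
    exact absurd h1 (by decide)

/-- Odd `p`: a defect group contains the rotations of `w` cycles, up to conjugation. -/
theorem exists_rot_le_defectGroup {p : ℕ} [hp : Fact p.Prime] (hodd : p ≠ 2) {I : Ideal AlgInt}
    [I.IsMaximal] (hpI : (p : AlgInt) ∈ I) {b : Set (IrrCharacter (alternatingGroup (Fin n)))}
    (hb : IsPBlock I b) {D : Subgroup (alternatingGroup (Fin n))}
    (hD : IsDefectGroup p I b D) {θ : IrrCharacter (alternatingGroup (Fin n))} (hθ : θ ∈ b)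
    {S : Finset ℕ} (hS : S ∈ Beta N n)
    (hne : classInner (Char.resFun (alternatingGroup (Fin n)) (irrOf S hS).1) θ.1 ≠ 0) :
    ∃ x' : Equiv.Perm (Fin n), x' ^ p = 1 ∧
      x'.cycleType = Multiset.replicate (pWeight p (canon N S)) p ∧
      rotGroup x' ≤ alternatingGroup (Fin n) ∧
      ∃ a : alternatingGroup (Fin n), ((rotGroup x').subgroupOf (alternatingGroup (Fin n))).map
        (MulAut.conj a).toMonoidHom ≤ D := by
  classical
  have hpodd := hp.out.odd_of_ne_two hodd
  obtain ⟨x, hx, hxp, -, -, hχ⟩ := exists_witness_perm (p := p) hS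
  have hxA : x ∈ alternatingGroup (Fin n) :=
    Equiv.Perm.mem_alternatingGroup.2 (sign_eq_one_of_pow hpodd hxp)
  obtain ⟨g, hg⟩ : ∃ g : Equiv.Perm (Fin n),
      θ.1 (MulAut.conjNormal g ⟨x, hxA⟩ : alternatingGroup (Fin n)) ≠ 0 := by
    by_contra! hno
    refine hχ ?_
    have h := congrFun
      (Char.resFun_eq_smul_orbitSum (alternatingGroup (Fin n)) (irrOf S hS) θ hne) ⟨x, hxA⟩
    rw [Char.resFun_apply] at h
    rw [h]
    simp only [Pi.smul_apply, smul_eq_mul, Char.orbitSum, Finset.sum_apply]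
    refine mul_eq_zero_of_right _ (Finset.sum_eq_zero fun η hη => ?_)
    obtain ⟨g, rfl⟩ := (Char.mem_orbitFinset _).1 hη
    exact hno g
  set x' : alternatingGroup (Fin n) := MulAut.conjNormal g ⟨x, hxA⟩ with hx'
  have hval : (x' : Equiv.Perm (Fin n)) = g * x * g⁻¹ := MulAut.conjNormal_apply g _
  have hxp' : (x' : Equiv.Perm (Fin n)) ^ p = 1 := by
    rw [hval, conj_pow, hxp, mul_one, mul_inv_cancel]
  have hR : rotGroup (x' : Equiv.Perm (Fin n)) ≤ alternatingGroup (Fin n) := fun σ hσ =>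
    Equiv.Perm.mem_alternatingGroup.2
      (sign_eq_one_of_pow hpodd (pow_eq_one_of_mem_rotGroup hxp' hσ))
  set E := (rotGroup (x' : Equiv.Perm (Fin n))).subgroupOf (alternatingGroup (Fin n)) with hE
  have hexp : ∀ a ∈ E, a ^ p = 1 := fun a ha =>
    Subtype.ext (by simpa using pow_eq_one_of_mem_rotGroup hxp' ha)
  have hord : ∃ k, orderOf x' = p ^ k := by
    obtain ⟨k, -, hk⟩ := (Nat.dvd_prime_pow hp.out).1 (show orderOf x' ∣ p ^ 1 by
      rw [pow_one]; exact orderOf_dvd_of_pow_eq_one (Subtype.ext (by simpa using hxp')))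
    exact ⟨k, hk⟩
  obtain ⟨a, ha⟩ := exists_conj_le_defectGroup hpI hb hD hθ hord hg
    (E := E) (fun σ => ⟨1, Subtype.ext (by rw [pow_one]; exact hexp σ.1 σ.2)⟩)
    (fun σ hσ => Subgroup.mem_centralizer_singleton_iff.2 (Subtype.ext hσ.1.eq))
    (fun c hc σ hσ => conj_mem_rotGroup (congrArg Subtype.val hc.eq) hσ)
  exact ⟨x', hxp', by rw [hval, Equiv.Perm.cycleType_conj, hx], hR, a, ha⟩

/-- Odd `p`: the weight is at most the sectional rank of a defect group. -/
theorem weight_le_alt_odd {p : ℕ} [hp : Fact p.Prime] (hodd : p ≠ 2) {I : Ideal AlgInt}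
    [I.IsMaximal] (hpI : (p : AlgInt) ∈ I) {b : Set (IrrCharacter (alternatingGroup (Fin n)))}
    (hb : IsPBlock I b) {D : Subgroup (alternatingGroup (Fin n))}
    (hD : IsDefectGroup p I b D) {θ : IrrCharacter (alternatingGroup (Fin n))} (hθ : θ ∈ b)
    {S : Finset ℕ} (hS : S ∈ Beta N n)
    (hne : classInner (Char.resFun (alternatingGroup (Fin n)) (irrOf S hS).1) θ.1 ≠ 0)
    {s : ℕ} (hs : SectionalPRankLE p s D) : pWeight p (canon N S) ≤ s := by
  classical
  obtain ⟨x', hxp', hx', hR, a, ha⟩ := exists_rot_le_defectGroup hodd hpI hb hD hθ hS hne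
  have hexp : ∀ u ∈ (rotGroup x').subgroupOf (alternatingGroup (Fin n)), u ^ p = 1 := fun u hu =>
    Subtype.ext (by simpa using pow_eq_one_of_mem_rotGroup hxp' hu)
  have h := card_le_sectional hs ha
    (by
      rintro _ ⟨u, hu, rfl⟩ _ ⟨v, hv, rfl⟩
      rw [← map_mul, ← map_mul, show u * v = v * u from
        Subtype.ext (commute_of_mem_rotGroup hu hv).eq])
    (by
      rintro _ ⟨u, hu, rfl⟩
      rw [← map_pow, hexp u hu, map_one])
  rw [Subgroup.card_map_of_injective (MulAut.conj a).injective,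
    Nat.card_congr (Subgroup.subgroupOfEquivOfLe hR).toEquiv] at h
  have hcard' : x'.cycleFactorsFinset.card = pWeight p (canon N S) := by
    have := congrArg Multiset.card hx'
    rw [Equiv.Perm.cycleType_def, Multiset.card_map, Multiset.card_replicate] at this
    exact this
  have h2 := (card_rotGroup hp.out hxp').trans h
  rw [hcard'] at h2
  exact (Nat.pow_le_pow_iff_right hp.out.one_lt).1 h2

theorem blockCoeff_conjChar {G : Type*} [Group G] [Fintype G] (A : Subgroup G) [A.Normal]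
    {I : Ideal AlgInt} [I.IsMaximal] (η : IrrCharacter A) (g : G) (m : A) :
    blockCoeff (blockOf I (Char.conjChar A η g).1) m =
      blockCoeff (blockOf I η.1) (MulAut.conjNormal g m) := by
  classical
  rw [Blocks.blockCoeff_eq_sum, Blocks.blockCoeff_eq_sum]
  congr 1
  refine Finset.sum_nbij' (fun ξ => Char.conjChar A ξ g⁻¹) (fun ξ => Char.conjChar A ξ g)
    (fun ξ hξ => ?_) (fun ξ hξ => ?_) (fun ξ _ => ?_) (fun ξ _ => ?_) (fun ξ _ => ?_)
  · refine Finset.mem_filter.2 ⟨Finset.mem_univ _, ?_⟩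
    have := BlocksX.sameBlock_conjFun A (Finset.mem_filter.1 hξ).2 g⁻¹
    rw [← Char.conjChar_coe, ← Char.conjChar_coe, ← BlocksX.conjChar_mul, mul_inv_cancel,
      BlocksX.conjChar_one] at this
    exact this
  · exact Finset.mem_filter.2 ⟨Finset.mem_univ _,
      BlocksX.sameBlock_conjFun A (Finset.mem_filter.1 hξ).2 g⟩
  · show Char.conjChar A (Char.conjChar A ξ g⁻¹) g = ξ
    rw [← BlocksX.conjChar_mul, inv_mul_cancel, BlocksX.conjChar_one]
  · show Char.conjChar A (Char.conjChar A ξ g) g⁻¹ = ξ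
    rw [← BlocksX.conjChar_mul, mul_inv_cancel, BlocksX.conjChar_one]
  · show _ = (Char.conjFun A ξ.1 g⁻¹) 1 * conj (Char.conjFun A ξ.1 g⁻¹ (MulAut.conjNormal g m))
    rw [Char.conjFun_apply_one, Char.conjFun, ← MulAut.mul_apply, ← map_mul, inv_mul_cancel,
      map_one, MulAut.one_apply]

/-- `p`-power index: a regular element with a unit block coefficient centralises a conjugate of a
subgroup normalised by the centralizer of an element where a covering character does not vanish. -/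
theorem exists_class_of_covering {G : Type*} [Group G] [Fintype G] {p : ℕ} [hp : Fact p.Prime]
    {I : Ideal AlgInt} [I.IsMaximal] (hpI : (p : AlgInt) ∈ I) (A : Subgroup G) [A.Normal] [Fintype A]
    (hidx : ∃ k : ℕ, A.index = p ^ k) {b : Set (IrrCharacter A)} (hb : IsPBlock I b)
    {θ : IrrCharacter A} (hθ : θ ∈ b)
    {χ : IrrCharacter G} (hχθ : classInner (Char.resFun A χ.1) θ.1 ≠ 0) {x : G}
    (hord : ∃ k, orderOf x = p ^ k) (hne : χ.1 x ≠ 0) {E : Subgroup G}
    (hEexp : ∀ a ∈ E, a ^ p = 1) (hEcomm : ∀ a ∈ E, ∀ b ∈ E, a * b = b * a)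
    (hEx : ∀ a ∈ E, a * x = x * a) (hEn : ∀ g : G, Commute g x → ∀ e ∈ E, g * e * g⁻¹ ∈ E) :
    ∃ y : A, IsPRegular p (y : G) ∧ ¬ MemLocalIdeal I (blockCoeff b y) ∧
      ∃ c : G, ∀ e ∈ E, c * e * c⁻¹ * (y : G) = (y : G) * (c * e * c⁻¹) := by
  classical
  set B := blockOf I χ.1 with hBdef
  have hB : IsPBlock I B := Blocks.isPBlock_blockOf χ
  have hχB : χ ∈ B := Blocks.mem_blockOf_self χ
  obtain ⟨DB, hDB⟩ := Blocks.exists_defectGroup (p := p) hB
  obtain ⟨a, ha⟩ := exists_conj_le_defectGroup hpI hB hDB hχB hord hne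
    (E := E) (fun σ => ⟨1, Subtype.ext (by rw [pow_one]; exact hEexp σ.1 σ.2)⟩)
    (fun σ hσ => Subgroup.mem_centralizer_singleton_iff.2 (hEx σ hσ)) hEn
  obtain ⟨z, hz, hzD⟩ := Blocks.isDefectGroup_iff.1 hDB
  have hzA : z ∈ A :=
    BlocksX.mem_of_isPRegular_of_index hidx (Blocks.IsDefectClass.isPRegular hpI hB hz)
  set U : Set (IrrCharacter A) := {η | ∃ χ' ∈ B, classInner (Char.resFun A χ'.1) η.1 ≠ 0} with hU
  have hover : ∀ {η η' : IrrCharacter A} {ψ ψ' : IrrCharacter G},
      classInner (Char.resFun A ψ.1) η.1 ≠ 0 → classInner (Char.resFun A ψ'.1) η'.1 ≠ 0 →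
      SameBlock I η.1 η'.1 → SameBlock I ψ.1 ψ'.1 := by
    intro η η' ψ ψ' h h' hη
    refine BlocksX.sameBlock_of_congr_index A hpI hidx fun m => ?_
    rw [BlocksX.centralChar_eq_of_constituent A ψ η h,
      BlocksX.centralChar_eq_of_constituent A ψ' η' h']
    exact BlocksX.inducedCentralChar_sub A hη _
  have hinv : ∀ (g : G), ∀ η ∈ U, Char.conjChar A η g ∈ U := by
    rintro g η ⟨χ', hχ', h⟩
    exact ⟨χ', hχ', by
      rwa [Char.conjChar_coe, Char.classInner_resFun_conjFun A (Blocks.irr_classFun χ')]⟩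
  have hcov : {ψ : IrrCharacter G | ∃ η ∈ U, classInner (Char.resFun A ψ.1) η.1 ≠ 0} = B := by
    ext ψ
    constructor
    · rintro ⟨η, ⟨χ', hχ', h'⟩, h⟩
      rw [Blocks.block_eq hB hχ']
      exact hover h' h (Blocks.sameBlock_refl _)
    · intro hψ
      obtain ⟨η, hη⟩ := Char.exists_constituent A ψ
      exact ⟨η, ⟨ψ, hψ, hη⟩, hη⟩
  have hclosed : ∀ η ∈ U, blockOf I η.1 ⊆ U := by
    rintro η ⟨χ', hχ', h⟩ η' hη'
    obtain ⟨ψ, hψ⟩ := BlocksX.exists_over A η'
    refine ⟨ψ, ?_, hψ⟩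
    rw [Blocks.block_eq hB hχ']
    exact hover h hψ hη'
  have hzU : ¬ MemLocalIdeal I (blockCoeff U (⟨z, hzA⟩ : A)) := by
    rw [← BlocksX.blockCoeff_covering A hinv ⟨z, hzA⟩, hcov]
    exact hz.2.1
  obtain ⟨η, ⟨χ', hχ', hη⟩, hηz⟩ := BlocksX.exists_block_unit_of_closed U hclosed hzU
  obtain ⟨g, hg⟩ := BlocksX.exists_conj_mem_of_congr A hb hθ (η := η) fun m => by
    rw [← BlocksX.centralChar_eq_of_constituent A χ θ hχθ,
      ← BlocksX.centralChar_eq_of_constituent A χ' η hη]
    exact Blocks.sameBlock_of_mem hB hχB hχ' _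
  set y : A := MulAut.conjNormal g⁻¹ ⟨z, hzA⟩ with hy
  have hby : ¬ MemLocalIdeal I (blockCoeff b y) := by
    rw [Blocks.block_eq hb hg, blockCoeff_conjChar, hy, ← MulAut.mul_apply, ← map_mul,
      mul_inv_cancel, map_one, MulAut.one_apply]
    exact hηz
  have hyval : (y : G) = g⁻¹ * z * g⁻¹⁻¹ := by rw [hy, MulAut.conjNormal_apply]
  refine ⟨y, ?_, hby, g⁻¹ * a, fun e he => ?_⟩
  · show ¬ p ∣ orderOf (y : G)
    rw [hyval, show g⁻¹ * z * g⁻¹⁻¹ = MulAut.conj g⁻¹ z from rfl, MulEquiv.orderOf_eq]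
    exact Blocks.IsDefectClass.isPRegular hpI hB hz
  · have hfz : a * e * a⁻¹ * z = z * (a * e * a⁻¹) :=
      Subgroup.mem_centralizer_singleton_iff.1 (hzD.1 (ha ⟨e, he, rfl⟩))
    rw [hyval]
    calc g⁻¹ * a * e * (g⁻¹ * a)⁻¹ * (g⁻¹ * z * g⁻¹⁻¹)
        = g⁻¹ * (a * e * a⁻¹ * z) * g := by group
      _ = g⁻¹ * (z * (a * e * a⁻¹)) * g := by rw [hfz]
      _ = _ := by group

/-- `p`-power index: a subgroup normalised by the centralizer of an element where a covering
character does not vanish meets the normal subgroup inside a defect group, up to conjugation. -/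
theorem card_le_of_covering {G : Type*} [Group G] [Fintype G] {p : ℕ} [hp : Fact p.Prime]
    {I : Ideal AlgInt} [I.IsMaximal] (hpI : (p : AlgInt) ∈ I) (A : Subgroup G) [A.Normal] [Fintype A]
    (hidx : ∃ k : ℕ, A.index = p ^ k) {b : Set (IrrCharacter A)} (hb : IsPBlock I b)
    {D : Subgroup A} (hD : IsDefectGroup p I b D) {θ : IrrCharacter A} (hθ : θ ∈ b)
    {χ : IrrCharacter G} (hχθ : classInner (Char.resFun A χ.1) θ.1 ≠ 0) {x : G}
    (hord : ∃ k, orderOf x = p ^ k) (hne : χ.1 x ≠ 0) {E : Subgroup G}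
    (hEexp : ∀ a ∈ E, a ^ p = 1) (hEcomm : ∀ a ∈ E, ∀ b ∈ E, a * b = b * a)
    (hEx : ∀ a ∈ E, a * x = x * a) (hEn : ∀ g : G, Commute g x → ∀ e ∈ E, g * e * g⁻¹ ∈ E)
    {s : ℕ} (hs : SectionalPRankLE p s D) {F : Subgroup G} (hFE : F ≤ E) (hFA : F ≤ A) :
    Nat.card F ≤ p ^ s := by
  classical
  obtain ⟨y, -, hby, c₀, hcy⟩ :=
    exists_class_of_covering hpI A hidx hb hθ hχθ hord hne hEexp hEcomm hEx hEn
  obtain ⟨g₀, hg₀, hg₀D⟩ := Blocks.isDefectGroup_iff.1 hD
  set c := MulAut.conj c₀ with hc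
  set Q := (F.map c.toMonoidHom).subgroupOf A with hQ
  have hcA : F.map c.toMonoidHom ≤ A := by
    rintro _ ⟨f, hf, rfl⟩
    exact Subgroup.Normal.conj_mem inferInstance f (hFA hf) _
  have hQy : Q ≤ Subgroup.centralizer ({y} : Set A) := by
    rintro u hu
    obtain ⟨f, hf, he⟩ := Subgroup.mem_subgroupOf.1 hu
    refine Subgroup.mem_centralizer_singleton_iff.2 (Subtype.ext ?_)
    rw [Subgroup.coe_mul, Subgroup.coe_mul, ← he]
    exact hcy f (hFE hf)
  have hQexp : ∀ u ∈ Q, u ^ p = 1 := by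
    intro u hu
    obtain ⟨f, hf, he⟩ := Subgroup.mem_subgroupOf.1 hu
    refine Subtype.ext ?_
    rw [Subgroup.coe_pow, ← he, ← map_pow, hEexp f (hFE hf), map_one]
    rfl
  have hQcomm : ∀ u ∈ Q, ∀ v ∈ Q, u * v = v * u := by
    intro u hu v hv
    obtain ⟨f, hf, he⟩ := Subgroup.mem_subgroupOf.1 hu
    obtain ⟨f', hf', he'⟩ := Subgroup.mem_subgroupOf.1 hv
    refine Subtype.ext ?_
    rw [Subgroup.coe_mul, Subgroup.coe_mul, ← he, ← he', ← map_mul, ← map_mul,
      hEcomm f (hFE hf) f' (hFE hf')]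
  obtain ⟨w, hw⟩ := Blocks.minmax hpI hb hθ (hg₀.2.2 θ hθ) hby hg₀D
    (Q := Q) (fun u => ⟨1, Subtype.ext (by rw [pow_one]; exact hQexp u.1 u.2)⟩) hQy
  have h := card_le_sectional hs hw
    (by
      rintro _ ⟨u, hu, rfl⟩ _ ⟨v, hv, rfl⟩
      rw [← map_mul, ← map_mul, hQcomm u hu v hv])
    (by
      rintro _ ⟨u, hu, rfl⟩
      rw [← map_pow, hQexp u hu, map_one])
  rwa [Subgroup.card_map_of_injective (MulAut.conj w).injective,
    Nat.card_congr (Subgroup.subgroupOfEquivOfLe hcA).toEquiv,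
    Subgroup.card_map_of_injective c.injective] at h

theorem index_alternatingGroup (h2 : 2 ≤ n) : ∃ k : ℕ, (alternatingGroup (Fin n)).index = 2 ^ k := by
  haveI : Nontrivial (Fin n) := Fin.nontrivial_iff_two_le.2 h2
  exact ⟨1, by rw [alternatingGroup.index_eq_two, pow_one]⟩

/-- `p = 2`: the sectional rank of a defect group is at least `max 2 (w - 1)`. -/
theorem weight_le_alt_two (h2 : 2 ≤ n) {I : Ideal AlgInt} [I.IsMaximal] (hpI : ((2 : ℕ) : AlgInt) ∈ I)
    {b : Set (IrrCharacter (alternatingGroup (Fin n)))} (hb : IsPBlock I b)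
    {D : Subgroup (alternatingGroup (Fin n))} (hD : IsDefectGroup 2 I b D)
    {θ : IrrCharacter (alternatingGroup (Fin n))} (hθ : θ ∈ b) {S : Finset ℕ} (hS : S ∈ Beta N n)
    (hne : classInner (Char.resFun (alternatingGroup (Fin n)) (irrOf S hS).1) θ.1 ≠ 0)
    {s : ℕ} (hs : SectionalPRankLE 2 s D) (hW : 2 ≤ pWeight 2 (canon N S)) :
    max 2 (pWeight 2 (canon N S) - 1) ≤ s := by
  classical
  haveI : Fact (Nat.Prime 2) := ⟨Nat.prime_two⟩
  obtain ⟨x, hx, hxp, hord, hcard, hχ⟩ := exists_witness_perm (p := 2) hS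
  have hidx := index_alternatingGroup h2
  rcases Nat.eq_or_lt_of_le hW with hW2 | hW3
  · rw [← hW2] at hx ⊢
    obtain ⟨E, hE4, hEA, hEc, hEe, hEx, hEn⟩ := exists_klein hx
    have h := card_le_of_covering hpI _ hidx hb hD hθ hne hord hχ hEe hEc hEx hEn hs le_rfl hEA
    rw [hE4] at h
    exact (Nat.pow_le_pow_iff_right (a := 2) one_lt_two).1 (by simpa using h)
  · rw [max_eq_right (by omega)]
    set E := rotGroup x
    have h := card_le_of_covering hpI _ hidx hb hD hθ hne hord hχ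
      (E := E) (fun a ha => pow_eq_one_of_mem_rotGroup hxp ha)
      (fun a ha b hb => (commute_of_mem_rotGroup ha hb).eq)
      (fun a ha => ha.1.eq) (fun g hg e he => conj_mem_rotGroup hg he) hs
      (F := alternatingGroup (Fin n) ⊓ E) inf_le_right inf_le_left
    haveI : Nontrivial (Fin n) := Fin.nontrivial_iff_two_le.2 h2
    have h1 := Subgroup.card_mul_index ((alternatingGroup (Fin n)).subgroupOf E)
    have h3 : ((alternatingGroup (Fin n)).subgroupOf E).index ≤ 2 :=
      Nat.le_of_dvd two_pos (by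
        have := Subgroup.relIndex_dvd_index_of_normal (alternatingGroup (Fin n)) E
        rwa [alternatingGroup.index_eq_two] at this)
    have h4 : Nat.card ((alternatingGroup (Fin n)).subgroupOf E) =
        Nat.card (alternatingGroup (Fin n) ⊓ E : Subgroup (Equiv.Perm (Fin n))) := by
      rw [← Subgroup.inf_subgroupOf_right]
      exact Nat.card_congr (Subgroup.subgroupOfEquivOfLe inf_le_right).toEquiv
    have h5 := card_rotGroup Nat.prime_two hxp
    rw [hcard] at h5
    have h6 : Nat.card E ≤ 2 ^ (s + 1) := by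
      rw [← h1, pow_succ]
      exact Nat.mul_le_mul (h4 ▸ h) h3
    have := (Nat.pow_le_pow_iff_right (a := 2) one_lt_two).1 (h5.trans h6)
    omega

/-- Parts divisible by `p` of total more than `p` times the weight give the value zero. -/
theorem chiX_eq_zero_of_weight {p : ℕ} (hp : 0 < p) (c : Multiset ℕ) :
    ∀ (cd : Multiset ℕ), (∀ k ∈ cd, p ∣ k) → ∀ l : Fin N → ℕ,
      p * pWeight p l < cd.sum → chiX l (cd + c) = 0 := by
  intro cd
  induction cd using Multiset.induction_on with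
  | empty => intro _ l h; simp at h
  | cons k cd ih =>
    intro hdvd l h
    rw [Multiset.cons_add]
    by_cases hl : Function.Injective l
    swap
    · exact chiX_eq_zero hl _
    rw [chiX_cons]
    refine Finset.sum_eq_zero fun i _ => ?_
    split_ifs with hk
    swap
    · rfl
    by_cases hd : Function.Injective (dec l i k)
    swap
    · exact chiX_eq_zero hd _
    refine ih (fun a ha => hdvd a (Multiset.mem_cons_of_mem ha)) _ ?_
    have hkdvd := hdvd k (Multiset.mem_cons_self _ _)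
    have hmod : ∀ x, dec l i k x % p = l x % p := fun x => by
      by_cases hx : x = i
      · subst hx
        obtain ⟨m, rfl⟩ := hkdvd
        rw [dec_self_image]
        conv_rhs => rw [← Nat.sub_add_cancel hk, Nat.add_mul_mod_self_left]
      · rw [dec_ne hx]
    have h1 := sum_eq_coreSum_add hp hd
    have h2 := sum_eq_coreSum_add hp hl
    have h3 := sum_dec (l := l) hk
    rw [resKey_congr hmod] at h1
    rw [Multiset.sum_cons] at h
    omega

theorem even_sum_add_card : ∀ m : Multiset ℕ, (∀ k ∈ m, ¬ 2 ∣ k) → Even (m.sum + m.card) := by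
  intro m
  induction m using Multiset.induction_on with
  | empty => intro _; simp
  | cons a m ih =>
    intro h
    rw [Multiset.sum_cons, Multiset.card_cons]
    obtain ⟨d, hd⟩ := ih fun k hk => h k (Multiset.mem_cons_of_mem hk)
    have := h a (Multiset.mem_cons_self _ _)
    exact ⟨d + (a + 1) / 2, by omega⟩

/-- `p = 2`, weight at most one: the characters under the set vanish at singular elements. -/
theorem vanish_of_weight_le_one {S : Finset ℕ} (hS : S ∈ Beta N n)
    (hW : pWeight 2 (canon N S) ≤ 1) {θ : IrrCharacter (alternatingGroup (Fin n))}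
    (hne : classInner (Char.resFun (alternatingGroup (Fin n)) (irrOf S hS).1) θ.1 ≠ 0)
    {a : alternatingGroup (Fin n)} (ha : ¬ IsPRegular 2 a) : θ.1 a = 0 := by
  classical
  set σ : Equiv.Perm (Fin n) := (a : Equiv.Perm (Fin n)) with hσ
  have hsing : ¬ IsPRegular 2 σ := fun h => ha ((isPRegular_coe a).1 h)
  have hsign : Equiv.Perm.sign σ = 1 := Equiv.Perm.mem_alternatingGroup.1 a.2
  obtain ⟨k, hk, hk2⟩ := exists_part_of_singular Nat.prime_two hsing
  have hkc : k ∈ σ.cycleType := by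
    rw [cycParts_eq, Multiset.mem_add] at hk
    rcases hk with h | h
    · exact h
    · rw [Multiset.eq_of_mem_replicate h] at hk2
      exact absurd hk2 (by decide)
  -- an odd permutation commuting with `a`
  obtain ⟨c, hc, hcsign⟩ : ∃ c : Equiv.Perm (Fin n), Commute c σ ∧ Equiv.Perm.sign c = -1 := by
    rw [Equiv.Perm.cycleType_def, Multiset.mem_map] at hkc
    obtain ⟨c, hc, hck⟩ := hkc
    rw [Finset.mem_val] at hc
    refine ⟨c, (Equiv.Perm.self_mem_cycle_factors_commute hc), ?_⟩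
    rw [(Equiv.Perm.mem_cycleFactorsFinset_iff.1 hc).1.sign]
    simp only [Function.comp_apply] at hck
    rw [hck, (even_iff_two_dvd.2 hk2).neg_one_pow]
  -- the value of the character
  have hval : (irrOf S hS).1 σ = 0 := by
    obtain ⟨ε, -, hv⟩ := irrOf_spec hS
    rw [hv]
    obtain ⟨rest, hrest⟩ := Multiset.exists_cons_of_mem hkc
    obtain ⟨k', hk', hk'2⟩ : ∃ k' ∈ rest, 2 ∣ k' := by
      by_contra! hno
      obtain ⟨d, hd⟩ := even_sum_add_card rest hno
      rw [Equiv.Perm.sign_of_cycleType, hrest, Multiset.sum_cons, Multiset.card_cons,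
        show k + rest.sum + (rest.card + 1) = k + (rest.sum + rest.card) + 1 by omega, hd,
        pow_succ, pow_add, (even_iff_two_dvd.2 hk2).neg_one_pow, ← two_mul, pow_mul] at hsign
      exact absurd hsign (by simp)
    have hp1 : 2 ≤ k := Equiv.Perm.two_le_of_mem_cycleType hkc
    obtain ⟨rest', rfl⟩ := Multiset.exists_cons_of_mem hk'
    have hp2 : 2 ≤ k' := Equiv.Perm.two_le_of_mem_cycleType (σ := σ) (by
      rw [hrest]; exact Multiset.mem_cons_of_mem (Multiset.mem_cons_self _ _))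
    have h := chiX_eq_zero_of_weight (N := N) two_pos
      (rest' + Multiset.replicate (n - σ.support.card) 1) (k ::ₘ k' ::ₘ 0)
      (by simp [hk2, hk'2]) (canon N S) (by simp; omega)
    rw [cycParts_eq, hrest, show (k ::ₘ k' ::ₘ rest') + Multiset.replicate (n - σ.support.card) 1 =
      (k ::ₘ k' ::ₘ 0) + (rest' + Multiset.replicate (n - σ.support.card) 1) by
        simp [Multiset.cons_add], h]
    simp
  -- all conjugates of `θ` agree at `a`
  have hall : ∀ g, (Char.conjChar (alternatingGroup (Fin n)) θ g).1 a = θ.1 a := by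
    intro g
    show θ.1 (MulAut.conjNormal g a) = θ.1 a
    obtain ⟨g', hg', he⟩ : ∃ g', Equiv.Perm.sign g' = 1 ∧ g * σ * g⁻¹ = g' * σ * g'⁻¹ := by
      rcases Int.units_eq_one_or (Equiv.Perm.sign g) with h | h
      · exact ⟨g, h, rfl⟩
      · refine ⟨g * c, by rw [map_mul, h, hcsign]; rfl, ?_⟩
        rw [mul_inv_rev, show g * c * σ * (c⁻¹ * g⁻¹) = g * (c * σ * c⁻¹) * g⁻¹ by group, hc.eq,
          mul_inv_cancel_right]
    rw [show MulAut.conjNormal g a = ⟨g', Equiv.Perm.mem_alternatingGroup.2 hg'⟩ * a *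
      (⟨g', Equiv.Perm.mem_alternatingGroup.2 hg'⟩ : alternatingGroup (Fin n))⁻¹ from
        Subtype.ext (by rw [MulAut.conjNormal_apply]; exact he)]
    exact Blocks.irr_classFun θ a _
  have h := congrFun
    (Char.resFun_eq_smul_orbitSum (alternatingGroup (Fin n)) (irrOf S hS) θ hne) a
  rw [Char.resFun_apply, ← hσ, hval] at h
  simp only [Pi.smul_apply, smul_eq_mul, Char.orbitSum, Finset.sum_apply] at h
  rw [Finset.sum_congr rfl fun η hη => show η.1 a = θ.1 a by
    obtain ⟨g, rfl⟩ := (Char.mem_orbitFinset _).1 hη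
    exact hall g, Finset.sum_const, nsmul_eq_mul] at h
  have hne0 : ((Char.orbitFinset (alternatingGroup (Fin n)) θ).card : ℂ) ≠ 0 :=
    Nat.cast_ne_zero.2 (Finset.card_ne_zero.2 ⟨θ, (Char.mem_orbitFinset _).2 ⟨1, by
      apply Subtype.ext; simp⟩⟩)
  rcases mul_eq_zero.1 h.symm with h1 | h1
  · exact absurd h1 hne
  · exact (mul_eq_zero.1 h1).resolve_left hne0

/-- A block with a character vanishing at singular elements has trivial defect group. -/
theorem defectGroup_eq_bot {G : Type*} [Group G] [Finite G] {p : ℕ} [hp : Fact p.Prime]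
    {I : Ideal AlgInt} [I.IsMaximal] (hpI : (p : AlgInt) ∈ I) {b : Set (IrrCharacter G)}
    (hb : IsPBlock I b) {D : Subgroup G} (hD : IsDefectGroup p I b D) {θ : IrrCharacter G}
    (hθ : θ ∈ b) (hvan : ∀ a, ¬ IsPRegular p a → θ.1 a = 0) : D = ⊥ := by
  classical
  haveI := Fintype.ofFinite G
  have hsub : blockOf I θ.1 ⊆ {θ} :=
    Blocks.blockOf_subset_of_scoeff (Blocks.scoeff_of_weak_orthogonality hpI _ fun x y _ hy => by
      refine Finset.sum_eq_zero fun χ hχ => ?_
      rw [Set.mem_singleton_iff.1 (Finset.mem_filter.1 hχ).2, hvan y hy, map_zero, mul_zero]) rfl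
  have hsing : blockOf I θ.1 = {θ} :=
    Set.Subset.antisymm hsub (Set.singleton_subset_iff.2 (Blocks.mem_blockOf_self θ))
  have hdeg := (Blocks.blockOf_eq_singleton_iff (p := p) hpI θ).1 hsing
  refine Subgroup.eq_bot_of_card_eq D ?_
  rw [Blocks.card_defectGroup hpI hb hD, blockDefect, Blocks.block_eq hb hθ, hsing,
    Set.image_singleton, csInf_singleton, Blocks.charDegree_eq, hdeg, Nat.sub_self, pow_zero]

theorem one_le_sectional {G : Type*} [Group G] {p : ℕ} [hp : Fact p.Prime] {D : Subgroup G}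
    [Finite G] (hpD : IsPGroup p D) (hD1 : D ≠ ⊥) {s : ℕ} (hs : SectionalPRankLE p s D) :
    1 ≤ s := by
  haveI : Nontrivial D := D.nontrivial_iff_ne_bot.2 hD1
  obtain ⟨u, hu⟩ := exists_prime_orderOf_dvd_card' p (G := D) (by
    obtain ⟨k, hk0, hk⟩ := hpD.nontrivial_iff_card.1 inferInstance
    rw [hk]; exact dvd_pow_self p hk0.ne')
  have h := card_le_sectional hs (E := Subgroup.zpowers (u : G)) (Subgroup.zpowers_le.2 u.2)
    (by
      rintro _ ⟨i, rfl⟩ _ ⟨j, rfl⟩
      simp only [← zpow_add, add_comm])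
    (by
      rintro _ ⟨i, rfl⟩
      simp only [← zpow_natCast, ← zpow_mul]
      rw [mul_comm, zpow_mul, zpow_natCast, ← hu, ← Subgroup.orderOf_coe, pow_orderOf_eq_one,
        one_zpow])
  rw [Nat.card_zpowers, Subgroup.orderOf_coe, hu] at h
  by_contra hs0
  rw [show s = 0 by omega, pow_zero] at h
  exact absurd h (not_le.2 hp.out.one_lt)

/-- **The rank bound for blocks of alternating groups.** -/
theorem blockRank_alt_lt {p : ℕ} [hp : Fact p.Prime] {I : Ideal AlgInt} [I.IsMaximal]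
    (hpI : (p : AlgInt) ∈ I) {b : Set (IrrCharacter (alternatingGroup (Fin n)))}
    (hb : IsPBlock I b) {D : Subgroup (alternatingGroup (Fin n))}
    (hD : IsDefectGroup p I b D) (hD1 : D ≠ ⊥) {s : ℕ} (hs : SectionalPRankLE p s D) :
    blockRank p b < p ^ s := by
  classical
  have h2 : 2 ≤ n := by
    by_contra hn
    haveI : Subsingleton (Fin n) := Fin.subsingleton_iff_le_one.2 (by omega)
    exact hD1 (Subgroup.eq_bot_of_subsingleton D)
  have hM : 2 * (p * (n + 1)) = p * (2 * (n + 1)) := by ring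
  have hn : n ≤ p * (n + 1) := le_trans (by omega) (Nat.le_mul_of_pos_left _ hp.out.pos)
  obtain ⟨q, hq⟩ := exists_coversKey hM hn hpI hb
  obtain ⟨θ, hθ⟩ := Blocks.block_nonempty hb
  obtain ⟨S, hS, hkey, hne⟩ := hq θ hθ
  have hW : keyWeight (p * (n + 1)) p n q = pWeight p (canon (p * (n + 1)) S) := by
    rw [← hkey]
    exact keyWeight_eq hp.out.pos (canon_injective (mem_Beta.1 hS).1) (sum_canon_of_mem hS)
  rcases eq_or_ne p 2 with rfl | hodd
  · have hW2 : 2 ≤ keyWeight (2 * (n + 1)) 2 n q := by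
      by_contra hlt
      exact hD1 (defectGroup_eq_bot hpI hb hD hθ fun a ha =>
        vanish_of_weight_le_one hS (by omega) hne ha)
    have h1 := blockRank_alt_lt_two hM h2 hn q hq hW2
    have h3 := weight_le_alt_two h2 hpI hb hD hθ hS hne hs (hW ▸ hW2)
    rw [← hW] at h3
    exact lt_of_lt_of_le h1 (Nat.pow_le_pow_right two_pos h3)
  · have h1 := blockRank_alt_lt_odd hodd hM h2 hn q hq
    have h3 := weight_le_alt_odd hodd hpI hb hD hθ hS hne hs
    rw [← hW] at h3
    have hs1 := one_le_sectional (Blocks.IsDefectGroup.isPGroup hD) hD1 hs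
    split_ifs at h1 with hW0
    · rw [hW0, pow_zero] at h1
      have hp3 : 3 ≤ p := by
        have := hp.out.two_le
        omega
      have : p ≤ p ^ s := Nat.le_self_pow (by omega) p
      omega
    · exact lt_of_lt_of_le (by simpa using h1) (Nat.pow_le_pow_right hp.out.pos h3)

end Cfsg.Agent.SymChar
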