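import Cfsg.Agent.Lib.Char.Ito
import Cfsg.Agent.Lib.Char.PRegular
import Cfsg.Agent.Lib.Char.Orthogonality
import Cfsg.Prelude.Def_Blocks
import Mathlib.GroupTheory.SemidirectProduct
import Mathlib.GroupTheory.Sylow
import Mathlib.GroupTheory.Perm.Sign
import Mathlib.GroupTheory.Perm.ViaEmbedding
import Mathlib.GroupTheory.SpecificGroups.Alternating
import Mathlib.NumberTheory.Padics.PadicVal.Basic
import Mathlib.Data.Nat.Log
import Mathlib.Algebra.Group.Pi.Units
import Mathlib.Tactic.LinearCombination

/-!
# Sylow subgroups of `S_{p w}` and `A_{p w}` with a character of degree `p`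

A model is built as a wreath product of `ZMod p` by a Sylow subgroup of `S_w` preserving a
partition into blocks; it maps onto a non-abelian group with an abelian subgroup of index `p`.
-/

namespace Cfsg.Agent.SymChar

open Finset Equiv Cfsg

set_option linter.style.haveILetI false
set_option linter.unusedSectionVars false

/-- A homomorphism onto a noncommutative group with an abelian subgroup of index dividing `p`
gives a character of degree `p`. -/
theorem exists_degree_prime {G T : Type*} [Group G] [Finite G] [Group T] {p : ℕ} (hp : p.Prime)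
    (f : G →* T) (hnc : ∃ a b : G, f a * f b ≠ f b * f a) (A : Subgroup f.range) [A.Normal]
    (hA : ∀ a ∈ A, ∀ b ∈ A, a * b = b * a) (hidx : A.index ∣ p) :
    ∃ φ : IrrCharacter G, charDegree φ.1 = p := by
  classical
  haveI : Finite f.range := Finite.of_surjective _ f.rangeRestrict_surjective
  haveI := Fintype.ofFinite f.range
  obtain ⟨φ, hφ⟩ : ∃ φ : IrrCharacter f.range, Char.degree φ ≠ 1 := by
    by_contra! hall
    obtain ⟨a, b, hab⟩ := hnc
    refine hab ?_
    have h1 := Char.sum_degree_sq (G := f.range)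
    simp only [hall, one_pow, Finset.sum_const, Finset.card_univ, smul_eq_mul, mul_one] at h1
    rw [← Nat.card_eq_fintype_card, Char.card_irr] at h1
    have hbij := Nat.bijective_iff_surjective_and_card _ |>.2
      ⟨ConjClasses.mk_surjective (α := f.range), h1.symm⟩
    have := hbij.1 (show ConjClasses.mk (f.rangeRestrict b * f.rangeRestrict a *
        (f.rangeRestrict b)⁻¹) = ConjClasses.mk (f.rangeRestrict a) from
      ConjClasses.mk_eq_mk_iff_isConj.2 (isConj_iff.2 ⟨(f.rangeRestrict b)⁻¹, by group⟩))
    rw [mul_inv_eq_iff_eq_mul] at this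
    exact (congrArg Subtype.val this).symm
  have hp' : Char.degree φ = p :=
    ((Nat.dvd_prime hp).1 ((Char.degree_dvd_index_of_comm A hA φ).trans hidx)).resolve_left hφ
  refine ⟨⟨fun g => φ.1 (f.rangeRestrict g),
    Char.IsIrrCharacter.comp_surjective φ.2 f.rangeRestrict f.rangeRestrict_surjective⟩, ?_⟩
  show ⌊(φ.1 (f.rangeRestrict 1)).re⌋₊ = p
  rw [map_one, Char.apply_one_eq_degree, hp', Complex.natCast_re, Nat.floor_natCast]

theorem factorization_factorial_step {p : ℕ} (hp : p.Prime) (m a : ℕ) (ha : a < p) :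
    (p * m + a).factorial.factorization p = m + m.factorial.factorization p := by
  haveI : Fact p.Prime := ⟨hp⟩
  rw [Nat.factorization_def _ hp, Nat.factorization_def _ hp,
    padicValNat_factorial_mul_add m ha, padicValNat_factorial_mul, add_comm]

theorem factorization_factorial_top {p : ℕ} (hp : p.Prime) : ∀ k r : ℕ, r < (p - 1) * p ^ k →
    (p ^ k + r).factorial.factorization p =
      (p ^ k).factorial.factorization p + r.factorial.factorization p := by
  intro k
  induction k with
  | zero =>
    intro r hr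
    rw [pow_zero, mul_one] at hr
    have h := hp.two_le
    have h0 : ∀ j, j < p → j.factorial.factorization p = 0 := fun j hj => by
      have := factorization_factorial_step hp 0 j hj
      simpa using this
    rw [pow_zero, h0 _ (by omega), h0 _ (by omega), h0 _ (by omega)]
  | succ k ih =>
    intro r hr
    obtain ⟨r', a, ha, rfl⟩ : ∃ r' a, a < p ∧ r = p * r' + a :=
      ⟨r / p, r % p, Nat.mod_lt _ hp.pos, (Nat.div_add_mod r p).symm⟩
    have hr' : r' < (p - 1) * p ^ k := by
      refine Nat.lt_of_mul_lt_mul_left (a := p) ?_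
      calc p * r' ≤ p * r' + a := Nat.le_add_right _ _
        _ < (p - 1) * p ^ (k + 1) := hr
        _ = p * ((p - 1) * p ^ k) := by ring
    rw [show p ^ (k + 1) + (p * r' + a) = p * (p ^ k + r') + a by ring,
      factorization_factorial_step hp _ _ ha, factorization_factorial_step hp _ _ ha,
      show p ^ (k + 1) = p * p ^ k + 0 by ring, factorization_factorial_step hp _ _ hp.pos,
      ih r' hr']
    ring

theorem factorization_factorial_ppow {p : ℕ} (hp : p.Prime) (j : ℕ) :
    (p - 1) * (p ^ j).factorial.factorization p + 1 = p ^ j := by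
  induction j with
  | zero => simp
  | succ j ih =>
    rw [show p ^ (j + 1) = p * p ^ j + 0 by ring, factorization_factorial_step hp _ _ hp.pos,
      add_zero, Nat.mul_add, add_assoc, ih]
    obtain ⟨t, rfl⟩ : ∃ t, p = t + 1 := ⟨p - 1, by have := hp.pos; omega⟩
    rw [Nat.add_sub_cancel]
    ring

section Model

variable {p : ℕ} [hp : Fact p.Prime] {B : Type} [Fintype B] [DecidableEq B] (s : B → ℕ)
  (P : Subgroup (Equiv.Perm B))

/-- The points, sorted into blocks. -/
abbrev BlockPt : Type := Σ b, Fin (s b)

/-- The pairs of a permutation of the points and a compatible permutation of the blocks in `P`. -/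
def blockStab : Subgroup (Equiv.Perm (BlockPt s) × Equiv.Perm B) where
  carrier := {g | g.2 ∈ P ∧ ∀ i, (g.1 i).1 = g.2 i.1}
  mul_mem' := fun {a b} ha hb =>
    ⟨mul_mem ha.1 hb.1, fun i => by simp [Equiv.Perm.mul_apply, ha.2, hb.2]⟩
  one_mem' := ⟨one_mem _, fun i => rfl⟩
  inv_mem' := fun {a} ha => ⟨inv_mem ha.1, fun i => by
    have := ha.2 (a.1⁻¹ i)
    simp only [Equiv.Perm.coe_inv, Equiv.apply_symm_apply] at this
    simp only [Prod.fst_inv, Prod.snd_inv, Equiv.Perm.coe_inv, this, Equiv.symm_apply_apply]⟩

/-- The block part. -/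
def blockPerm : blockStab s P →* Equiv.Perm B :=
  (MonoidHom.snd _ _).comp (blockStab s P).subtype

theorem exists_lift (hs : ∀ h ∈ P, ∀ b, s (h b) = s b) {h : Equiv.Perm B} (hh : h ∈ P) :
    ∃ γ : blockStab s P, blockPerm s P γ = h :=
  ⟨⟨(Equiv.sigmaCongr h fun b => finCongr (hs h hh b).symm, h), hh, fun _ => rfl⟩, rfl⟩

theorem factorization_blockStab (hs : ∀ h ∈ P, ∀ b, s (h b) = s b) (r : ℕ) :
    (Nat.card P).factorization r + ∑ b, (s b).factorial.factorization r ≤
      (Nat.card (blockStab s P)).factorization r := by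
  classical
  let ι : ((b : B) → Equiv.Perm (Fin (s b))) →* (blockPerm s P).ker :=
    { toFun := fun F => ⟨⟨(Equiv.Perm.sigmaCongrRightHom _ F, 1), one_mem _, fun _ => rfl⟩, rfl⟩
      map_one' := Subtype.ext (Subtype.ext (Prod.ext (map_one _) rfl))
      map_mul' := fun F G => Subtype.ext (Subtype.ext (Prod.ext (map_mul _ _ _) (one_mul 1).symm)) }
  have hι : Function.Injective ι := fun F G h => Equiv.Perm.sigmaCongrRightHom_injective
    (congrArg (fun z : (blockPerm s P).ker => ((z : blockStab s P) :
      Equiv.Perm (BlockPt s) × Equiv.Perm B).1) h)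
  have h1 := Subgroup.card_dvd_of_injective ι hι
  rw [Nat.card_pi] at h1
  simp only [Nat.card_perm, Nat.card_fin] at h1
  have h2 : (blockPerm s P).range = P := le_antisymm
    (by rintro _ ⟨γ, rfl⟩; exact γ.2.1)
    (fun h hh => by obtain ⟨γ, hγ⟩ := exists_lift s P hs hh; exact ⟨γ, hγ⟩)
  have h3 := Subgroup.card_mul_index (blockPerm s P).ker
  rw [Subgroup.index_ker, h2] at h3
  rw [← h3, Nat.factorization_mul Nat.card_pos.ne' Nat.card_pos.ne', Finsupp.add_apply, add_comm]
  refine Nat.add_le_add_right ?_ _
  have h4 := (Nat.factorization_le_iff_dvd (Finset.prod_ne_zero_iff.2 fun b _ =>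
    (s b).factorial_ne_zero) Nat.card_pos.ne').2 h1 r
  rwa [Nat.factorization_prod fun b _ => (s b).factorial_ne_zero, Finsupp.coe_finsetSum,
    Finset.sum_apply] at h4

/-- Translations of the last coordinate. -/
def translate {ι : Type} (q : ℕ) :
    Multiplicative (ι → ZMod q) →* Equiv.Perm (ι × ZMod q) where
  toFun v :=
    { toFun := fun z => (z.1, z.2 + Multiplicative.toAdd v z.1)
      invFun := fun z => (z.1, z.2 - Multiplicative.toAdd v z.1)
      left_inv := fun z => by simp
      right_inv := fun z => by simp }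
  map_one' := Equiv.ext fun z => by simp
  map_mul' u v := Equiv.ext fun z => by
    simp only [Equiv.Perm.mul_apply, toAdd_mul, Pi.add_apply, Equiv.coe_fn_mk]
    rw [add_comm (Multiplicative.toAdd u z.1), add_assoc]

/-- Permutations of the first coordinate. -/
def liftFst (ι κ : Type) : Equiv.Perm ι →* Equiv.Perm (ι × κ) where
  toFun g := g.prodCongr (Equiv.refl κ)
  map_one' := Equiv.ext fun _ => rfl
  map_mul' _ _ := Equiv.ext fun _ => rfl

/-- Permuting the coordinates. -/
def permAct (ι : Type) (q : ℕ) : Equiv.Perm ι →* MulAut (Multiplicative (ι → ZMod q)) where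
  toFun g := AddEquiv.toMultiplicative
    { toFun := fun v i => v (g.symm i)
      invFun := fun v i => v (g i)
      left_inv := fun v => funext fun i => by simp
      right_inv := fun v => funext fun i => by simp
      map_add' := fun _ _ => rfl }
  map_one' := MulEquiv.ext fun _ => rfl
  map_mul' _ _ := MulEquiv.ext fun _ => rfl

/-- The sum over each block. -/
def blockTotal (v : BlockPt s → ZMod p) (b : B) : ZMod p := ∑ i : Fin (s b), v ⟨b, i⟩

/-- The sums over the blocks. -/
def blockTotalHom : Multiplicative (BlockPt s → ZMod p) →* Multiplicative (B → ZMod p) :=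
  AddMonoidHom.toMultiplicative
    { toFun := blockTotal (p := p) s
      map_zero' := funext fun b => by simp [blockTotal]
      map_add' := fun u v => funext fun b => by simp [blockTotal, Finset.sum_add_distrib] }

theorem blockTotal_perm (γ : blockStab s P) (v : BlockPt s → ZMod p) (b : B) :
    blockTotal s (fun i => v (γ.1.1.symm i)) b = blockTotal s v (γ.1.2.symm b) := by
  classical
  have h : ∀ (w : BlockPt s → ZMod p) b, blockTotal s w b =
      ∑ i ∈ Finset.univ.filter (fun i : BlockPt s => i.1 = b), w i := by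
    intro w b
    rw [Finset.sum_filter, Fintype.sum_sigma, Finset.sum_eq_single b]
    · simp [blockTotal]
    · intro c _ hc; simp [hc]
    · simp
  rw [h, h]
  refine Finset.sum_equiv γ.1.1.symm (fun i => ?_) fun i _ => rfl
  simp only [Finset.mem_filter, Finset.mem_univ, true_and]
  have := γ.2.2 (γ.1.1.symm i)
  simp only [Equiv.apply_symm_apply] at this
  rw [this]
  constructor
  · intro h; simp [← h]
  · intro h; simp [h]

end Model

section Sylow

variable {p : ℕ} [hp : Fact p.Prime] {B : Type} [Fintype B] [DecidableEq B] (s : B → ℕ)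
  (P : Subgroup (Equiv.Perm B)) (Q : Subgroup (blockStab s P))

/-- The action of a group of block permutations on the translations. -/
def wreathAct : Q →* MulAut (Multiplicative (BlockPt s → ZMod p)) :=
  (permAct (BlockPt s) p).comp
    ((MonoidHom.fst _ _).comp ((blockStab s P).subtype.comp Q.subtype))

/-- The wreath product. -/
abbrev Wreath (p : ℕ) [Fact p.Prime] : Type :=
  Multiplicative (BlockPt s → ZMod p) ⋊[wreathAct (p := p) s P Q] Q

/-- Its action on `points × ZMod p`. -/
def wreathPerm : Wreath s P Q p →* Equiv.Perm (BlockPt s × ZMod p) :=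
  SemidirectProduct.lift (translate p)
    ((liftFst _ _).comp ((MonoidHom.fst _ _).comp ((blockStab s P).subtype.comp Q.subtype)))
    fun γ => by
      refine MonoidHom.ext fun v => Equiv.ext fun z => ?_
      simp [wreathAct, permAct, translate, liftFst, MulAut.conj_apply]

/-- Its action on `blocks × ZMod p`. -/
def wreathBlock : Wreath s P Q p →* Equiv.Perm (B × ZMod p) :=
  SemidirectProduct.lift ((translate p).comp (blockTotalHom s))
    ((liftFst _ _).comp ((blockPerm s P).comp Q.subtype))
    fun γ => by
      refine MonoidHom.ext fun v => Equiv.ext fun z => ?_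
      have := blockTotal_perm (p := p) s P γ.1 (Multiplicative.toAdd v) z.1
      simp [wreathAct, permAct, translate, liftFst, MulAut.conj_apply, blockTotalHom, blockPerm,
        this]

instance instFiniteWreath : Finite (Wreath s P Q p) :=
  Finite.of_equiv _ SemidirectProduct.equivProd.symm

theorem wreathPerm_injective
    (hfaith : ∀ γ : Q, (γ : blockStab s P).1.1 = 1 → γ = 1) :
    Function.Injective (wreathPerm (p := p) s P Q) := by
  rw [injective_iff_map_eq_one]
  intro w hw
  have h1 : ∀ i, (w.right : blockStab s P).1.1 i = i ∧ Multiplicative.toAdd w.left i = 0 := by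
    intro i
    have := congrArg (fun σ : Equiv.Perm (BlockPt s × ZMod p) => σ (i, 0)) hw
    simp [wreathPerm, SemidirectProduct.lift, translate, liftFst] at this
    exact ⟨this.1, by simpa [this.1] using this.2⟩
  have hr : w.right = 1 := hfaith _ (Equiv.ext fun i => (h1 i).1)
  refine SemidirectProduct.ext ?_ hr
  exact Multiplicative.toAdd.injective (funext fun i => (h1 i).2)

end Sylow

section Build

variable {p : ℕ} [hp : Fact p.Prime] {B : Type} [Fintype B] [DecidableEq B] (s : B → ℕ)
  (P : Subgroup (Equiv.Perm B))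

theorem card_blockPt : Fintype.card (BlockPt s) = ∑ b, s b := by
  simp [Fintype.card_sigma]

/-- A Sylow subgroup of the block stabiliser is one of the symmetric group and maps onto `P`. -/
theorem sylow_blockStab (hs : ∀ h ∈ P, ∀ b, s (h b) = s b)
    (hfaith : ∀ h ∈ P, (∀ b, 0 < s b → h b = b) → h = 1) (hP : IsPGroup p P)
    (hcard : (∑ b, s b).factorial.factorization p ≤
      (Nat.card P).factorization p + ∑ b, (s b).factorial.factorization p)
    (Q : Sylow p (blockStab s P)) :
    Nat.card (Q : Subgroup (blockStab s P)) = p ^ (∑ b, s b).factorial.factorization p ∧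
    (∀ γ : (Q : Subgroup (blockStab s P)), (γ : blockStab s P).1.1 = 1 → γ = 1) ∧
    (Q : Subgroup (blockStab s P)).map (blockPerm s P) = P := by
  classical
  have hinj : ∀ γ : blockStab s P, γ.1.1 = 1 → γ = 1 := by
    intro γ hγ
    refine Subtype.ext (Prod.ext hγ (hfaith _ γ.2.1 fun b hb => ?_))
    have := γ.2.2 ⟨b, ⟨0, hb⟩⟩
    rw [hγ] at this
    exact this.symm
  refine ⟨?_, fun γ hγ => Subtype.ext (hinj γ hγ), ?_⟩
  · rw [Q.card_eq_multiplicity]
    congr 1
    refine le_antisymm ?_ (hcard.trans (factorization_blockStab s P hs p))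
    let F : blockStab s P →* Equiv.Perm (BlockPt s) :=
      (MonoidHom.fst _ _).comp (blockStab s P).subtype
    have hF : Function.Injective F := by
      rw [injective_iff_map_eq_one]
      exact hinj
    have h := Subgroup.card_dvd_of_injective F hF
    rw [Nat.card_perm, Nat.card_eq_fintype_card (α := BlockPt s), card_blockPt] at h
    exact (Nat.factorization_le_iff_dvd Nat.card_pos.ne' (Nat.factorial_ne_zero _)).2 h p
  · set R := (Q : Subgroup (blockStab s P)).map (blockPerm s P) with hR
    have hle : R ≤ P := by rintro _ ⟨γ, -, rfl⟩; exact γ.2.1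
    have hsurj : (blockPerm s P).range = P := le_antisymm
      (by rintro _ ⟨γ, rfl⟩; exact γ.2.1)
      (fun h hh => by obtain ⟨γ, hγ⟩ := exists_lift s P hs hh; exact ⟨γ, hγ⟩)
    have hd : R.relIndex P ∣ (Q : Subgroup (blockStab s P)).index := by
      have h1 := Subgroup.index_map_dvd (f := (blockPerm s P).rangeRestrict)
        (Q : Subgroup (blockStab s P)) (blockPerm s P).rangeRestrict_surjective
      have h2 : ((Q : Subgroup (blockStab s P)).map (blockPerm s P).rangeRestrict).index =
          R.relIndex (blockPerm s P).range := by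
        rw [Subgroup.relIndex]
        congr 1
        ext ⟨h, hh⟩
        simp only [Subgroup.mem_map, Subgroup.mem_subgroupOf, hR, Subtype.ext_iff,
          MonoidHom.coe_rangeRestrict]
      rw [h2, hsurj] at h1
      exact h1
    obtain ⟨j, hj⟩ := IsPGroup.iff_card.1 hP
    have hd2 : R.relIndex P ∣ p ^ j := hj ▸ Subgroup.relIndex_dvd_card R P
    have h1 : R.relIndex P = 1 :=
      Nat.eq_one_of_dvd_coprimes
        ((hp.out.coprime_iff_not_dvd.2 Q.not_dvd_index).pow_left j) hd2 hd
    exact le_antisymm hle (Subgroup.relIndex_eq_one.1 h1)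

variable (Q : Subgroup (blockStab s P))

/-- The even part of the wreath product. -/
def evenPart : Subgroup (Wreath s P Q p) :=
  (Equiv.Perm.sign.comp (wreathPerm (p := p) s P Q)).ker

/-- The block part of the even part. -/
def evenBlock : evenPart (p := p) s P Q →* Equiv.Perm B :=
  ((blockPerm s P).comp Q.subtype).comp (SemidirectProduct.rightHom.comp (Subgroup.subtype _))

theorem card_wreath (hQ : Nat.card Q = p ^ (∑ b, s b).factorial.factorization p) :
    Nat.card (Wreath s P Q p) = p ^ ((∑ b, s b) + (∑ b, s b).factorial.factorization p) := by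
  rw [SemidirectProduct.card, hQ, pow_add]
  congr 1
  rw [Nat.card_congr Multiplicative.toAdd, Nat.card_fun, Nat.card_zmod,
    Nat.card_eq_fintype_card, card_blockPt]

theorem sign_eq_one_of_odd (hodd : p ≠ 2) {G : Type} [Group G] {k : ℕ} (hG : Nat.card G = p ^ k)
    {ι : Type} [Fintype ι] [DecidableEq ι] (f : G →* Equiv.Perm ι) (w : G) :
    Equiv.Perm.sign (f w) = 1 := by
  have h1 : w ^ (p ^ k) = 1 := by rw [← hG]; exact pow_card_eq_one'
  have h2 := congrArg (fun z => Equiv.Perm.sign (f z)) h1
  simp only [map_pow, map_one] at h2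
  rcases Int.units_eq_one_or (Equiv.Perm.sign (f w)) with h | h
  · exact h
  · rw [h, ((hp.out.odd_of_ne_two hodd).pow).neg_one_pow] at h2
    exact absurd h2 (by decide)

theorem evenPart_eq_top (hodd : p ≠ 2) (hQ : Nat.card Q = p ^ (∑ b, s b).factorial.factorization p) :
    evenPart (p := p) s P Q = ⊤ :=
  eq_top_iff.2 fun w _ => sign_eq_one_of_odd hodd (card_wreath s P Q hQ) (wreathPerm s P Q) w

theorem sign_translate_single (i : BlockPt s) :
    Equiv.Perm.sign (translate (ι := BlockPt s) 2 (Multiplicative.ofAdd (Pi.single i 1))) = -1 := by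
  have : translate (ι := BlockPt s) 2 (Multiplicative.ofAdd (Pi.single i 1)) =
      Equiv.swap (i, 0) (i, 1) := by
    refine Equiv.ext fun z => ?_
    obtain ⟨j, a⟩ := z
    by_cases hj : j = i
    · subst hj
      rcases (show a = 0 ∨ a = 1 by decide +revert) with rfl | rfl <;> simp [translate] <;> decide +revert
    · simp [translate, Equiv.swap_apply_def, hj]
  rw [this, Equiv.Perm.sign_swap]
  simp

/-- Every block permutation of the group is realised by an even element. -/
theorem exists_even_lift [Nonempty (BlockPt s)]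
    (hQ : Nat.card Q = p ^ (∑ b, s b).factorial.factorization p) (γ : Q) :
    ∃ w : evenPart (p := p) s P Q, (w : Wreath s P Q p).right = γ := by
  by_cases hodd : p = 2
  · subst hodd
    by_cases he : Equiv.Perm.sign (wreathPerm s P Q (SemidirectProduct.inr γ : Wreath s P Q 2)) = 1
    · exact ⟨⟨SemidirectProduct.inr γ, he⟩, SemidirectProduct.right_inr _⟩
    · obtain ⟨i⟩ := ‹Nonempty (BlockPt s)›
      refine ⟨⟨(SemidirectProduct.inl (Multiplicative.ofAdd (Pi.single i 1)) *
        SemidirectProduct.inr γ : Wreath s P Q 2), ?_⟩, by simp⟩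
      show Equiv.Perm.sign (wreathPerm s P Q (_ * _)) = 1
      rw [map_mul, map_mul, (Int.units_eq_one_or _).resolve_left he]
      rw [show wreathPerm s P Q (SemidirectProduct.inl (Multiplicative.ofAdd (Pi.single i (1 : ZMod 2))) :
        Wreath s P Q 2) = translate 2 (Multiplicative.ofAdd (Pi.single i 1)) from
          SemidirectProduct.lift_inl _ _ _ _, sign_translate_single]
      rfl
  · exact ⟨⟨SemidirectProduct.inr γ, by rw [evenPart_eq_top s P Q hodd hQ]; trivial⟩,
      SemidirectProduct.right_inr _⟩

/-- From the model to a group of permutations. -/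
theorem exists_subgroup_of_model {W : ℕ} (hW : ∑ b, s b = W)
    (hfaith : ∀ γ : Q, (γ : blockStab s P).1.1 = 1 → γ = 1)
    (hQ : Nat.card Q = p ^ (∑ b, s b).factorial.factorization p)
    (hφ : ∃ φ : IrrCharacter (evenPart (p := p) s P Q), charDegree φ.1 = p) :
    ∃ L : Subgroup (Equiv.Perm (Fin (p * W))), L ≤ alternatingGroup (Fin (p * W)) ∧ IsPGroup p L ∧
      p ^ (p * W).factorial.factorization p ≤ Nat.card L * (if p = 2 then 2 else 1) ∧
      ∃ φ : IrrCharacter L, charDegree φ.1 = p := by
  classical
  have hc : Fintype.card (BlockPt s × ZMod p) = p * W := by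
    rw [Fintype.card_prod, card_blockPt, ZMod.card, hW, mul_comm]
  let e : BlockPt s × ZMod p ≃ Fin (p * W) := Fintype.equivFinOfCardEq hc
  let F : evenPart (p := p) s P Q →* Equiv.Perm (Fin (p * W)) :=
    (e.permCongrHom.toMonoidHom.comp (wreathPerm s P Q)).comp (Subgroup.subtype _)
  have hF : Function.Injective F :=
    (e.permCongrHom.injective.comp (wreathPerm_injective s P Q hfaith)).comp Subtype.val_injective
  refine ⟨F.range, ?_, ?_, ?_, ?_⟩
  · rintro _ ⟨w, rfl⟩
    rw [Equiv.Perm.mem_alternatingGroup]
    show Equiv.Perm.sign (e.permCongr _) = 1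
    rw [Equiv.Perm.sign_permCongr]
    exact w.2
  · refine IsPGroup.of_surjective ?_ F.rangeRestrict F.rangeRestrict_surjective
    exact IsPGroup.to_subgroup (IsPGroup.of_card (card_wreath s P Q hQ)) _
  · rw [← Nat.card_congr (MonoidHom.ofInjective hF).toEquiv,
      show (p * W).factorial.factorization p = W + W.factorial.factorization p by
        simpa using factorization_factorial_step hp.out W 0 hp.out.pos]
    have h1 := Subgroup.card_mul_index (evenPart (p := p) s P Q)
    have hwc := card_wreath (p := p) s P Q hQ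
    rw [hW] at hwc
    rw [hwc] at h1
    rw [← h1]
    refine Nat.mul_le_mul_left _ ?_
    split_ifs with h2
    · rw [evenPart, Subgroup.index_ker]
      exact (Nat.card_le_card_of_injective _ Subtype.val_injective).trans (by
        rw [Nat.card_eq_fintype_card]; rfl)
    · rw [evenPart_eq_top s P Q h2 hQ, Subgroup.index_top]
  · obtain ⟨φ, hφ⟩ := hφ
    refine ⟨⟨fun z => φ.1 ((MonoidHom.ofInjective hF).symm z),
      Char.IsIrrCharacter.comp_surjective φ.2 (MonoidHom.ofInjective hF).symm.toMonoidHom
        (MonoidHom.ofInjective hF).symm.surjective⟩, ?_⟩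
    refine Eq.trans ?_ hφ
    show ⌊(φ.1 ((MonoidHom.ofInjective hF).symm 1)).re⌋₊ = ⌊(φ.1 1).re⌋₊
    rw [map_one]

end Build

/-- Shifts of the blocks. -/
def shiftHom (p : ℕ) : Multiplicative (ZMod p) →* Equiv.Perm (Option (ZMod p)) where
  toFun c := Equiv.optionCongr (Equiv.addLeft (Multiplicative.toAdd c))
  map_one' := Equiv.ext fun z => by cases z <;> simp
  map_mul' a b := Equiv.ext fun z => by cases z <;> simp [add_assoc]

theorem exists_model_shift {p : ℕ} [hp : Fact p.Prime] {k r : ℕ} (hr : r < (p - 1) * p ^ (k + 1))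
    (hpr : p = 2 → 0 < r) :
    ∃ L : Subgroup (Equiv.Perm (Fin (p * (p ^ (k + 1) + r)))),
      L ≤ alternatingGroup (Fin (p * (p ^ (k + 1) + r))) ∧ IsPGroup p L ∧
      p ^ (p * (p ^ (k + 1) + r)).factorial.factorization p ≤
        Nat.card L * (if p = 2 then 2 else 1) ∧
      ∃ φ : IrrCharacter L, charDegree φ.1 = p := by
  classical
  let s : Option (ZMod p) → ℕ := fun b => b.elim r fun _ => p ^ k
  let P := (shiftHom p).range
  have hinj : Function.Injective (shiftHom p) := by
    rw [injective_iff_map_eq_one]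
    intro c hc
    have := congrArg (fun σ : Equiv.Perm (Option (ZMod p)) => σ (some 0)) hc
    simpa [shiftHom] using this
  have hsum : ∑ b, s b = p ^ (k + 1) + r := by
    rw [Fintype.sum_option]
    simp only [s, Option.elim_none, Option.elim_some, Finset.sum_const, Finset.card_univ,
      ZMod.card, smul_eq_mul]
    ring
  have hcardP : Nat.card P = p := by
    rw [← Nat.card_congr (MonoidHom.ofInjective hinj).toEquiv,
      Nat.card_congr Multiplicative.toAdd, Nat.card_zmod]
  have hsinv : ∀ h ∈ P, ∀ b, s (h b) = s b := by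
    rintro _ ⟨c, rfl⟩ b
    cases b <;> simp [shiftHom, s]
  have hfaith : ∀ h ∈ P, (∀ b, 0 < s b → h b = b) → h = 1 := by
    rintro _ ⟨c, rfl⟩ hfix
    have := hfix (some 0) (Nat.pow_pos hp.out.pos)
    simp [shiftHom] at this
    simp [this]
  have hcount : (∑ b, s b).factorial.factorization p ≤
      (Nat.card P).factorization p + ∑ b, (s b).factorial.factorization p := by
    rw [hsum, hcardP, hp.out.factorization_self, Fintype.sum_option,
      factorization_factorial_top hp.out _ _ hr]
    simp only [s, Option.elim_none, Option.elim_some, Finset.sum_const, Finset.card_univ,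
      ZMod.card, smul_eq_mul]
    have h1 := factorization_factorial_step hp.out (p ^ k) 0 hp.out.pos
    rw [add_zero, ← pow_succ'] at h1
    have h2 := factorization_factorial_ppow hp.out k
    rw [Nat.sub_mul, one_mul] at h2
    have : (p ^ k).factorial.factorization p ≤ p * (p ^ k).factorial.factorization p :=
      Nat.le_mul_of_pos_left _ hp.out.pos
    omega
  obtain ⟨Q⟩ : Nonempty (Sylow p (blockStab s P)) := inferInstance
  obtain ⟨hQ, hQf, hQmap⟩ := sylow_blockStab s P hsinv hfaith
    (IsPGroup.of_card (n := 1) (by rw [hcardP, pow_one])) hcount Q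
  refine exists_subgroup_of_model s P (Q : Subgroup (blockStab s P)) hsum hQf hQ ?_
  set G' := evenPart (p := p) s P (Q : Subgroup (blockStab s P))
  let f : G' →* Equiv.Perm (Option (ZMod p) × ZMod p) :=
    (wreathBlock s P (Q : Subgroup (blockStab s P))).comp G'.subtype
  let π := evenBlock (p := p) s P (Q : Subgroup (blockStab s P))
  -- the two elements
  let i₀ : BlockPt s := ⟨some 0, ⟨0, Nat.pow_pos hp.out.pos⟩⟩
  haveI : Nonempty (BlockPt s) := ⟨i₀⟩
  let va : BlockPt s → ZMod p :=
    if h : p = 2 then Pi.single i₀ 1 + Pi.single ⟨none, ⟨0, hpr h⟩⟩ 1 else Pi.single i₀ 1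
  have hva : SemidirectProduct.inl (Multiplicative.ofAdd va) ∈ G' := by
    by_cases h : p = 2
    · subst h
      show Equiv.Perm.sign (wreathPerm s P _ (SemidirectProduct.inl _)) = 1
      rw [show wreathPerm s P (Q : Subgroup (blockStab s P))
        (SemidirectProduct.inl (Multiplicative.ofAdd va) : Wreath s P _ 2) =
          translate 2 (Multiplicative.ofAdd va) from SemidirectProduct.lift_inl _ _ _ _]
      simp only [va, dite_true, ofAdd_add, map_mul, sign_translate_single]
      rfl
    · rw [show G' = ⊤ from evenPart_eq_top s P _ h hQ]; trivial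
  have hblock : ∀ j : ZMod p, blockTotal s va (some j) = if j = 0 then 1 else 0 := by
    intro j
    have h1 : blockTotal s (Pi.single i₀ (1 : ZMod p)) (some j) = if j = 0 then 1 else 0 := by
      by_cases hj : j = 0
      · subst hj
        rw [if_pos rfl, blockTotal, Finset.sum_eq_single (⟨0, Nat.pow_pos hp.out.pos⟩ : Fin (s (some 0)))]
        · exact Pi.single_eq_same i₀ 1
        · intro b _ hb
          refine Pi.single_eq_of_ne (fun he => hb ?_) _
          simpa [i₀] using he
        · simp
      · rw [if_neg hj, blockTotal]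
        refine Finset.sum_eq_zero fun b _ => Pi.single_eq_of_ne (fun he => hj ?_) _
        exact Option.some_injective _ (congrArg Sigma.fst he)
    simp only [va]
    split_ifs with h hj hj
    all_goals
      simp only [blockTotal, Pi.add_apply, Finset.sum_add_distrib] at h1 ⊢
      rw [h1]
      simp [hj, Pi.single_apply]
  obtain ⟨γ, hγ, hγ1⟩ : ∃ γ ∈ (Q : Subgroup (blockStab s P)),
      blockPerm s P γ = shiftHom p (Multiplicative.ofAdd 1) := by
    have : shiftHom p (Multiplicative.ofAdd (1 : ZMod p)) ∈
        (Q : Subgroup (blockStab s P)).map (blockPerm s P) := by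
      rw [hQmap]; exact ⟨_, rfl⟩
    exact this
  obtain ⟨w, hw⟩ := exists_even_lift s P (Q : Subgroup (blockStab s P)) hQ ⟨γ, hγ⟩
  haveI : (π.ker.map f.rangeRestrict).Normal :=
    Subgroup.Normal.map inferInstance _ f.rangeRestrict_surjective
  refine exists_degree_prime hp.out f ⟨⟨_, hva⟩, w, fun he => ?_⟩ (π.ker.map f.rangeRestrict) ?_ ?_
  · have h1 := congrArg (fun σ : Equiv.Perm (Option (ZMod p) × ZMod p) => σ (some 0, 0)) he
    have hfw : ∀ z, f w z = (some ((1 : ZMod p)) , z.2 +
        blockTotal s (Multiplicative.toAdd w.1.left) (some 1)) ∨ z.1 ≠ some 0 := by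
      intro z
      by_cases hz : z.1 = some 0
      · left
        simp [f, wreathBlock, SemidirectProduct.lift, translate, liftFst, blockTotalHom, hw, hγ1,
          shiftHom, hz]
      · exact Or.inr hz
    have hfa : ∀ z, f ⟨_, hva⟩ z = (z.1, z.2 + blockTotal s va z.1) := fun z => by
      simp [f, wreathBlock, SemidirectProduct.lift, translate, liftFst, blockTotalHom]
    simp only [Equiv.Perm.mul_apply, hfa] at h1
    rw [(hfw (some 0, 0)).resolve_right (by simp),
      (hfw (some 0, 0 + blockTotal s va (some 0))).resolve_right (by simp)] at h1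
    simp [hblock] at h1
  · rintro _ ⟨u, hu, rfl⟩ _ ⟨v, hv, rfl⟩
    refine Subtype.ext ?_
    have hk : ∀ u : G', π u = 1 → f u = translate p (blockTotalHom s u.1.left) :=
      fun u hu => by
        have hu' : blockPerm s P (u.1.right : blockStab s P) = 1 := hu
        simp [f, wreathBlock, SemidirectProduct.lift, hu']
    show f u * f v = f v * f u
    rw [hk u hu, hk v hv, ← map_mul, ← map_mul (translate p), mul_comm]
  · refine (Subgroup.index_map_dvd _ f.rangeRestrict_surjective).trans ?_
    rw [Subgroup.index_ker]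
    exact (Subgroup.card_dvd_of_le (K := P) (by
      rintro _ ⟨u, rfl⟩
      exact (u.1.right : blockStab s P).2.1)).trans (dvd_of_eq hcardP)

/-- The centralizer of a double transposition. -/
def dihSub : Subgroup (Equiv.Perm (Fin 4)) :=
  Subgroup.centralizer {Equiv.swap (0 : Fin 4) 1 * Equiv.swap 2 3}

theorem card_dihSub : Nat.card dihSub = 8 := by
  have : Nat.card dihSub = (Finset.univ.filter fun g : Equiv.Perm (Fin 4) =>
      g * (Equiv.swap (0 : Fin 4) 1 * Equiv.swap 2 3) =
        Equiv.swap (0 : Fin 4) 1 * Equiv.swap 2 3 * g).card := by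
    rw [← Nat.card_eq_finsetCard]
    exact Nat.card_congr (Equiv.subtypeEquivRight fun g => by
      simp [dihSub, Subgroup.mem_centralizer_singleton_iff])
  rw [this]
  decide

theorem exists_model_two (k : ℕ) :
    ∃ L : Subgroup (Equiv.Perm (Fin (2 * 2 ^ (k + 2)))),
      L ≤ alternatingGroup (Fin (2 * 2 ^ (k + 2))) ∧ IsPGroup 2 L ∧
      2 ^ (2 * 2 ^ (k + 2)).factorial.factorization 2 ≤ Nat.card L * (if 2 = 2 then 2 else 1) ∧
      ∃ φ : IrrCharacter L, charDegree φ.1 = 2 := by
  classical
  haveI : Fact (Nat.Prime 2) := ⟨Nat.prime_two⟩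
  let s : Fin 4 → ℕ := fun _ => 2 ^ k
  have hsum : ∑ b, s b = 2 ^ (k + 2) := by simp [s]; ring
  have hpos : ∀ b, 0 < s b := fun b => Nat.two_pow_pos k
  have hcount : (∑ b, s b).factorial.factorization 2 ≤
      (Nat.card dihSub).factorization 2 + ∑ b, (s b).factorial.factorization 2 := by
    rw [hsum, card_dihSub, show (8 : ℕ) = 2 ^ 3 by norm_num, Nat.prime_two.factorization_pow,
      Finsupp.single_eq_same]
    simp only [s, Finset.sum_const, Finset.card_univ, Fintype.card_fin, smul_eq_mul]
    have h1 := factorization_factorial_step Nat.prime_two (2 ^ (k + 1)) 0 two_pos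
    have h2 := factorization_factorial_step Nat.prime_two (2 ^ k) 0 two_pos
    rw [add_zero, ← pow_succ'] at h1 h2
    have h3 := factorization_factorial_ppow Nat.prime_two k
    have h4 : 2 ^ (k + 1) = 2 * 2 ^ k := pow_succ' 2 k
    simp only [show k + 1 + 1 = k + 2 from rfl] at h1
    omega
  obtain ⟨Q⟩ : Nonempty (Sylow 2 (blockStab s dihSub)) := inferInstance
  obtain ⟨hQ, hQf, hQmap⟩ := sylow_blockStab s dihSub (fun _ _ _ => rfl)
    (fun h _ hfix => Equiv.ext fun b => hfix b (hpos b))
    (IsPGroup.of_card (n := 3) (by rw [card_dihSub]; norm_num)) hcount Q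
  refine exists_subgroup_of_model s dihSub (Q : Subgroup (blockStab s dihSub)) hsum hQf hQ ?_
  haveI : Nonempty (BlockPt s) := ⟨⟨0, ⟨0, hpos 0⟩⟩⟩
  set π := evenBlock (p := 2) s dihSub (Q : Subgroup (blockStab s dihSub))
  have hlift : ∀ h ∈ dihSub, ∃ w, π w = h := by
    intro h hh
    rw [← hQmap] at hh
    obtain ⟨γ, hγ, rfl⟩ := hh
    obtain ⟨w, hw⟩ := exists_even_lift s dihSub (Q : Subgroup (blockStab s dihSub)) hQ ⟨γ, hγ⟩
    exact ⟨w, congrArg (fun z : (Q : Subgroup (blockStab s dihSub)) => blockPerm s dihSub z.1) hw⟩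
  have hrange : π.range = dihSub := le_antisymm
    (by rintro _ ⟨u, rfl⟩; exact (u.1.right : blockStab s dihSub).2.1)
    (fun h hh => by obtain ⟨w, hw⟩ := hlift h hh; exact ⟨w, hw⟩)
  obtain ⟨u, hu⟩ := hlift (Equiv.swap 0 1)
    (Subgroup.mem_centralizer_singleton_iff.2 (by decide))
  obtain ⟨v, hv⟩ := hlift (Equiv.swap 0 2 * Equiv.swap 1 3)
    (Subgroup.mem_centralizer_singleton_iff.2 (by decide))
  have hc8 : Nat.card π.range = 8 := by rw [hrange, card_dihSub]
  obtain ⟨A, hA⟩ := Sylow.exists_subgroup_card_pow_prime (G := π.range) 2 (n := 2)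
    (by rw [hc8]; norm_num)
  have hidx : A.index = 2 := by
    have := Subgroup.card_mul_index A
    rw [hA, hc8] at this
    omega
  haveI := Subgroup.normal_of_index_eq_two hidx
  exact exists_degree_prime Nat.prime_two π ⟨u, v, by rw [hu, hv]; decide⟩ A
    (fun a ha b hb => congrArg Subtype.val
      ((IsPGroup.isMulCommutative_of_card_eq_prime_sq hA).is_comm.comm ⟨a, ha⟩ ⟨b, hb⟩))
    (dvd_of_eq hidx)

/-- **A model of a Sylow subgroup of `A_{p w}` with a character of degree `p`.** -/
theorem exists_model {p W : ℕ} [hp : Fact p.Prime] (hW : p ≤ W) (h2 : p = 2 → 3 ≤ W) :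
    ∃ L : Subgroup (Equiv.Perm (Fin (p * W))), L ≤ alternatingGroup (Fin (p * W)) ∧ IsPGroup p L ∧
      p ^ (p * W).factorial.factorization p ≤ Nat.card L * (if p = 2 then 2 else 1) ∧
      ∃ φ : IrrCharacter L, charDegree φ.1 = p := by
  have hW0 : W ≠ 0 := by have := hp.out.pos; omega
  obtain ⟨k, hk⟩ : ∃ k, Nat.log p W = k + 1 :=
    ⟨Nat.log p W - 1, by have := Nat.log_pos hp.out.one_lt hW; omega⟩
  have hlo := Nat.pow_log_le_self p hW0
  have hhi := Nat.lt_pow_succ_log_self hp.out.one_lt W
  rw [hk] at hlo hhi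
  obtain ⟨r, rfl⟩ := Nat.exists_eq_add_of_le hlo
  have hr : r < (p - 1) * p ^ (k + 1) := by
    rw [Nat.sub_mul, one_mul]
    rw [Nat.succ_eq_add_one, pow_succ' p (k + 1)] at hhi
    omega
  by_cases hc : p = 2 ∧ r = 0
  · obtain ⟨rfl, rfl⟩ := hc
    obtain ⟨j, rfl⟩ : ∃ j, k = j + 1 := ⟨k - 1, by
      rcases k with _ | k
      · have := h2 rfl; norm_num at this
      · omega⟩
    exact exists_model_two j
  · exact exists_model_shift hr fun h => Nat.pos_of_ne_zero fun h0 => hc ⟨h, h0⟩

end Cfsg.Agent.SymChar
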