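import Cfsg.Agent.Lib.SymChar.Nakayama
import Cfsg.Agent.Lib.SymChar.SylowModel

/-!
# Sets of beta numbers with prescribed runners and their heights
-/

namespace Cfsg.Agent.SymChar

open Finset Equiv Cfsg

set_option linter.style.haveILetI false
set_option linter.unusedSectionVars false

variable {N n : ℕ}

/-- The weight of a runner. -/
def runWeight (p : ℕ) (q : ℕ → ℕ) (S : Finset ℕ) (r : ℕ) : ℕ :=
  (∑ x ∈ runner p S r, x) - baseSum (q r)

/-- The height attached to a set. -/
noncomputable def setHeight (N p n : ℕ) (q : ℕ → ℕ) (S : Finset ℕ) : ℕ :=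
  (keyWeight N p n q).factorial.factorization p +
    ∑ r ∈ Finset.range p, (setDeg (runner p S r) (runWeight p q S r)).factorization p -
    ∑ r ∈ Finset.range p, (runWeight p q S r).factorial.factorization p

theorem sum_factorization_le {ι : Type*} (s : Finset ι) (w : ι → ℕ) (p : ℕ) :
    ∑ r ∈ s, (w r).factorial.factorization p ≤ (∑ r ∈ s, w r).factorial.factorization p := by
  have h := Nat.prod_factorial_dvd_factorial_sum s w
  have h' := (Nat.factorization_le_iff_dvd (Finset.prod_ne_zero_iff.2 fun r _ =>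
    (w r).factorial_ne_zero) (Nat.factorial_ne_zero _)).2 h p
  rwa [Nat.factorization_prod fun r _ => (w r).factorial_ne_zero, Finsupp.coe_finsetSum,
    Finset.sum_apply] at h'

theorem setHeight_add {p : ℕ} (hp : 0 < p) {q : ℕ → ℕ} {S : Finset ℕ} (hS : S ∈ Beta N n)
    (hkey : resKey p (canon N S) = q) :
    setHeight N p n q S + ∑ r ∈ Finset.range p, (runWeight p q S r).factorial.factorization p =
      (keyWeight N p n q).factorial.factorization p +
        ∑ r ∈ Finset.range p, (setDeg (runner p S r) (runWeight p q S r)).factorization p := by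
  refine Nat.sub_add_cancel (le_trans ?_ (Nat.le_add_right _ _))
  rw [← sum_runner_weight hp hS hkey]
  exact sum_factorization_le _ _ p

theorem factorization_setDeg_height {p : ℕ} (hp : p.Prime) {q : ℕ → ℕ} {S : Finset ℕ}
    (hS : S ∈ Beta N n) (hkey : resKey p (canon N S) = q) :
    (setDeg S n).factorization p + (p * keyWeight N p n q).factorial.factorization p =
      n.factorial.factorization p + setHeight N p n q S := by
  have h1 := factorization_setDeg_runner hp hS hkey
  have h2 := setHeight_add hp.pos hS hkey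
  simp only [runWeight] at h2
  omega

/-- A runner with one moved bead. -/
def rowSet (q j : ℕ) : Finset ℕ := insert (q - 1 + j) (Finset.range (q - 1))

/-- A runner with beads moved by `j - 1` and `1`. -/
def hookSet (q j : ℕ) : Finset ℕ := insert (q - 2 + j) (insert (q - 1) (Finset.range (q - 2)))

theorem prod_range_sub_eq (x m : ℕ) (h : m ≤ x) :
    (x - m).factorial * ∏ y ∈ Finset.range m, (x - y) = x.factorial := by
  rw [← Nat.descFactorial_eq_prod_range, Nat.factorial_mul_descFactorial h]

theorem pairProd_insert_top {S : Finset ℕ} {t : ℕ} (h : ∀ x ∈ S, x < t) :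
    pairProd (insert t S) = (∏ y ∈ S, (t - y)) * pairProd S := by
  have ht : t ∉ S := fun hh => lt_irrefl _ (h t hh)
  rw [pairProd, Finset.prod_insert ht, pairProd]
  congr 1
  · rw [Finset.filter_insert, if_neg (lt_irrefl t)]
    refine Finset.prod_congr (Finset.filter_true_of_mem h) fun _ _ => rfl
  · refine Finset.prod_congr rfl fun x hx => ?_
    rw [Finset.filter_insert, if_neg (not_lt.2 (h x hx).le)]

theorem pairProd_range : ∀ m, pairProd (Finset.range m) = ∏ x ∈ Finset.range m, x.factorial
  | 0 => by simp [pairProd]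
  | m + 1 => by
    rw [Finset.range_add_one, pairProd_insert_top (fun x hx => Finset.mem_range.1 hx),
      pairProd_range m, Finset.prod_insert Finset.notMem_range_self]
    congr 1
    have := prod_range_sub_eq m m le_rfl
    simpa using this

theorem rowSet_spec {q : ℕ} (j : ℕ) (hq : 1 ≤ q) :
    rowSet q j ∈ Beta q j ∧ setDeg (rowSet q j) j = 1 := by
  obtain ⟨k, rfl⟩ : ∃ k, q = k + 1 := ⟨q - 1, by omega⟩
  have hlt : ∀ x ∈ Finset.range k, x < k + j := fun x hx => by
    have := Finset.mem_range.1 hx; omega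
  have hnot : k + j ∉ Finset.range k := fun h => lt_irrefl _ (hlt _ h)
  have hB : rowSet (k + 1) j ∈ Beta (k + 1) j := by
    refine mem_Beta.2 ⟨?_, ?_⟩ <;> simp only [rowSet, Nat.add_sub_cancel]
    · rw [Finset.card_insert_of_notMem hnot, Finset.card_range]
    · rw [Finset.sum_insert hnot, baseSum, Finset.sum_range_succ]; omega
  refine ⟨hB, ?_⟩
  have h := setDeg_mul hB
  have e := prod_range_sub_eq (k + j) k (Nat.le_add_right _ _)
  rw [Nat.add_sub_cancel_left] at e
  simp only [rowSet, Nat.add_sub_cancel] at h ⊢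
  rw [Finset.prod_insert hnot, pairProd_insert_top hlt, pairProd_range, ← mul_assoc j.factorial, e]
    at h
  exact (mul_eq_right₀ (Nat.mul_pos (Nat.factorial_pos _)
    (Finset.prod_pos fun x _ => Nat.factorial_pos x)).ne').1 h

theorem hookSet_spec {q j : ℕ} (hq : 2 ≤ q) (hj : 2 ≤ j) :
    hookSet q j ∈ Beta q j ∧ setDeg (hookSet q j) j = j - 1 := by
  obtain ⟨k, rfl⟩ : ∃ k, q = k + 2 := ⟨q - 2, by omega⟩
  have hlt1 : ∀ x ∈ Finset.range k, x < k + 1 := fun x hx => by
    have := Finset.mem_range.1 hx; omega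
  have hlt : ∀ x ∈ insert (k + 1) (Finset.range k), x < k + j := fun x hx => by
    rcases Finset.mem_insert.1 hx with rfl | hx
    · omega
    · have := Finset.mem_range.1 hx; omega
  have hnot1 : k + 1 ∉ Finset.range k := fun h => lt_irrefl _ (hlt1 _ h)
  have hnot : k + j ∉ insert (k + 1) (Finset.range k) := fun h => lt_irrefl _ (hlt _ h)
  have hB : hookSet (k + 2) j ∈ Beta (k + 2) j := by
    refine mem_Beta.2 ⟨?_, ?_⟩ <;>
      simp only [hookSet, Nat.add_sub_cancel, show k + 2 - 1 = k + 1 by omega]
    · rw [Finset.card_insert_of_notMem hnot, Finset.card_insert_of_notMem hnot1, Finset.card_range]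
    · rw [Finset.sum_insert hnot, Finset.sum_insert hnot1, baseSum, Finset.sum_range_succ,
        Finset.sum_range_succ]
      omega
  refine ⟨hB, ?_⟩
  have h := setDeg_mul hB
  have e1 := prod_range_sub_eq (k + j) k (Nat.le_add_right _ _)
  have e2 := prod_range_sub_eq (k + 1) k (Nat.le_add_right _ _)
  rw [Nat.add_sub_cancel_left] at e1 e2
  rw [Nat.factorial_one, one_mul] at e2
  simp only [hookSet, Nat.add_sub_cancel, show k + 2 - 1 = k + 1 by omega] at h ⊢
  rw [Finset.prod_insert hnot, Finset.prod_insert hnot1, pairProd_insert_top hlt,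
    pairProd_insert_top hlt1, pairProd_range, Finset.prod_insert hnot1, e2,
    show k + j - (k + 1) = j - 1 by omega] at h
  have hpos : 0 < (k + j).factorial * ((k + 1).factorial * ∏ x ∈ Finset.range k, x.factorial) :=
    Nat.mul_pos (Nat.factorial_pos _) (Nat.mul_pos (Nat.factorial_pos _)
      (Finset.prod_pos fun x _ => Nat.factorial_pos x))
  refine Nat.eq_of_mul_eq_mul_right hpos ?_
  rw [h]
  rw [← e1]
  ring

theorem sum_keys {p : ℕ} (hp : 0 < p) {S : Finset ℕ} (hS : S ∈ Beta N n) {q : ℕ → ℕ}
    (hkey : resKey p (canon N S) = q) : ∑ r ∈ Finset.range p, q r = N := by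
  rw [← hkey]
  simp only [resKey]
  rw [← Finset.card_eq_sum_card_fiberwise fun i _ => Finset.mem_range.2 (Nat.mod_lt _ hp),
    Finset.card_univ, Fintype.card_fin]

/-- A set with prescribed runners. -/
theorem exists_of_runners {p : ℕ} (hp : 0 < p) {q : ℕ → ℕ} {S₀ : Finset ℕ} (hS₀ : S₀ ∈ Beta N n)
    (hkey₀ : resKey p (canon N S₀) = q) (R : ℕ → Finset ℕ) (w : ℕ → ℕ)
    (hR : ∀ r < p, R r ∈ Beta (q r) (w r))
    (hw : ∑ r ∈ Finset.range p, w r = keyWeight N p n q) :
    ∃ S, S ∈ Beta N n ∧ resKey p (canon N S) = q ∧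
      ∀ r < p, runner p S r = R r ∧ runWeight p q S r = w r := by
  classical
  set S := (Finset.range p).biUnion fun r => (R r).image fun a => r + p * a with hSdef
  have hinj : ∀ r, Function.Injective fun a => r + p * a :=
    fun r a b h => Nat.eq_of_mul_eq_mul_left hp (Nat.add_left_cancel h)
  have hmod : ∀ r < p, ∀ a, (r + p * a) % p = r := fun r hr a => by
    rw [Nat.add_mul_mod_self_left, Nat.mod_eq_of_lt hr]
  have hdisj : ∀ r ∈ Finset.range p, ∀ r' ∈ Finset.range p, r ≠ r' →
      Disjoint ((R r).image fun a => r + p * a) ((R r').image fun a => r' + p * a) := by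
    intro r hr r' hr' hne
    rw [Finset.disjoint_left]
    intro x hx hx'
    obtain ⟨a, -, rfl⟩ := Finset.mem_image.1 hx
    obtain ⟨a', -, he⟩ := Finset.mem_image.1 hx'
    refine hne ?_
    rw [← hmod r (Finset.mem_range.1 hr) a, ← he, hmod r' (Finset.mem_range.1 hr')]
  have hcard : S.card = N := by
    rw [hSdef, Finset.card_biUnion hdisj, ← sum_keys hp hS₀ hkey₀]
    refine Finset.sum_congr rfl fun r hr => ?_
    rw [Finset.card_image_of_injective _ (hinj r), (mem_Beta.1 (hR r (Finset.mem_range.1 hr))).1]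
  have hsum : ∑ x ∈ S, x = baseSum N + n := by
    rw [hSdef, Finset.sum_biUnion hdisj]
    have h : ∀ r ∈ Finset.range p, ∑ x ∈ (R r).image (fun a => r + p * a), x =
        r * q r + p * baseSum (q r) + p * w r := by
      intro r hr
      obtain ⟨h1, h2⟩ := mem_Beta.1 (hR r (Finset.mem_range.1 hr))
      rw [Finset.sum_image (hinj r).injOn, Finset.sum_add_distrib, Finset.sum_const, smul_eq_mul,
        ← Finset.mul_sum, h1, h2]
      ring
    rw [Finset.sum_congr rfl h, Finset.sum_add_distrib, ← Finset.mul_sum, hw,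
      show ∑ r ∈ Finset.range p, (r * q r + p * baseSum (q r)) = coreSum p q from rfl]
    have hinj₀ := canon_injective (mem_Beta.1 hS₀).1
    have := sum_eq_coreSum_add hp hinj₀
    rw [← keyWeight_eq hp hinj₀ (sum_canon_of_mem hS₀), hkey₀, sum_canon_of_mem hS₀] at this
    omega
  have hB : S ∈ Beta N n := mem_Beta.2 ⟨hcard, hsum⟩
  have hrun : ∀ r < p, runner p S r = R r := by
    intro r hr
    ext a
    rw [runner, Finset.mem_image]
    constructor
    · rintro ⟨x, hx, rfl⟩
      obtain ⟨h1, h2⟩ := Finset.mem_filter.1 hx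
      obtain ⟨r', hr', hx'⟩ := Finset.mem_biUnion.1 h1
      obtain ⟨b, hb, rfl⟩ := Finset.mem_image.1 hx'
      rw [hmod r' (Finset.mem_range.1 hr')] at h2
      subst h2
      rwa [Nat.add_mul_div_left _ _ hp, Nat.div_eq_of_lt hr, Nat.zero_add]
    · intro ha
      refine ⟨r + p * a, Finset.mem_filter.2 ⟨Finset.mem_biUnion.2 ⟨r, Finset.mem_range.2 hr,
        Finset.mem_image.2 ⟨a, ha, rfl⟩⟩, hmod r hr a⟩, ?_⟩
      rw [Nat.add_mul_div_left _ _ hp, Nat.div_eq_of_lt hr, Nat.zero_add]
  refine ⟨S, hB, funext fun r => ?_, fun r hr => ⟨hrun r hr, ?_⟩⟩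
  · by_cases hr : r < p
    · rw [← (runner_facts (p := p) (r := r) hcard).1, hrun r hr, (mem_Beta.1 (hR r hr)).1]
    · rw [← hkey₀, resKey_of_le hp _ (not_lt.1 hr), resKey_of_le hp _ (not_lt.1 hr)]
  · rw [runWeight, hrun r hr, (mem_Beta.1 (hR r hr)).2, Nat.add_sub_cancel_left]

/-- With padded runners every residue has at least two beads. -/
theorem two_le_key {p : ℕ} (hp : 2 ≤ p) (h2 : 2 ≤ n) {S : Finset ℕ}
    (hS : S ∈ Beta (p * (n + 1)) n) {q : ℕ → ℕ} (hkey : resKey p (canon (p * (n + 1)) S) = q)
    {r : ℕ} (hr : r < p) : 2 ≤ q r := by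
  have hn : n ≤ p * (n + 1) := le_trans (by omega) (Nat.le_mul_of_pos_left _ (by omega))
  have hmem : ∀ y, y + n < p * (n + 1) → y ∈ S := by
    intro y hy
    by_contra hyS
    have h1 : 2 * (p * (n + 1)) - 1 - y ∈ starSet (2 * (p * (n + 1))) S :=
      mem_starSet.2 ⟨by omega,
        by rwa [show 2 * (p * (n + 1)) - 1 - (2 * (p * (n + 1)) - 1 - y) = y by omega]⟩
    have h2 := Finset.mem_range.1 (subset_range_of_mem_Beta (starSet_mem_Beta hn hS) h1)
    omega
  have hb : p + (n + p) ≤ p * (n + 1) := by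
    have : 2 * n ≤ p * n := Nat.mul_le_mul_right n hp
    have : p * 2 ≤ p * n := Nat.mul_le_mul_left p h2
    rw [Nat.mul_succ]
    omega
  rw [← hkey, ← (runner_facts (p := p) (r := r) (mem_Beta.1 hS).1).1]
  calc 2 = ({0, 1} : Finset ℕ).card := rfl
    _ ≤ _ := Finset.card_le_card fun a ha => by
      have ha' : a < 2 := by
        simp only [Finset.mem_insert, Finset.mem_singleton] at ha; omega
      refine Finset.mem_image.2 ⟨r + p * a, Finset.mem_filter.2 ⟨hmem _ ?_, ?_⟩, ?_⟩
      · have : p * a ≤ p * 1 := Nat.mul_le_mul_left p (by omega)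
        omega
      · rw [Nat.add_mul_mod_self_left, Nat.mod_eq_of_lt hr]
      · rw [Nat.add_mul_div_left _ _ (by omega : 0 < p), Nat.div_eq_of_lt hr, Nat.zero_add]

/-- Splitting a number into two with one carry. -/
theorem exists_split {p : ℕ} (hp : p.Prime) : ∀ W : ℕ, p ≤ W →
    (W % p + 1 < p ∨ p ∣ W / p) → ∃ i, i ≤ W ∧
      W.factorial.factorization p =
        i.factorial.factorization p + (W - i).factorial.factorization p + 1 := by
  intro W
  induction W using Nat.strong_induction_on with
  | _ W ih =>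
  intro hW hcase
  set m := W / p with hm
  set a := W % p with ha
  have hWeq : W = p * m + a := (Nat.div_add_mod W p).symm
  have ha' : a < p := Nat.mod_lt _ hp.pos
  have hm1 : 1 ≤ m := Nat.div_pos hW hp.pos
  have hmW : m < W := Nat.div_lt_self (by have := hp.pos; omega) hp.one_lt
  by_cases hdvd : p ∣ m
  · obtain ⟨i, hi, he⟩ := ih m hmW (Nat.le_of_dvd hm1 hdvd)
      (Or.inl (by rw [Nat.mod_eq_zero_of_dvd hdvd]; exact hp.one_lt))
    have hpi : p * i + p * (m - i) = p * m := by rw [← Nat.mul_add, Nat.add_sub_cancel' hi]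
    refine ⟨p * i, by omega, ?_⟩
    rw [show W - p * i = p * (m - i) + a by omega, hWeq, show p * i = p * i + 0 by simp,
      factorization_factorial_step hp _ _ ha', factorization_factorial_step hp _ _ hp.pos,
      factorization_factorial_step hp _ _ ha', he]
    omega
  · have ha1 : a + 1 < p := hcase.resolve_right hdvd
    have hpm : p * (m - 1) + p = p * m := by
      rw [← Nat.mul_succ, Nat.succ_eq_add_one, Nat.sub_add_cancel hm1]
    refine ⟨a + 1, by omega, ?_⟩
    rw [show W - (a + 1) = p * (m - 1) + (p - 1) by omega, hWeq,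
      show a + 1 = p * 0 + (a + 1) by simp,
      factorization_factorial_step hp _ _ ha', factorization_factorial_step hp _ _ ha1,
      factorization_factorial_step hp _ _ (by omega : p - 1 < p)]
    obtain ⟨m', hm'⟩ : ∃ m', m = m' + 1 := ⟨m - 1, by omega⟩
    have hv : m.factorial.factorization p = (m - 1).factorial.factorization p := by
      rw [hm', Nat.add_sub_cancel, Nat.factorial_succ,
        Nat.factorization_mul (by omega) m'.factorial_ne_zero, Finsupp.add_apply,
        Nat.factorization_eq_zero_of_not_dvd (hm' ▸ hdvd), zero_add]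
    simp only [Nat.factorial_zero, Nat.factorization_one, Finsupp.coe_zero, Pi.zero_apply]
    omega

theorem factorization_factorial_two_lt : ∀ m : ℕ, 1 ≤ m → m.factorial.factorization 2 < m := by
  intro m
  induction m using Nat.strong_induction_on with
  | _ m ih =>
  intro hm
  have h := factorization_factorial_step Nat.prime_two (m / 2) (m % 2) (Nat.mod_lt _ two_pos)
  rw [Nat.div_add_mod] at h
  rcases Nat.eq_zero_or_pos (m / 2) with h0 | h0
  · rw [h0, Nat.factorial_zero, Nat.factorization_one, Finsupp.coe_zero, Pi.zero_apply] at h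
    omega
  · have := ih (m / 2) (by omega) h0
    omega

end Cfsg.Agent.SymChar
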