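import Cfsg.Agent.Lib.SymChar.AltHeightSets

/-!
# Heights in blocks of alternating groups
-/

namespace Cfsg.Agent.SymChar

open Finset Equiv Cfsg

set_option linter.style.haveILetI false
set_option linter.unusedSectionVars false

variable {N n : ℕ}

/-- The degree of a character of the alternating group under a set. -/
theorem deg_constituent (h2 : 2 ≤ n) (hn : n ≤ N) {S : Finset ℕ} (hS : S ∈ Beta N n)
    {θ : IrrCharacter (alternatingGroup (Fin n))}
    (hne : classInner (Char.resFun (alternatingGroup (Fin n)) (irrOf S hS).1) θ.1 ≠ 0) :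
    (1 + if starSet (2 * N) S = S then 1 else 0) * Char.degree θ = setDeg S n := by
  classical
  obtain ⟨c, hc⟩ := Char.IsCharacter.exists_nat_classInner
    (Char.IsCharacter.restrict (Char.irr_isCharacter (irrOf S hS)) (alternatingGroup (Fin n))) (Char.irr_isCharacter θ)
  have hres := Char.resFun_eq_smul_orbitSum (alternatingGroup (Fin n)) (irrOf S hS) θ hne
  have hone := Char.apply_one_eq_mul_card_orbit (alternatingGroup (Fin n)) (irrOf S hS) θ hne
  have hnorm := classInner_res_irrOf h2 hn hS
  change classInner (Char.resFun (alternatingGroup (Fin n)) (irrOf S hS).1) θ.1 = (c : ℂ) at hc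
  rw [hc] at hres hone
  rw [Char.apply_one_eq_degree, Char.apply_one_eq_degree, degree_irrOf hS] at hone
  have hk : c * c * (Char.orbitFinset (alternatingGroup (Fin n)) θ).card =
      1 + if starSet (2 * N) S = S then 1 else 0 := by
    rw [show classInner (Char.resFun (alternatingGroup (Fin n)) (irrOf S hS).1) (Char.resFun (alternatingGroup (Fin n)) (irrOf S hS).1) =
      classInner ((c : ℂ) • Char.orbitSum (alternatingGroup (Fin n)) θ) (Char.resFun (alternatingGroup (Fin n)) (irrOf S hS).1) by rw [← hres],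
      Char.classInner_smul_left, Char.orbitSum, Char.classInner_sum_left,
      Finset.sum_congr rfl fun η hη => show classInner η.1 (Char.resFun (alternatingGroup (Fin n)) (irrOf S hS).1) = (c : ℂ) by
        obtain ⟨g, rfl⟩ := (Char.mem_orbitFinset (alternatingGroup (Fin n))).1 hη
        rw [← Char.conj_classInner, Char.conjChar_coe,
          Char.classInner_resFun_conjFun (alternatingGroup (Fin n)) (Blocks.irr_classFun (irrOf S hS)), hc, map_natCast],
      Finset.sum_const, nsmul_eq_mul] at hnorm
    exact_mod_cast (show ((c * c * (Char.orbitFinset (alternatingGroup (Fin n)) θ).card : ℕ) : ℂ) =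
        ((1 + if starSet (2 * N) S = S then 1 else 0 : ℕ) : ℂ) by
      push_cast
      rw [← hnorm]
      ring)
  have hcard : setDeg S n = c * ((Char.orbitFinset (alternatingGroup (Fin n)) θ).card * Char.degree θ) := by
    exact_mod_cast hone
  have hc1 : c = 1 := by
    by_contra h
    have h' : c = 0 ∨ 2 ≤ c := by omega
    rcases h' with rfl | h'
    · rw [zero_mul, zero_mul] at hk; split_ifs at hk <;> omega
    · have h4 : 4 ≤ c * c := Nat.mul_le_mul h' h'
      rcases Nat.eq_zero_or_pos (Char.orbitFinset (alternatingGroup (Fin n)) θ).card with h0 | h0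
      · rw [h0, mul_zero] at hk; split_ifs at hk <;> omega
      · have : 4 * 1 ≤ c * c * (Char.orbitFinset (alternatingGroup (Fin n)) θ).card := Nat.mul_le_mul h4 h0
        split_ifs at hk <;> omega
  subst hc1
  rw [one_mul, one_mul] at hk
  rw [hcard, one_mul, hk]

theorem setDeg_starSet (hn : n ≤ N) {S : Finset ℕ} (hS : S ∈ Beta N n) :
    setDeg (starSet (2 * N) S) n = setDeg S n := by
  have h := chiX_star (Multiset.replicate n 1) hn hS
    (fun k hk => by rw [Multiset.eq_of_mem_replicate hk]; exact one_pos) (by simp)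
  have hc := (mem_Beta.1 hS).1
  have hc' := (mem_Beta.1 (starSet_mem_Beta hn hS)).1
  rw [setDeg, setDeg]
  subst hc
  rw [hc', h]
  simp [Int.natAbs_mul, Int.natAbs_pow]

theorem sum_runWeight {p : ℕ} (hp : 0 < p) {q : ℕ → ℕ} {S : Finset ℕ} (hS : S ∈ Beta N n)
    (hkey : resKey p (canon N S) = q) :
    ∑ r ∈ Finset.range p, runWeight p q S r = keyWeight N p n q :=
  sum_runner_weight hp hS hkey

theorem runner_mem_Beta {p r : ℕ} {q : ℕ → ℕ} {S : Finset ℕ} (hS : S ∈ Beta N n)
    (hkey : resKey p (canon N S) = q) : runner p S r ∈ Beta (q r) (runWeight p q S r) :=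
  mem_Beta_runner hS hkey

theorem not_fixed_of_weight_ne {M : ℕ} (hM : 2 * N = 2 * M) (hn : n ≤ N) {q : ℕ → ℕ}
    {S : Finset ℕ} (hS : S ∈ Beta N n) (hkey : resKey 2 (canon N S) = q)
    (hne : runWeight 2 q S 0 ≠ runWeight 2 q S 1) : starSet (2 * N) S ≠ S := fun hfix =>
  hne ((fixed_runner hM hn (mem_fixedSets.2 ⟨hS, hkey, hfix⟩) (r := 1) one_lt_two).2)

theorem one_le_setHeight_of_fixed {M : ℕ} (hM : 2 * N = 2 * M) (hn : n ≤ N) {q : ℕ → ℕ}
    {S : Finset ℕ} (hS : S ∈ Beta N n) (hkey : resKey 2 (canon N S) = q)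
    (hfix : starSet (2 * N) S = S) (hW : 1 ≤ keyWeight N 2 n q) : 1 ≤ setHeight N 2 n q S := by
  have h1 : runWeight 2 q S 0 = runWeight 2 q S 1 :=
    (fixed_runner hM hn (mem_fixedSets.2 ⟨hS, hkey, hfix⟩) (r := 1) one_lt_two).2
  have h2 := setHeight_add (p := 2) two_pos hS hkey
  have h3 := sum_runWeight (p := 2) two_pos hS hkey
  rw [Finset.sum_range_succ, Finset.sum_range_one, ← h1] at h2 h3
  set m := runWeight 2 q S 0
  have h4 := factorization_factorial_step Nat.prime_two m 0 two_pos
  rw [add_zero, two_mul] at h4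
  have h5 := factorization_factorial_two_lt m (by omega)
  rw [← h3, h4] at h2
  omega

/-- The set with one moved bead on every runner. -/
theorem exists_rows {p : ℕ} (hp : 0 < p) {q : ℕ → ℕ} {S₀ : Finset ℕ} (hS₀ : S₀ ∈ Beta N n)
    (hkey₀ : resKey p (canon N S₀) = q) (hq : ∀ r < p, 1 ≤ q r) (w : ℕ → ℕ)
    (hw : ∑ r ∈ Finset.range p, w r = keyWeight N p n q) :
    ∃ S, S ∈ Beta N n ∧ resKey p (canon N S) = q ∧
      (∀ r < p, runner p S r = rowSet (q r) (w r) ∧ runWeight p q S r = w r) ∧
      setHeight N p n q S + ∑ r ∈ Finset.range p, (w r).factorial.factorization p =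
        (keyWeight N p n q).factorial.factorization p := by
  obtain ⟨S, hS, hkey, hrun⟩ := exists_of_runners hp hS₀ hkey₀ (fun r => rowSet (q r) (w r)) w
    (fun r hr => (rowSet_spec _ (hq r hr)).1) hw
  refine ⟨S, hS, hkey, hrun, ?_⟩
  have h := setHeight_add hp hS hkey
  have h0 : ∑ r ∈ Finset.range p, (setDeg (runner p S r) (runWeight p q S r)).factorization p = 0 :=
    Finset.sum_eq_zero fun r hr => by
      obtain ⟨e1, e2⟩ := hrun r (Finset.mem_range.1 hr)
      rw [e1, e2, (rowSet_spec _ (hq r (Finset.mem_range.1 hr))).2, Nat.factorization_one]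
      rfl
  rw [h0, add_zero, Finset.sum_congr rfl fun r hr =>
    show (runWeight p q S r).factorial.factorization p = (w r).factorial.factorization p by
      rw [(hrun r (Finset.mem_range.1 hr)).2]] at h
  exact h

theorem exists_height_zero_set {p : ℕ} (hp : p.Prime) {M : ℕ} (hM : 2 * N = p * M) (hn : n ≤ N)
    {q : ℕ → ℕ} {S₀ : Finset ℕ} (hS₀ : S₀ ∈ Beta N n) (hkey₀ : resKey p (canon N S₀) = q)
    (hq : ∀ r < p, 2 ≤ q r) (hW2 : p = 2 → 1 ≤ keyWeight N p n q) :
    ∃ S, S ∈ Beta N n ∧ resKey p (canon N S) = q ∧ setHeight N p n q S = 0 ∧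
      (p = 2 → starSet (2 * N) S ≠ S) := by
  set W := keyWeight N p n q
  set w : ℕ → ℕ := fun r => if r = 0 then W else 0
  have hw0 : ∀ r ≥ 1, w r = 0 := fun r hr => if_neg (by omega)
  have hw0' : ∀ r ≥ 1, (w r).factorial.factorization p = 0 := fun r hr => by
    rw [hw0 r hr]; simp
  obtain ⟨S, hS, hkey, hrun, hh⟩ := exists_rows hp.pos hS₀ hkey₀
    (fun r hr => le_trans one_le_two (hq r hr)) w
    (by rw [Finset.eventually_constant_sum hw0 hp.one_le, Finset.sum_range_one]; exact if_pos rfl)
  rw [Finset.eventually_constant_sum hw0' hp.one_le, Finset.sum_range_one,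
    show w 0 = W from if_pos rfl] at hh
  change setHeight N p n q S + W.factorial.factorization p = W.factorial.factorization p at hh
  refine ⟨S, hS, hkey, by omega, ?_⟩
  rintro rfl
  refine not_fixed_of_weight_ne hM hn hS hkey ?_
  rw [(hrun 0 two_pos).2, (hrun 1 one_lt_two).2]
  simp only [w, if_pos, one_ne_zero, if_false]
  have := hW2 rfl
  omega

theorem rows_not_fixed {M : ℕ} (hM : 2 * N = 2 * M) (hn : n ≤ N) {q : ℕ → ℕ} {S : Finset ℕ}
    (hS : S ∈ Beta N n) (hkey : resKey 2 (canon N S) = q) {i : ℕ} (hi : 2 ≤ i)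
    (h0 : runner 2 S 0 = rowSet (q 0) i) (h1 : runner 2 S 1 = rowSet (q 1) i)
    (hq : ∀ r < 2, 2 ≤ q r) : starSet (2 * N) S ≠ S := by
  intro hfix
  have h := (fixed_runner hM hn (mem_fixedSets.2 ⟨hS, hkey, hfix⟩) (r := 0) two_pos).1
  rw [show 2 - 1 - 0 = 1 from rfl, h0, h1] at h
  have hq0 := hq 0 two_pos
  have hq1 := hq 1 one_lt_two
  have hkeys : ∑ r ∈ Finset.range 2, q r = N := sum_keys (p := 2) two_pos hS hkey
  rw [Finset.sum_range_succ, Finset.sum_range_one] at hkeys
  have hmem : q 1 - 1 + i ∈ starSet M (rowSet (q 0) i) := h ▸ Finset.mem_insert_self _ _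
  obtain ⟨hlt, hnot⟩ := mem_starSet.1 hmem
  exact hnot (Finset.mem_insert_of_mem (Finset.mem_range.2 (by omega)))

/-- A set of height one. -/
theorem exists_height_one_set {p : ℕ} (hp : p.Prime) {M : ℕ} (hM : 2 * N = p * M) (hn : n ≤ N)
    {q : ℕ → ℕ} {S₀ : Finset ℕ} (hS₀ : S₀ ∈ Beta N n) (hkey₀ : resKey p (canon N S₀) = q)
    (hq : ∀ r < p, 2 ≤ q r) (hpW : p ≤ keyWeight N p n q)
    (hW2 : p = 2 → 3 ≤ keyWeight N p n q) :
    ∃ S, S ∈ Beta N n ∧ resKey p (canon N S) = q ∧ setHeight N p n q S = 1 ∧
      (p = 2 → starSet (2 * N) S ≠ S) := by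
  set W := keyWeight N p n q with hWdef
  have hq1 : ∀ r < p, 1 ≤ q r := fun r hr => le_trans one_le_two (hq r hr)
  by_cases hcase : W % p + 1 < p ∨ p ∣ W / p
  · obtain ⟨i, hi, hsplit⟩ := exists_split hp W hpW hcase
    set w : ℕ → ℕ := fun r => if r = 0 then i else if r = 1 then W - i else 0 with hwdef
    have hw0 : ∀ r ≥ 2, w r = 0 := fun r hr => by
      simp only [w, show r ≠ 0 by omega, show r ≠ 1 by omega, if_false]
    have hw0' : ∀ r ≥ 2, (w r).factorial.factorization p = 0 := fun r hr => by
      rw [hw0 r hr]; simp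
    have e0 : w 0 = i := if_pos rfl
    have e1 : w 1 = W - i := by simp [w]
    obtain ⟨S, hS, hkey, hrun, hh⟩ := exists_rows hp.pos hS₀ hkey₀ hq1 w (by
      rw [Finset.eventually_constant_sum hw0 hp.two_le, Finset.sum_range_succ,
        Finset.sum_range_one, e0, e1]
      omega)
    rw [Finset.eventually_constant_sum hw0' hp.two_le, Finset.sum_range_succ,
      Finset.sum_range_one, e0, e1, ← hWdef] at hh
    refine ⟨S, hS, hkey, by omega, ?_⟩
    rintro rfl
    obtain ⟨r0, w0⟩ := hrun 0 two_pos
    obtain ⟨r1, w1⟩ := hrun 1 one_lt_two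
    rw [e0] at r0 w0
    rw [e1] at r1 w1
    by_cases he : i = W - i
    · rw [← he] at r1
      have := hW2 rfl
      exact rows_not_fixed hM hn hS hkey (by omega) r0 r1 hq
    · exact not_fixed_of_weight_ne hM hn hS hkey (by rw [w0, w1]; exact he)
  · push Not at hcase
    obtain ⟨hmod, hdvd⟩ := hcase
    set m := W / p with hm
    have hWeq : p * m + W % p = W := Nat.div_add_mod W p
    have hmodlt := Nat.mod_lt W hp.pos
    have hm1 : 1 ≤ m := Nat.div_pos hpW hp.pos
    obtain ⟨m', hm'⟩ : ∃ m', m = m' + 1 := ⟨m - 1, by omega⟩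
    have hv : m.factorial.factorization p = m'.factorial.factorization p := by
      rw [hm', Nat.factorial_succ, Nat.factorization_mul (by omega) m'.factorial_ne_zero,
        Finsupp.add_apply, Nat.factorization_eq_zero_of_not_dvd (hm' ▸ hdvd), zero_add]
    by_cases h2 : p = 2
    · subst h2
      have hW3 := hW2 rfl
      obtain ⟨hB, hdeg⟩ := hookSet_spec (hq 0 two_pos) (show 2 ≤ W by omega)
      obtain ⟨hB1, hdeg1⟩ := rowSet_spec 0 (hq1 1 one_lt_two)
      obtain ⟨S, hS, hkey, hrun⟩ := exists_of_runners (p := 2) two_pos hS₀ hkey₀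
        (fun r => if r = 0 then hookSet (q 0) W else rowSet (q r) 0)
        (fun r => if r = 0 then W else 0)
        (fun r hr => by
          rcases show r = 0 ∨ r = 1 by omega with rfl | rfl
          · simpa using hB
          · simpa using hB1)
        (by rw [Finset.sum_range_succ, Finset.sum_range_one]; simp [hWdef])
      obtain ⟨r0, w0⟩ := hrun 0 two_pos
      obtain ⟨r1, w1⟩ := hrun 1 one_lt_two
      simp only [if_true, one_ne_zero, if_false] at r0 w0 r1 w1
      refine ⟨S, hS, hkey, ?_, fun _ => not_fixed_of_weight_ne hM hn hS hkey (by omega)⟩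
      have h := setHeight_add (p := 2) two_pos hS hkey
      rw [Finset.sum_range_succ, Finset.sum_range_one, Finset.sum_range_succ, Finset.sum_range_one,
        r0, w0, r1, w1, hdeg, hdeg1, ← hWdef, Nat.factorial_zero, Nat.factorization_one,
        show W - 1 = 2 * m by omega, Nat.factorization_mul two_ne_zero (by omega),
        Finsupp.add_apply, Nat.prime_two.factorization_self,
        Nat.factorization_eq_zero_of_not_dvd hdvd] at h
      simp only [Finsupp.coe_zero, Pi.zero_apply] at h
      omega
    · have hp3 : 3 ≤ p := by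
        have := hp.two_le
        omega
      set w : ℕ → ℕ := fun r =>
        if r = 0 then 1 else if r = 1 then p - 1 else if r = 2 then W - p else 0 with hwdef
      have hw0 : ∀ r ≥ 3, w r = 0 := fun r hr => by
        simp only [w, show r ≠ 0 by omega, show r ≠ 1 by omega, show r ≠ 2 by omega, if_false]
      have hw0' : ∀ r ≥ 3, (w r).factorial.factorization p = 0 := fun r hr => by
        rw [hw0 r hr]; simp
      have e0 : w 0 = 1 := if_pos rfl
      have e1 : w 1 = p - 1 := by simp [w]
      have e2 : w 2 = W - p := by simp [w]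
      obtain ⟨S, hS, hkey, hrun, hh⟩ := exists_rows hp.pos hS₀ hkey₀ hq1 w (by
        rw [Finset.eventually_constant_sum hw0 hp3, Finset.sum_range_succ, Finset.sum_range_succ,
          Finset.sum_range_one, e0, e1, e2]
        omega)
      have hsmall : ∀ a < p, a.factorial.factorization p = 0 := fun a ha =>
        Nat.factorization_eq_zero_of_not_dvd fun h => by
          have := (Nat.Prime.dvd_factorial hp).1 h
          omega
      rw [Finset.eventually_constant_sum hw0' hp3, Finset.sum_range_succ, Finset.sum_range_succ,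
        Finset.sum_range_one, e0, e1, e2, hsmall 1 hp.one_lt, hsmall (p - 1) (by omega),
        ← hWdef] at hh
      have f1 := factorization_factorial_step hp m (W % p) hmodlt
      rw [hWeq] at f1
      have f2 := factorization_factorial_step hp m' (W % p) hmodlt
      have hpm : p * m = p * m' + p := by rw [hm', Nat.mul_succ]
      rw [show p * m' + W % p = W - p by omega] at f2
      exact ⟨S, hS, hkey, by omega, fun h => absurd h h2⟩

theorem setHeight_low_odd {p : ℕ} (hp : p.Prime) {q : ℕ → ℕ} {S : Finset ℕ} (hS : S ∈ Beta N n)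
    (hkey : resKey p (canon N S) = q) (hW : keyWeight N p n q < p) :
    setHeight N p n q S = 0 := by
  have h := setHeight_add hp.pos hS hkey
  have hsum := sum_runWeight hp.pos hS hkey
  have hsmall : ∀ a < p, a.factorial.factorization p = 0 := fun a ha =>
    Nat.factorization_eq_zero_of_not_dvd fun h => by
      have := (Nat.Prime.dvd_factorial hp).1 h
      omega
  have h0 : ∑ r ∈ Finset.range p, (setDeg (runner p S r) (runWeight p q S r)).factorization p = 0 :=
    Finset.sum_eq_zero fun r hr => by
      have hle : runWeight p q S r ≤ keyWeight N p n q :=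
        hsum ▸ Finset.single_le_sum (fun _ _ => Nat.zero_le _) hr
      refine Nat.factorization_eq_zero_of_not_dvd fun hd => ?_
      have h1 := Char.degree_dvd_natCard (irrOf _ (runner_mem_Beta (r := r) hS hkey))
      rw [degree_irrOf, Nat.card_perm, Nat.card_fin] at h1
      have := (Nat.Prime.dvd_factorial hp).1 (hd.trans h1)
      omega
  rw [h0, hsmall _ hW] at h
  omega

theorem setHeight_low_two {M : ℕ} (hM : 2 * N = 2 * M) (hn : n ≤ N) {q : ℕ → ℕ} {S : Finset ℕ}
    (hS : S ∈ Beta N n) (hkey : resKey 2 (canon N S) = q) (hW : keyWeight N 2 n q = 2) :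
    setHeight N 2 n q S = if starSet (2 * N) S = S then 1 else 0 := by
  classical
  have hf2 : (Nat.factorial 2).factorization 2 = 1 := by
    rw [Nat.factorial_two, Nat.prime_two.factorization_self]
  have key : ∀ T : Finset ℕ, T ∈ Beta N n → resKey 2 (canon N T) = q →
      runWeight 2 q T 0 + runWeight 2 q T 1 = 2 ∧
        setHeight N 2 n q T = if runWeight 2 q T 0 = 1 then 1 else 0 := by
    intro T hT hTkey
    have h := setHeight_add (p := 2) two_pos hT hTkey
    have hsum := sum_runWeight (p := 2) two_pos hT hTkey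
    rw [Finset.sum_range_succ, Finset.sum_range_one, hW] at hsum
    have h0 : ∀ r < 2, (setDeg (runner 2 T r) (runWeight 2 q T r)).factorization 2 = 0 := by
      intro r hr
      have hw : runWeight 2 q T r ≤ 2 := by
        rcases show r = 0 ∨ r = 1 by omega with rfl | rfl <;> omega
      have hR := runner_mem_Beta (r := r) hT hTkey
      have hle := Finset.single_le_sum (f := fun χ => Char.degree χ ^ 2)
        (fun _ _ => Nat.zero_le _) (Finset.mem_univ (irrOf _ hR))
      rw [Char.sum_degree_sq, Nat.card_perm, Nat.card_fin, degree_irrOf hR] at hle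
      have h1 : (runWeight 2 q T r).factorial ≤ 2 := by
        simpa [Nat.factorial_two] using Nat.factorial_le hw
      have h2 : setDeg (runner 2 T r) (runWeight 2 q T r) < 2 := by
        by_contra hge
        have : 2 ^ 2 ≤ setDeg (runner 2 T r) (runWeight 2 q T r) ^ 2 :=
          Nat.pow_le_pow_left (not_lt.1 hge) 2
        omega
      exact Nat.factorization_eq_zero_of_not_dvd fun hd => by
        have := Nat.le_of_dvd (setDeg_pos hR) hd
        omega
    rw [Finset.sum_range_succ, Finset.sum_range_one, Finset.sum_range_succ, Finset.sum_range_one,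
      h0 0 two_pos, h0 1 one_lt_two, hW, hf2] at h
    refine ⟨hsum, ?_⟩
    rcases show runWeight 2 q T 0 = 0 ∨ runWeight 2 q T 0 = 1 ∨ runWeight 2 q T 0 = 2 by omega
      with e | e | e
    · rw [e, show runWeight 2 q T 1 = 2 by omega, hf2] at h
      rw [e]; simp only [Nat.factorial_zero, Nat.factorization_one, Finsupp.coe_zero,
        Pi.zero_apply] at h
      simp; omega
    · rw [e, show runWeight 2 q T 1 = 1 by omega] at h
      simp only [Nat.factorial_one, Nat.factorization_one, Finsupp.coe_zero, Pi.zero_apply] at h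
      rw [e]; simp; omega
    · rw [e, show runWeight 2 q T 1 = 0 by omega, hf2] at h
      rw [e]; simp only [Nat.factorial_zero, Nat.factorization_one, Finsupp.coe_zero,
        Pi.zero_apply] at h
      simp; omega
  obtain ⟨hsum, hh⟩ := key S hS hkey
  rw [hh]
  by_cases hfix : starSet (2 * N) S = S
  · have := (fixed_runner hM hn (mem_fixedSets.2 ⟨hS, hkey, hfix⟩) (r := 1) one_lt_two).2
    change runWeight 2 q S 0 = runWeight 2 q S 1 at this
    rw [if_pos hfix, if_pos (by omega)]
  rw [if_neg hfix, if_neg]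
  intro h1
  refine hfix ?_
  have hB := starSet_mem_Beta hn hS
  have hkeys := sum_keys (p := 2) two_pos hS hkey
  rw [Finset.sum_range_succ, Finset.sum_range_one] at hkeys
  have hkey' : resKey 2 (canon N (starSet (2 * N) S)) = q := by
    funext r
    by_cases hr : r < 2
    · have := resKey_star hM hn hS hkey (r := 1 - r) (by omega)
      rw [show 2 - 1 - (1 - r) = r by omega] at this
      rcases show r = 0 ∨ r = 1 by omega with rfl | rfl
      · simp only [Nat.sub_zero] at this; omega
      · simp only [Nat.sub_self] at this; omega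
    · rw [← hkey, resKey_of_le two_pos _ (not_lt.1 hr), resKey_of_le two_pos _ (not_lt.1 hr)]
  obtain ⟨hsum', hh'⟩ := key _ hB hkey'
  have hs := factorization_setDeg_height Nat.prime_two hS hkey
  have hs' := factorization_setDeg_height Nat.prime_two hB hkey'
  rw [setDeg_starSet hn hS, hh'] at hs'
  rw [hh, if_pos h1] at hs
  have h1' : runWeight 2 q (starSet (2 * N) S) 0 = 1 := by
    by_contra hne
    rw [if_neg hne] at hs'
    omega
  refine ext_of_runner two_pos fun r hr => ?_
  have e1 := runner_mem_Beta (r := r) hS hkey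
  have e2 := runner_mem_Beta (r := r) hB hkey'
  rw [show runWeight 2 q S r = 1 by
    rcases show r = 0 ∨ r = 1 by omega with rfl | rfl <;> omega] at e1
  rw [show runWeight 2 q (starSet (2 * N) S) r = 1 by
    rcases show r = 0 ∨ r = 1 by omega with rfl | rfl <;> omega] at e2
  exact Finset.card_le_one.1 (card_Beta_le_pow (q r) 1) _ e2 _ e1

/-- A defect group containing a copy of the model group has a character of degree `p`. -/
theorem exists_degree_prime_defectGroup {p W : ℕ} [hp : Fact p.Prime] {I : Ideal AlgInt}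
    [I.IsMaximal] (hpI : (p : AlgInt) ∈ I) {b : Set (IrrCharacter (alternatingGroup (Fin n)))}
    (hb : IsPBlock I b) {D : Subgroup (alternatingGroup (Fin n))} (hD : IsDefectGroup p I b D)
    (hW : p ≤ W) (hW2 : p = 2 → 3 ≤ W) (T : Finset (Fin n)) (hT : T.card = p * W)
    {y : alternatingGroup (Fin n)} (hfix : ∀ a ∈ T, (y : Equiv.Perm (Fin n)) a = a)
    (hy : ¬ MemLocalIdeal I (blockCoeff b y))
    (hdef : blockDefect p b + (if p = 2 then 1 else 0) = (p * W).factorial.factorization p) :
    ∃ φ : IrrCharacter D, charDegree φ.1 = p := by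
  classical
  obtain ⟨L, hLA, hLp, hLcard, φ, hφ⟩ := exists_model (p := p) hW hW2
  let f : Fin (p * W) ≃ {a // a ∈ T} := (T.equivFinOfCardEq hT).symm
  let ι : L →* alternatingGroup (Fin n) :=
    ((Equiv.Perm.extendDomainHom f).comp L.subtype).codRestrict _ fun l => by
      rw [Equiv.Perm.mem_alternatingGroup]
      exact (Equiv.Perm.sign_extendDomain _ f).trans (Equiv.Perm.mem_alternatingGroup.1 (hLA l.2))
  have hι : Function.Injective ι := fun a c h =>
    Subtype.ext (Equiv.Perm.extendDomainHom_injective f (congrArg Subtype.val h))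
  have hQy : ι.range ≤ Subgroup.centralizer ({y} : Set (alternatingGroup (Fin n))) := by
    rintro _ ⟨l, rfl⟩
    refine Subgroup.mem_centralizer_singleton_iff.2 (Subtype.ext ?_)
    have hdisj : Equiv.Perm.Disjoint (Equiv.Perm.extendDomain (l : Equiv.Perm (Fin (p * W))) f)
        (y : Equiv.Perm (Fin n)) := fun a => by
      by_cases ha : a ∈ T
      · exact Or.inr (hfix a ha)
      · exact Or.inl (Equiv.Perm.extendDomain_apply_not_subtype _ f ha)
    exact hdisj.commute.eq
  obtain ⟨θ, hθ⟩ := Blocks.block_nonempty hb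
  obtain ⟨g₀, hg₀, hg₀D⟩ := Blocks.isDefectGroup_iff.1 hD
  obtain ⟨x, hx⟩ := Blocks.minmax hpI hb hθ (hg₀.2.2 θ hθ) hy hg₀D
    (Q := ι.range) (hLp.of_surjective ι.rangeRestrict ι.rangeRestrict_surjective) hQy
  let κ : L →* alternatingGroup (Fin n) := (MulAut.conj x).toMonoidHom.comp ι
  have hκ : Function.Injective κ := (MulAut.conj x).injective.comp hι
  have hle : κ.range ≤ D := by rw [MonoidHom.range_comp]; exact hx
  have heq : κ.range = D := by
    refine Subgroup.eq_of_le_of_card_ge hle ?_
    rw [Blocks.card_defectGroup hpI hb hD, Nat.card_congr (MonoidHom.ofInjective hκ).toEquiv.symm]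
    refine Nat.le_of_mul_le_mul_right ?_ (show 0 < (if p = 2 then 2 else 1) by split_ifs <;> omega)
    refine le_trans (le_of_eq ?_) hLcard
    rw [← hdef, pow_add]
    congr 1
    split_ifs with h
    · rw [h, pow_one]
    · rw [pow_zero]
  let e : L ≃* D := (MonoidHom.ofInjective hκ).trans (MulEquiv.subgroupCongr heq)
  refine ⟨⟨φ.1 ∘ e.symm, Char.IsIrrCharacter.comp_surjective φ.2 e.symm.toMonoidHom
    e.symm.surjective⟩, ?_⟩
  show ⌊(φ.1 (e.symm 1)).re⌋₊ = p
  rw [map_one]
  exact hφ

/-- **Heights in blocks of alternating groups.** -/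
theorem alt_heights {p : ℕ} [hp : Fact p.Prime] {I : Ideal AlgInt} [I.IsMaximal]
    (hpI : (p : AlgInt) ∈ I) {b : Set (IrrCharacter (alternatingGroup (Fin n)))}
    (hb : IsPBlock I b) {D : Subgroup (alternatingGroup (Fin n))} (hD : IsDefectGroup p I b D) :
    ((∃ χ, χ ∈ b ∧ blockHeight p b χ.1 = 1) ∧ (∃ φ : IrrCharacter D, charDegree φ.1 = p)) ∨
      ((∀ χ, χ ∈ b → blockHeight p b χ.1 = 0) ∧ IsMulCommutative D) := by
  classical
  have hsmall : Nat.card D = 1 → ((∀ χ, χ ∈ b → blockHeight p b χ.1 = 0) ∧ IsMulCommutative D) := by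
    intro hcard
    have hbot := Subgroup.eq_bot_of_card_eq D hcard
    refine ⟨fun χ hχ => ?_, ⟨⟨fun u v => ?_⟩⟩⟩
    · have hd : blockDefect p b = 0 := by
        have := Blocks.card_defectGroup hpI hb hD
        rw [hcard] at this
        rcases Nat.pow_eq_one.1 this.symm with h | h
        · exact absurd h hp.out.ne_one
        · exact h
      have h1 : (charDegree χ.1).factorization p ≤
          (Nat.card (alternatingGroup (Fin n))).factorization p := by
        rw [Blocks.charDegree_eq]
        exact (Nat.factorization_le_iff_dvd (Char.degree_pos χ).ne' Nat.card_pos.ne').2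
          (Char.degree_dvd_natCard χ) p
      simp only [blockDefect] at hd
      simp only [blockHeight]
      omega
    · subst hbot
      exact Subsingleton.elim _ _
  by_cases h2 : n < 2
  · haveI : Subsingleton (Fin n) := Fin.subsingleton_iff_le_one.2 (by omega)
    exact Or.inr (hsmall (Nat.card_eq_one_iff_unique.2 ⟨inferInstance, inferInstance⟩))
  push Not at h2
  have hM : 2 * (p * (n + 1)) = p * (2 * (n + 1)) := by ring
  set N := p * (n + 1) with hN
  have hn : n ≤ N := le_trans (by omega) (Nat.le_mul_of_pos_left _ hp.out.pos)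
  obtain ⟨q, hq⟩ := exists_coversKey hM hn hpI hb
  obtain ⟨θ₀, hθ₀⟩ := Blocks.block_nonempty hb
  obtain ⟨S₀, hS₀, hkey₀, hne₀⟩ := hq θ₀ hθ₀
  set W := keyWeight N p n q with hWdef
  have hWp : W = pWeight p (canon N S₀) := by
    rw [hWdef, ← hkey₀]
    exact keyWeight_eq hp.out.pos (canon_injective (mem_Beta.1 hS₀).1) (sum_canon_of_mem hS₀)
  by_cases hW1 : p = 2 ∧ W ≤ 1
  · obtain ⟨rfl, hW1⟩ := hW1
    refine Or.inr (hsmall ?_)
    rw [defectGroup_eq_bot hpI hb hD hθ₀ fun a ha =>
      vanish_of_weight_le_one hS₀ (by omega) hne₀ ha, Subgroup.card_bot]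
  have hW2 : p = 2 → 2 ≤ W := fun h => by
    by_contra hlt
    exact hW1 ⟨h, by omega⟩
  have hq2 : ∀ r < p, 2 ≤ q r := fun r hr => two_le_key hp.out.two_le h2 hS₀ hkey₀ hr
  -- every set with the key lies over the block
  have hmem : ∀ S (hS : S ∈ Beta N n), resKey p (canon N S) = q →
      ∃ θ ∈ b, classInner (Char.resFun (alternatingGroup (Fin n)) (irrOf S hS).1) θ.1 ≠ 0 := by
    intro S hS hkey
    exact BlocksX.covers_of_congr _ (Blocks.isPBlock_blockOf (irrOf S₀ hS₀)) hb
      (fun χ hχ θ hθ m => BlocksX.congr_of_covers _ (Blocks.isPBlock_blockOf (irrOf S₀ hS₀)) hb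
        (Blocks.mem_blockOf_self _) hθ₀ hne₀ hχ hθ m)
      _ (sameBlock_of_key hpI hS₀ hS (hkey₀.trans hkey.symm))
  set E := (p * W).factorial.factorization p with hE
  -- the degrees
  have hval : ∀ S (hS : S ∈ Beta N n) (θ : IrrCharacter (alternatingGroup (Fin n))),
      resKey p (canon N S) = q →
      classInner (Char.resFun (alternatingGroup (Fin n)) (irrOf S hS).1) θ.1 ≠ 0 →
      (charDegree θ.1).factorization p + (if p = 2 ∧ starSet (2 * N) S = S then 1 else 0) + E =
          n.factorial.factorization p + setHeight N p n q S ∧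
        (if p = 2 ∧ starSet (2 * N) S = S then 1 else 0) ≤ setHeight N p n q S := by
    intro S hS θ hkey hne
    have h1 := deg_constituent h2 hn hS hne
    have h3 := factorization_setDeg_height hp.out hS hkey
    rw [← h1, Nat.factorization_mul (by split_ifs <;> omega) (Char.degree_pos θ).ne',
      Finsupp.add_apply] at h3
    have h4 : (1 + if starSet (2 * N) S = S then 1 else 0).factorization p =
        if p = 2 ∧ starSet (2 * N) S = S then 1 else 0 := by
      by_cases hfix : starSet (2 * N) S = S
      · rw [if_pos hfix]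
        by_cases hp2 : p = 2
        · rw [if_pos ⟨hp2, hfix⟩, hp2, Nat.prime_two.factorization_self]
        · rw [if_neg (fun h => hp2 h.1), Nat.factorization_eq_zero_of_not_dvd]
          exact fun h => hp2 ((Nat.prime_dvd_prime_iff_eq hp.out Nat.prime_two).1 h)
      · rw [if_neg hfix, if_neg (fun h => hfix h.2), Nat.factorization_one]
        rfl
    rw [h4, ← hWdef, ← hE] at h3
    rw [Blocks.charDegree_eq]
    refine ⟨by omega, ?_⟩
    split_ifs with h
    · obtain ⟨rfl, hfix⟩ := h
      exact one_le_setHeight_of_fixed hM hn hS hkey hfix (le_trans one_le_two (hW2 rfl))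
    · exact Nat.zero_le _
  -- the least exponent
  obtain ⟨S₁, hS₁, hkey₁, hh₁, hnf₁⟩ := exists_height_zero_set hp.out hM hn hS₀ hkey₀ hq2
    (fun h => le_trans one_le_two (hW2 h))
  obtain ⟨θ₁, hθ₁, hne₁⟩ := hmem S₁ hS₁ hkey₁
  obtain ⟨hv₁, -⟩ := hval S₁ hS₁ θ₁ hkey₁ hne₁
  rw [if_neg (fun h => hnf₁ h.1 h.2), hh₁] at hv₁
  have hmin : sInf ((fun ψ : IrrCharacter (alternatingGroup (Fin n)) =>
      (charDegree ψ.1).factorization p) '' b) = (charDegree θ₁.1).factorization p := by
    refine le_antisymm (Nat.sInf_le (Set.mem_image_of_mem _ hθ₁))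
      (le_csInf ((Blocks.block_nonempty hb).image _) ?_)
    rintro _ ⟨θ, hθ, rfl⟩
    obtain ⟨S, hS, hkey, hne⟩ := hq θ hθ
    obtain ⟨h1, h3⟩ := hval S hS θ hkey hne
    simp only
    omega
  have hheight : ∀ S (hS : S ∈ Beta N n) (θ : IrrCharacter (alternatingGroup (Fin n))),
      resKey p (canon N S) = q →
      classInner (Char.resFun (alternatingGroup (Fin n)) (irrOf S hS).1) θ.1 ≠ 0 →
      blockHeight p b θ.1 + (if p = 2 ∧ starSet (2 * N) S = S then 1 else 0) =
        setHeight N p n q S := by
    intro S hS θ hkey hne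
    obtain ⟨h1, h3⟩ := hval S hS θ hkey hne
    rw [blockHeight, hmin]
    omega
  -- the defect
  have hnW : W * p ≤ n := weight_mul_le hp.out.pos hS₀ |> fun h => by rwa [hWp]
  have hcardA : n.factorial.factorization p =
      (Nat.card (alternatingGroup (Fin n))).factorization p + if p = 2 then 1 else 0 := by
    haveI : Nontrivial (Fin n) := Fin.nontrivial_iff_two_le.2 h2
    rw [show n.factorial = 2 * Nat.card (alternatingGroup (Fin n)) by
      rw [Nat.card_eq_fintype_card, two_mul_card_alternatingGroup, Fintype.card_perm,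
        Fintype.card_fin],
      Nat.factorization_mul two_ne_zero Nat.card_pos.ne', Finsupp.add_apply, add_comm]
    congr 1
    split_ifs with h
    · rw [h, Nat.prime_two.factorization_self]
    · exact Nat.factorization_eq_zero_of_not_dvd
        fun h' => h ((Nat.prime_dvd_prime_iff_eq hp.out Nat.prime_two).1 h')
  have hEW : E = W + W.factorial.factorization p := by
    have := factorization_factorial_step hp.out W 0 hp.out.pos
    rwa [add_zero] at this
  have hdef : blockDefect p b + (if p = 2 then 1 else 0) = E := by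
    rw [blockDefect, hmin]
    have : (if p = 2 then 1 else 0) ≤ E := by
      split_ifs with h
      · have := hW2 h; omega
      · exact Nat.zero_le _
    omega
  by_cases hhigh : p ≤ W ∧ (p = 2 → 3 ≤ W)
  · -- a height one character and a faithful model in the defect group
    obtain ⟨S, hS, hkey, hh, hnf⟩ :=
      exists_height_one_set hp.out hM hn hS₀ hkey₀ hq2 hhigh.1 hhigh.2
    obtain ⟨θ, hθ, hne⟩ := hmem S hS hkey
    refine Or.inl ⟨⟨θ, hθ, ?_⟩, ?_⟩
    · have := hheight S hS θ hkey hne
      rw [if_neg (fun h => hnf h.1 h.2), hh] at this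
      omega
    by_cases hodd : p = 2
    · subst hodd
      obtain ⟨x, hx, hxp, hord, -, hχ⟩ := exists_witness_perm (p := 2) hS₀
      rw [← hWp] at hx
      obtain ⟨y, hyreg, hy, c, hc⟩ := exists_class_of_covering hpI _ (index_alternatingGroup h2)
        hb hθ₀ hne₀ hord hχ (E := rotGroup x) (fun a ha => pow_eq_one_of_mem_rotGroup hxp ha)
        (fun a ha a' ha' => (commute_of_mem_rotGroup ha ha').eq)
        (fun a ha => ha.1.eq) (fun g hg e he => conj_mem_rotGroup hg he)
      refine exists_degree_prime_defectGroup hpI hb hD hhigh.1 hhigh.2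
        (x.support.image c) ?_ ?_ hy hdef
      · rw [Finset.card_image_of_injective _ c.injective, ← Equiv.Perm.sum_cycleType, hx,
          Multiset.sum_replicate, smul_eq_mul, mul_comm]
      · intro a ha
        obtain ⟨a', ha', rfl⟩ := Finset.mem_image.1 ha
        have h := fix_of_commute_rot hp.out hxp (σ := c⁻¹ * (y : Equiv.Perm (Fin n)) * c) (a := a')
          (by
            show ¬ 2 ∣ orderOf (c⁻¹ * (y : Equiv.Perm (Fin n)) * c)
            rw [show c⁻¹ * (y : Equiv.Perm (Fin n)) * c = MulAut.conj c⁻¹ (y : Equiv.Perm (Fin n)) by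
              rw [MulAut.conj_apply, inv_inv], MulEquiv.orderOf_eq]
            exact hyreg)
          (fun e he => by
            have := hc e he
            calc c⁻¹ * (y : Equiv.Perm (Fin n)) * c * e
                = c⁻¹ * ((y : Equiv.Perm (Fin n)) * (c * e * c⁻¹)) * c := by group
              _ = c⁻¹ * (c * e * c⁻¹ * (y : Equiv.Perm (Fin n))) * c := by rw [this]
              _ = _ := by group) ha'
        rw [Equiv.Perm.mul_apply, Equiv.Perm.mul_apply, Equiv.Perm.inv_eq_iff_eq] at h
        exact h
    · obtain ⟨x', hx'p, hx', hxA, a, ha⟩ :=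
        exists_rot_le_defectGroup hodd hpI hb hD hθ₀ hS₀ hne₀
      rw [← hWp] at hx'
      obtain ⟨g₀, hg₀, hg₀D⟩ := Blocks.isDefectGroup_iff.1 hD
      have hy := Blocks.IsDefectClass.conj hg₀ a⁻¹
      refine exists_degree_prime_defectGroup hpI hb hD hhigh.1 hhigh.2 x'.support ?_ ?_ hy.2.1 hdef
      · rw [← Equiv.Perm.sum_cycleType, hx', Multiset.sum_replicate, smul_eq_mul, mul_comm]
      · intro i hi
        refine fix_of_commute_rot hp.out hx'p ((isPRegular_coe _).2
          (Blocks.IsDefectClass.isPRegular hpI hb hy)) (fun e he => ?_) hi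
        have h := Subgroup.mem_centralizer_singleton_iff.1
          (hg₀D.1 (ha ⟨⟨e, hxA he⟩, Subgroup.mem_subgroupOf.2 he, rfl⟩))
        have h' := congrArg (Subtype.val) h
        simp only [MulEquiv.coe_toMonoidHom, MulAut.conj_apply, Subgroup.coe_mul,
          Subgroup.coe_inv] at h'
        simp only [Subgroup.coe_mul, Subgroup.coe_inv, inv_inv]
        calc (a : Equiv.Perm (Fin n))⁻¹ * g₀ * a * e
            = (a : Equiv.Perm (Fin n))⁻¹ *
                ((g₀ : Equiv.Perm (Fin n)) * (a * e * (a : Equiv.Perm (Fin n))⁻¹)) * a := by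
              group
          _ = (a : Equiv.Perm (Fin n))⁻¹ * ((a * e * (a : Equiv.Perm (Fin n))⁻¹) * g₀) * a := by
              rw [h']
          _ = _ := by group
  · -- small weight
    refine Or.inr ⟨fun θ hθ => ?_, ?_⟩
    · obtain ⟨S, hS, hkey, hne⟩ := hq θ hθ
      have := hheight S hS θ hkey hne
      by_cases hp2 : p = 2
      · subst hp2
        have hWeq : W = 2 := by
          have := hW2 rfl
          by_contra hne'
          exact hhigh ⟨by omega, fun _ => by omega⟩
        rw [setHeight_low_two hM hn hS hkey hWeq] at this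
        simp only [true_and] at this
        omega
      · rw [setHeight_low_odd hp.out hS hkey (not_le.1 fun h => hhigh ⟨h, fun e => absurd e hp2⟩)]
          at this
        omega
    · by_cases hp2 : p = 2
      · subst hp2
        have hWeq : W = 2 := by
          have := hW2 rfl
          by_contra hne'
          exact hhigh ⟨by omega, fun _ => by omega⟩
        refine IsPGroup.isMulCommutative_of_card_eq_prime_sq (p := 2) ?_
        rw [Blocks.card_defectGroup hpI hb hD]
        congr 1
        rw [hEW, hWeq, Nat.factorial_two, Nat.prime_two.factorization_self] at hdef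
        simpa using hdef
      · have hWlt : W < p := not_le.1 fun h => hhigh ⟨h, fun e => absurd e hp2⟩
        obtain ⟨x', hx'p, hx', hxA, a, ha⟩ :=
          exists_rot_le_defectGroup hp2 hpI hb hD hθ₀ hS₀ hne₀
        rw [← hWp] at hx'
        have hcard : x'.cycleFactorsFinset.card = W := by
          have := congrArg Multiset.card hx'
          rwa [Equiv.Perm.cycleType_def, Multiset.card_map, Multiset.card_replicate,
            Finset.card_val] at this
        have hWfac : W.factorial.factorization p = 0 :=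
          Nat.factorization_eq_zero_of_not_dvd fun h => by
            have := (Nat.Prime.dvd_factorial hp.out).1 h
            omega
        have heq := Subgroup.eq_of_le_of_card_ge ha (by
          rw [Blocks.card_defectGroup hpI hb hD, Subgroup.card_map_of_injective
            (MulAut.conj a).injective, Nat.card_congr (Subgroup.subgroupOfEquivOfLe hxA).toEquiv]
          refine le_trans (le_of_eq ?_) (card_rotGroup hp.out hx'p)
          rw [if_neg hp2, hEW, hWfac] at hdef
          rw [hcard]
          congr 1)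
        rw [← heq]
        refine ⟨⟨fun u v => Subtype.ext ?_⟩⟩
        obtain ⟨u', hu, hu'⟩ := u.2
        obtain ⟨v', hv, hv'⟩ := v.2
        rw [Subgroup.coe_mul, Subgroup.coe_mul, ← hu', ← hv', ← map_mul, ← map_mul]
        exact congrArg _ (Subtype.ext (commute_of_mem_rotGroup
          (Subgroup.mem_subgroupOf.1 hu) (Subgroup.mem_subgroupOf.1 hv)).eq)

end Cfsg.Agent.SymChar
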