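import Mathlib.Algebra.MvPolynomial.Basic
import Mathlib.Combinatorics.Enumerative.Partition.Basic
import Mathlib.GroupTheory.Perm.Sign
import Mathlib.Algebra.BigOperators.Intervals
import Mathlib.Data.Finset.Sort
import Mathlib.Data.Complex.Basic
import Mathlib.LinearAlgebra.Pi

/-!
# Alternant coefficients and their orthonormality

For a tuple `l : Fin N → ℕ` of beta numbers and a multiset `c` of positive integers, `chiX l c` is
the coefficient of `x ^ l` in the alternant times the product of the power sums `p_k`, `k ∈ c`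
(the Frobenius character formula).  Orthonormality in the measure `1 / z c` on partitions is
proved by removing one part at a time.
-/

namespace Cfsg.Agent.SymChar

open Finset Equiv

variable {N : ℕ}

/-- The base sum `0 + 1 + ... + (m - 1)`. -/
def baseSum (m : ℕ) : ℕ := ∑ i ∈ Finset.range m, i

/-- The signed matching number of two tuples. -/
def detD (l m : Fin N → ℕ) : ℤ :=
  ∑ σ : Equiv.Perm (Fin N), if m = l ∘ σ then (Equiv.Perm.sign σ : ℤ) else 0

/-- Alternating functions on tuples. -/
def IsAlt {V : Type*} [AddCommGroup V] (u : (Fin N → ℕ) → V) : Prop :=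
  ∀ (l : Fin N → ℕ) (σ : Equiv.Perm (Fin N)), u (l ∘ σ) = (Equiv.Perm.sign σ : ℤ) • u l

theorem sign_mul_self (σ : Equiv.Perm (Fin N)) :
    (Equiv.Perm.sign σ : ℤ) * (Equiv.Perm.sign σ : ℤ) = 1 := by
  rcases Int.units_eq_one_or (Equiv.Perm.sign σ) with h | h <;> simp [h]

theorem IsAlt.eq_zero {V : Type*} [AddCommGroup V] [Module ℂ V] {u : (Fin N → ℕ) → V}
    (hu : IsAlt u) {l : Fin N → ℕ} (hl : ¬ Function.Injective l) : u l = 0 := by
  simp only [Function.Injective, not_forall] at hl
  obtain ⟨a, b, hab, hne⟩ := hl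
  have he : l ∘ Equiv.swap a b = l := by
    funext x
    rcases eq_or_ne x a with rfl | hxa
    · simp [hab]
    rcases eq_or_ne x b with rfl | hxb
    · simp [hab]
    simp [Equiv.swap_apply_of_ne_of_ne hxa hxb]
  have h := hu l (Equiv.swap a b)
  rw [he, Equiv.Perm.sign_swap hne] at h
  have h2 : (2 : ℂ) • u l = 0 := by
    rw [two_smul]
    nth_rw 1 [h]
    simp
  exact (smul_eq_zero.1 h2).resolve_left two_ne_zero

theorem detD_perm_right (l m : Fin N → ℕ) (τ : Equiv.Perm (Fin N)) :
    detD l (m ∘ τ) = (Equiv.Perm.sign τ : ℤ) * detD l m := by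
  rw [detD, detD, Finset.mul_sum, ← Equiv.sum_comp (Equiv.mulRight τ)]
  refine Finset.sum_congr rfl fun σ _ => ?_
  have : m ∘ ⇑τ = l ∘ ⇑(σ * τ) ↔ m = l ∘ ⇑σ := by
    rw [Equiv.Perm.coe_mul, ← Function.comp_assoc, τ.surjective.injective_comp_right.eq_iff]
  show (if m ∘ ⇑τ = l ∘ ⇑(σ * τ) then (Equiv.Perm.sign (σ * τ) : ℤ) else 0) = _
  by_cases h : m = l ∘ σ
  · rw [if_pos (this.2 h), if_pos h, map_mul, Units.val_mul, mul_comm]
  · rw [if_neg (mt this.1 h), if_neg h, mul_zero]

theorem detD_comm (l m : Fin N → ℕ) : detD l m = detD m l := by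
  rw [detD, detD, ← Equiv.sum_comp (Equiv.inv (Equiv.Perm (Fin N)))]
  refine Finset.sum_congr rfl fun σ _ => ?_
  have : m = l ∘ ⇑(σ⁻¹) ↔ l = m ∘ ⇑σ := by
    constructor <;> rintro rfl <;> funext x <;> simp
  show (if m = l ∘ ⇑σ⁻¹ then (Equiv.Perm.sign σ⁻¹ : ℤ) else 0) = _
  rw [Equiv.Perm.sign_inv]
  exact if_congr this rfl rfl

theorem detD_perm_left (l m : Fin N → ℕ) (τ : Equiv.Perm (Fin N)) :
    detD (l ∘ τ) m = (Equiv.Perm.sign τ : ℤ) * detD l m := by
  rw [detD_comm, detD_perm_right, detD_comm]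

theorem exists_of_detD_ne_zero {l m : Fin N → ℕ} (h : detD l m ≠ 0) :
    ∃ σ : Equiv.Perm (Fin N), m = l ∘ σ := by
  obtain ⟨σ, -, hσ⟩ := Finset.exists_ne_zero_of_sum_ne_zero h
  exact ⟨σ, by by_contra hc; exact hσ (if_neg hc)⟩

theorem isAlt_detD_right (l : Fin N → ℕ) : IsAlt fun m => (detD l m : ℂ) := fun m σ => by
  simp [detD_perm_right, zsmul_eq_mul]

theorem injective_of_detD_ne_zero {l m : Fin N → ℕ} (h : detD l m ≠ 0) :
    Function.Injective l ∧ Function.Injective m := by
  constructor
  · by_contra hl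
    have h' := (isAlt_detD_right m).eq_zero hl
    rw [detD_comm] at h'
    exact h (by exact_mod_cast h')
  · by_contra hm
    exact h (by exact_mod_cast (isAlt_detD_right l).eq_zero hm)

theorem detD_comp {l : Fin N → ℕ} (hl : Function.Injective l) (σ : Equiv.Perm (Fin N)) :
    detD l (l ∘ σ) = (Equiv.Perm.sign σ : ℤ) := by
  rw [detD, Finset.sum_eq_single σ]
  · simp
  · intro τ _ hτ
    rw [if_neg]
    intro h
    exact hτ (Equiv.ext fun x => (hl (congrFun h x)).symm)
  · simp

theorem detD_self {l : Fin N → ℕ} (hl : Function.Injective l) : detD l l = 1 := by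
  simpa using detD_comp hl 1

/-! ### Counting smaller members -/

/-- The number of indices in `s` with smaller value. -/
def below {ι : Type*} (s : Finset ι) (g : ι → ℕ) (i : ι) : ℕ :=
  (s.filter fun j => g j < g i).card

theorem below_lt {ι : Type*} {s : Finset ι} {g : ι → ℕ} {i : ι} (hi : i ∈ s) :
    below s g i < s.card :=
  Finset.card_lt_card (Finset.filter_ssubset.2 ⟨i, hi, lt_irrefl _⟩)

theorem below_le {ι : Type*} {s : Finset ι} {g : ι → ℕ} (hg : Set.InjOn g s) (i : ι) :
    below s g i ≤ g i := by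
  have := Finset.card_le_card_of_injOn g (t := Finset.range (g i))
    (s := s.filter fun j => g j < g i) (fun j hj => by simpa using (Finset.mem_filter.1 hj).2)
    (hg.mono (Finset.coe_subset.2 (Finset.filter_subset _ _)))
  simpa [below] using this

theorem sum_below {ι : Type*} {s : Finset ι} {g : ι → ℕ} (hg : Set.InjOn g s) :
    ∑ i ∈ s, below s g i = baseSum s.card := by
  classical
  have h1 : ∀ i ∈ s, below s g i + (s.filter fun j => g i < g j).card = s.card - 1 := by
    intro i hi
    rw [below, ← Finset.card_union_of_disjoint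
      (Finset.disjoint_filter.2 fun j _ h h' => lt_asymm h h'), ← Finset.card_erase_of_mem hi]
    congr 1
    ext j
    simp only [Finset.mem_union, Finset.mem_filter, Finset.mem_erase]
    constructor
    · rintro (⟨hj, h⟩ | ⟨hj, h⟩) <;> exact ⟨fun hji => by subst hji; exact lt_irrefl _ h, hj⟩
    · rintro ⟨hne, hj⟩
      rcases lt_or_gt_of_ne (fun h => hne (hg hj hi h)) with h | h
      · exact Or.inl ⟨hj, h⟩
      · exact Or.inr ⟨hj, h⟩
  have h2 : ∑ i ∈ s, (s.filter fun j => g i < g j).card = ∑ i ∈ s, below s g i := by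
    simp only [below, Finset.card_filter]
    rw [Finset.sum_comm]
  have h3 := Finset.sum_congr rfl h1
  rw [Finset.sum_add_distrib, h2, Finset.sum_const, smul_eq_mul] at h3
  have h4 := Finset.sum_range_id_mul_two s.card
  rw [baseSum]
  omega

theorem baseSum_le {ι : Type*} {s : Finset ι} {g : ι → ℕ} (hg : Set.InjOn g s) :
    baseSum s.card ≤ ∑ i ∈ s, g i :=
  sum_below hg ▸ Finset.sum_le_sum fun i _ => below_le hg i

theorem baseSum_le_sum {l : Fin N → ℕ} (hl : Function.Injective l) : baseSum N ≤ ∑ i, l i := by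
  simpa using baseSum_le (s := Finset.univ) hl.injOn

theorem exists_perm_of_base {l : Fin N → ℕ} (hl : Function.Injective l)
    (hsum : ∑ i, l i = baseSum N) : ∃ σ : Equiv.Perm (Fin N), l = Fin.val ∘ σ := by
  have h1 := sum_below (s := Finset.univ) hl.injOn
  rw [Finset.card_univ, Fintype.card_fin, ← hsum] at h1
  have h2 := (Finset.sum_eq_sum_iff_of_le fun i _ => below_le hl.injOn i).1 h1
  have h3 : ∀ i, l i < N := fun i => by
    rw [← h2 i (Finset.mem_univ _)]
    simpa using below_lt (s := Finset.univ) (g := l) (Finset.mem_univ i)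
  have hb : Function.Bijective fun i => (⟨l i, h3 i⟩ : Fin N) :=
    Finite.injective_iff_bijective.1 fun a b h => hl (Fin.val_eq_of_eq h)
  exact ⟨Equiv.ofBijective _ hb, rfl⟩

/-! ### The coefficient function -/

/-- A tuple as an exponent vector. -/
noncomputable def expo (l : Fin N → ℕ) : Fin N →₀ ℕ := Finsupp.equivFunOnFinite.symm l

@[simp] theorem expo_apply (l : Fin N → ℕ) (i : Fin N) : expo l i = l i := rfl

theorem expo_inj {l m : Fin N → ℕ} : expo l = expo m ↔ l = m :=
  Finsupp.equivFunOnFinite.symm.injective.eq_iff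

/-- The alternant. -/
noncomputable def alternant (N : ℕ) : MvPolynomial (Fin N) ℤ :=
  ∑ σ : Equiv.Perm (Fin N), MvPolynomial.monomial (expo (Fin.val ∘ σ)) (Equiv.Perm.sign σ : ℤ)

theorem coeff_alternant (l : Fin N → ℕ) :
    (alternant N).coeff (expo l) = detD Fin.val l := by
  classical
  rw [alternant, MvPolynomial.coeff_sum, detD]
  refine Finset.sum_congr rfl fun σ _ => ?_
  rw [MvPolynomial.coeff_monomial]
  by_cases h : l = Fin.val ∘ σ
  · simp [h]
  · rw [if_neg h, if_neg fun h' => h (expo_inj.1 h').symm]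

/-- The power sum. -/
noncomputable def powerSum (N k : ℕ) : MvPolynomial (Fin N) ℤ :=
  ∑ i : Fin N, MvPolynomial.monomial (Finsupp.single i k) 1

/-- The coefficient of `x ^ l` in the alternant times the power sums of the parts of `c`. -/
noncomputable def chiX (l : Fin N → ℕ) (c : Multiset ℕ) : ℤ :=
  ((c.map (powerSum N)).prod * alternant N).coeff (expo l)

/-- Lower the entry `i` by `k`. -/
def dec (l : Fin N → ℕ) (i : Fin N) (k : ℕ) : Fin N → ℕ := Function.update l i (l i - k)

/-- Raise the entry `i` by `k`. -/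
def inc (l : Fin N → ℕ) (i : Fin N) (k : ℕ) : Fin N → ℕ := Function.update l i (l i + k)

theorem dec_comp (l : Fin N → ℕ) (σ : Equiv.Perm (Fin N)) (i : Fin N) (k : ℕ) :
    dec (l ∘ σ) i k = dec l (σ i) k ∘ σ := by
  funext x
  by_cases h : x = i
  · subst h; simp [dec]
  · simp [dec, h, σ.injective.ne h]

theorem inc_comp (l : Fin N → ℕ) (σ : Equiv.Perm (Fin N)) (i : Fin N) (k : ℕ) :
    inc (l ∘ σ) i k = inc l (σ i) k ∘ σ := by
  funext x
  by_cases h : x = i
  · subst h; simp [inc]
  · simp [inc, h, σ.injective.ne h]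

theorem sum_dec {l : Fin N → ℕ} {i : Fin N} {k : ℕ} (h : k ≤ l i) :
    (∑ x, dec l i k x) + k = ∑ x, l x := by
  classical
  rw [← Finset.add_sum_erase _ _ (Finset.mem_univ i), ← Finset.add_sum_erase _ l (Finset.mem_univ i),
    Finset.sum_congr rfl fun x hx => show dec l i k x = l x by simp [dec, (Finset.mem_erase.1 hx).1]]
  simp only [dec, Function.update_self]
  show l i - k + (∑ x ∈ Finset.univ.erase i, l x) + k = l i + ∑ x ∈ Finset.univ.erase i, l x
  omega

theorem sum_inc (l : Fin N → ℕ) (i : Fin N) (k : ℕ) :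
    (∑ x, inc l i k x) = (∑ x, l x) + k := by
  classical
  rw [← Finset.add_sum_erase _ _ (Finset.mem_univ i), ← Finset.add_sum_erase _ l (Finset.mem_univ i),
    Finset.sum_congr rfl fun x hx => show inc l i k x = l x by simp [inc, (Finset.mem_erase.1 hx).1]]
  simp only [inc, Function.update_self]
  show l i + k + (∑ x ∈ Finset.univ.erase i, l x) = l i + (∑ x ∈ Finset.univ.erase i, l x) + k
  omega

theorem chiX_zero (l : Fin N → ℕ) : chiX l 0 = detD Fin.val l := by
  simp [chiX, coeff_alternant]

theorem chiX_cons (l : Fin N → ℕ) (k : ℕ) (c : Multiset ℕ) :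
    chiX l (k ::ₘ c) = ∑ i, if k ≤ l i then chiX (dec l i k) c else 0 := by
  classical
  rw [chiX, Multiset.map_cons, Multiset.prod_cons, mul_assoc, powerSum, Finset.sum_mul,
    MvPolynomial.coeff_sum]
  refine Finset.sum_congr rfl fun i _ => ?_
  rw [MvPolynomial.coeff_monomial_mul', one_mul]
  have : Finsupp.single i k ≤ expo l ↔ k ≤ l i := by
    rw [Finsupp.single_le_iff]; rfl
  by_cases h : k ≤ l i
  · rw [if_pos (this.2 h), if_pos h, chiX]
    congr 1
    ext x
    by_cases hx : x = i
    · subst hx; simp [dec]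
    · simp [dec, hx]
  · rw [if_neg fun h' => h (this.1 h'), if_neg h]

theorem isAlt_chiX (c : Multiset ℕ) : IsAlt fun l : Fin N → ℕ => (chiX l c : ℂ) := by
  have key : ∀ (c : Multiset ℕ) (l : Fin N → ℕ) (σ : Equiv.Perm (Fin N)),
      chiX (l ∘ σ) c = (Equiv.Perm.sign σ : ℤ) * chiX l c := by
    intro c
    induction c using Multiset.induction_on with
    | empty => intro l σ; rw [chiX_zero, chiX_zero, detD_perm_right]
    | cons k c ih =>
      intro l σ
      rw [chiX_cons, chiX_cons, Finset.mul_sum, ← Equiv.sum_comp σ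
        (fun i => (Equiv.Perm.sign σ : ℤ) * if k ≤ l i then chiX (dec l i k) c else 0)]
      refine Finset.sum_congr rfl fun i _ => ?_
      simp [dec_comp, ih, mul_ite]
  intro l σ
  simp [key, zsmul_eq_mul]

theorem chiX_comp (c : Multiset ℕ) (l : Fin N → ℕ) (σ : Equiv.Perm (Fin N)) :
    chiX (l ∘ σ) c = (Equiv.Perm.sign σ : ℤ) * chiX l c := by
  have h := isAlt_chiX c l σ
  simp only [zsmul_eq_mul] at h
  exact_mod_cast h

theorem chiX_eq_zero {l : Fin N → ℕ} (hl : ¬ Function.Injective l) (c : Multiset ℕ) :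
    chiX l c = 0 := by
  exact_mod_cast (isAlt_chiX c).eq_zero hl

/-! ### Sets of beta numbers -/

/-- Sets of `N` beta numbers of weight `n`. -/
def Beta (N n : ℕ) : Finset (Finset ℕ) :=
  ((Finset.range (n + baseSum N + 1)).powersetCard N).filter fun S => ∑ x ∈ S, x = baseSum N + n

theorem mem_Beta {n : ℕ} {S : Finset ℕ} :
    S ∈ Beta N n ↔ S.card = N ∧ ∑ x ∈ S, x = baseSum N + n := by
  rw [Beta, Finset.mem_filter, Finset.mem_powersetCard]
  refine ⟨fun h => ⟨h.1.2, h.2⟩, fun h => ⟨⟨fun x hx => ?_, h.1⟩, h.2⟩⟩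
  have := Finset.single_le_sum (f := fun x : ℕ => x) (fun _ _ => Nat.zero_le _) hx
  rw [Finset.mem_range]
  have h2 := h.2
  omega

/-- The increasing tuple of a set. -/
def canon (N : ℕ) (S : Finset ℕ) : Fin N → ℕ :=
  if h : S.card = N then S.orderEmbOfFin h else fun _ => 0

theorem canon_injective {S : Finset ℕ} (h : S.card = N) : Function.Injective (canon N S) := by
  rw [canon, dif_pos h]; exact (S.orderEmbOfFin h).injective

theorem image_canon {S : Finset ℕ} (h : S.card = N) : Finset.univ.image (canon N S) = S := by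
  rw [canon, dif_pos h, Finset.image_orderEmbOfFin_univ]

theorem sum_canon {S : Finset ℕ} (h : S.card = N) : ∑ i, canon N S i = ∑ x ∈ S, x := by
  conv_rhs => rw [← image_canon h, Finset.sum_image fun a _ b _ e => canon_injective h e]

theorem sum_canon_of_mem {n : ℕ} {S : Finset ℕ} (h : S ∈ Beta N n) :
    ∑ i, canon N S i = baseSum N + n := by
  rw [sum_canon (mem_Beta.1 h).1, (mem_Beta.1 h).2]

theorem image_mem_Beta {n : ℕ} {l : Fin N → ℕ} (hl : Function.Injective l)
    (hsum : ∑ i, l i = baseSum N + n) : Finset.univ.image l ∈ Beta N n := by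
  rw [mem_Beta, Finset.card_image_of_injective _ hl, Finset.sum_image fun a _ b _ e => hl e]
  simpa using hsum

theorem exists_canon_perm {l : Fin N → ℕ} (hl : Function.Injective l) :
    ∃ σ : Equiv.Perm (Fin N), canon N (Finset.univ.image l) = l ∘ σ := by
  classical
  have hc : (Finset.univ.image l).card = N := by
    rw [Finset.card_image_of_injective _ hl]; simp
  have hmem : ∀ i, ∃ j, l j = canon N (Finset.univ.image l) i := fun i => by
    have := image_canon (N := N) hc ▸ Finset.mem_image_of_mem (canon N (Finset.univ.image l))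
      (Finset.mem_univ i)
    simpa using this
  choose f hf using hmem
  have hfi : Function.Injective f := fun a b h => canon_injective hc (by rw [← hf a, ← hf b, h])
  exact ⟨Equiv.ofBijective f (Finite.injective_iff_bijective.1 hfi), funext fun i => (hf i).symm⟩

theorem expand {V : Type*} [AddCommGroup V] [Module ℂ V] {u : (Fin N → ℕ) → V} (hu : IsAlt u)
    {n : ℕ} {l : Fin N → ℕ} (hsum : ∑ i, l i = baseSum N + n) :
    u l = ∑ S ∈ Beta N n, (detD l (canon N S) : ℂ) • u (canon N S) := by
  classical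
  by_cases hl : Function.Injective l
  · obtain ⟨σ, hσ⟩ := exists_canon_perm hl
    rw [Finset.sum_eq_single (Finset.univ.image l)]
    · rw [hσ, detD_comp hl, hu l σ, Int.cast_smul_eq_zsmul, smul_smul, sign_mul_self, one_smul]
    · intro S hS hne
      have : detD l (canon N S) = 0 := by
        by_contra h
        obtain ⟨τ, hτ⟩ := exists_of_detD_ne_zero h
        apply hne
        rw [← image_canon (N := N) (mem_Beta.1 hS).1, hτ]
        ext x
        simp only [Finset.mem_image, Finset.mem_univ, true_and, Function.comp_apply]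
        exact ⟨fun ⟨a, ha⟩ => ⟨τ a, ha⟩, fun ⟨a, ha⟩ => ⟨τ.symm a, by simpa using ha⟩⟩
      simp [this]
    · exact fun h => absurd (image_mem_Beta hl hsum) h
  · rw [hu.eq_zero hl, Finset.sum_eq_zero]
    intro S _
    have : detD l (canon N S) = 0 := by
      by_contra h
      exact hl (injective_of_detD_ne_zero h).1
    simp [this]

theorem transpose_move (s t : Fin N → ℕ) (k : ℕ) :
    ∑ i, (if k ≤ s i then detD (dec s i k) t else 0) = ∑ i, detD (inc t i k) s := by
  classical
  simp only [detD, ← Finset.sum_filter, ← Finset.sum_product']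
  rw [Finset.sum_filter]
  simp only [Finset.sum_filter]
  rw [← Fintype.sum_prod_type' (f := fun (i : Fin N) (σ : Equiv.Perm (Fin N)) =>
      if s = inc t i k ∘ σ then (Equiv.Perm.sign σ : ℤ) else 0)]
  rw [show (∑ i, if k ≤ s i then
      ∑ σ : Equiv.Perm (Fin N), if t = dec s i k ∘ σ then (Equiv.Perm.sign σ : ℤ) else 0 else 0) =
      ∑ x : Fin N × Equiv.Perm (Fin N),
        if k ≤ s x.1 ∧ t = dec s x.1 k ∘ x.2 then (Equiv.Perm.sign x.2 : ℤ) else 0 by
    rw [Fintype.sum_prod_type]
    exact Finset.sum_congr rfl fun i _ => by by_cases h : k ≤ s i <;> simp [h]]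
  let e : Fin N × Equiv.Perm (Fin N) ≃ Fin N × Equiv.Perm (Fin N) :=
    { toFun := fun x => (x.2⁻¹ x.1, x.2⁻¹)
      invFun := fun x => (x.2⁻¹ x.1, x.2⁻¹)
      left_inv := fun x => by simp
      right_inv := fun x => by simp }
  refine Fintype.sum_equiv e _ _ fun x => ?_
  obtain ⟨i, σ⟩ := x
  have : (k ≤ s i ∧ t = dec s i k ∘ σ) ↔ s = inc t (σ⁻¹ i) k ∘ ⇑σ⁻¹ := by
    constructor
    · rintro ⟨h, rfl⟩
      funext y
      by_cases hy : y = i
      · subst hy; simp [inc, dec]; omega
      · simp [inc, dec, hy, (σ⁻¹).injective.ne hy]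
    · intro h
      refine ⟨?_, ?_⟩
      · rw [h]; simp [inc]
      · funext y
        by_cases hy : σ y = i
        · have hi : y = σ⁻¹ i := by rw [← hy]; simp
          simp only [Function.comp_apply, hy, dec, Function.update_self]
          rw [h]; simp [inc, hi]
        · have hi : y ≠ σ⁻¹ i := fun e => hy (by rw [e]; simp)
          simp only [Function.comp_apply, dec, Function.update_of_ne hy]
          rw [h]
          simp only [Function.comp_apply, show σ⁻¹ (σ y) = y from σ.symm_apply_apply y, inc,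
            Function.update_of_ne hi]
  by_cases h : k ≤ s i ∧ t = dec s i k ∘ σ
  · rw [if_pos h]; exact (if_pos (this.1 h)).trans (by simp [e]) |>.symm
  · rw [if_neg h]; exact (if_neg fun h' => h (this.2 h')).symm

end Cfsg.Agent.SymChar
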