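import Cfsg.Agent.Lib.SymChar.Orth
import Mathlib.Combinatorics.Enumerative.Composition
import Mathlib.LinearAlgebra.Quotient.Basic
import Mathlib.LinearAlgebra.Span.Basic
import Mathlib.GroupTheory.Perm.Sign

/-!
# Residue runners of sets of beta numbers

Tuples are sorted by their residue counts modulo `p` (this stands for the `p`-core); the quotients
on the residue `0` can be removed from a spanning set of any alternating function killed by all
sums over `p`-divisible moves.
-/

namespace Cfsg.Agent.SymChar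

open Finset Equiv

variable {N : ℕ}

/-- The residue counts of a tuple. -/
def resKey (p : ℕ) (l : Fin N → ℕ) : ℕ → ℕ :=
  fun r => ((Finset.univ : Finset (Fin N)).filter fun i => l i % p = r).card

/-- The indices with the same residue as `i`. -/
def resClass (p : ℕ) (l : Fin N → ℕ) (i : Fin N) : Finset (Fin N) :=
  (Finset.univ : Finset (Fin N)).filter fun j => l j % p = l i % p

/-- The position of a bead on its runner. -/
def runRank (p : ℕ) (l : Fin N → ℕ) (i : Fin N) : ℕ :=
  below (resClass p l i) (fun j => l j / p) i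

/-- The tuple with all beads pushed down. -/
def coreT (p : ℕ) (l : Fin N → ℕ) : Fin N → ℕ := fun i => l i % p + p * runRank p l i

/-- The sum of the pushed down tuple with given residue counts. -/
def coreSum (p : ℕ) (q : ℕ → ℕ) : ℕ := ∑ r ∈ Finset.range p, (r * q r + p * baseSum (q r))

/-- The total number of downward moves. -/
def pWeight (p : ℕ) (l : Fin N → ℕ) : ℕ := ∑ i, (l i / p - runRank p l i)

theorem injOn_div {p : ℕ} {l : Fin N → ℕ} (hl : Function.Injective l) (s : Finset (Fin N)) (r : ℕ)
    (hs : ∀ j ∈ s, l j % p = r) : Set.InjOn (fun j => l j / p) s := by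
  intro a ha b hb hab
  refine hl ?_
  simp only at hab
  rw [← Nat.mod_add_div (l a) p, ← Nat.mod_add_div (l b) p, hab, hs a ha, hs b hb]

theorem runRank_le {p : ℕ} {l : Fin N → ℕ} (hl : Function.Injective l) (i : Fin N) :
    runRank p l i ≤ l i / p :=
  below_le (injOn_div hl _ _ fun _ hj => (Finset.mem_filter.1 hj).2) i

theorem sum_runRank {p : ℕ} (hp : 0 < p) {l : Fin N → ℕ} (hl : Function.Injective l) :
    ∑ i, runRank p l i = ∑ r ∈ Finset.range p, baseSum (resKey p l r) := by
  rw [← Finset.sum_fiberwise_of_maps_to (g := fun i => l i % p) (t := Finset.range p)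
    fun i _ => Finset.mem_range.2 (Nat.mod_lt _ hp)]
  refine Finset.sum_congr rfl fun r _ => ?_
  rw [resKey, ← sum_below (injOn_div hl _ r fun j hj => (Finset.mem_filter.1 hj).2)]
  refine Finset.sum_congr rfl fun i hi => ?_
  rw [runRank, resClass, (Finset.mem_filter.1 hi).2]

theorem sum_mod {p : ℕ} (hp : 0 < p) (l : Fin N → ℕ) :
    ∑ i, l i % p = ∑ r ∈ Finset.range p, r * resKey p l r := by
  rw [← Finset.sum_fiberwise_of_maps_to (g := fun i => l i % p) (t := Finset.range p)
    fun i _ => Finset.mem_range.2 (Nat.mod_lt _ hp)]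
  refine Finset.sum_congr rfl fun r _ => ?_
  rw [Finset.sum_congr rfl fun i hi => (Finset.mem_filter.1 hi).2, Finset.sum_const, smul_eq_mul,
    mul_comm, resKey]

theorem sum_div_eq {p : ℕ} (hp : 0 < p) {l : Fin N → ℕ} (hl : Function.Injective l) :
    ∑ i, l i / p = (∑ r ∈ Finset.range p, baseSum (resKey p l r)) + pWeight p l := by
  rw [← sum_runRank hp hl, pWeight, ← Finset.sum_add_distrib]
  exact Finset.sum_congr rfl fun i _ => (Nat.add_sub_cancel' (runRank_le hl i)).symm

theorem sum_coreT {p : ℕ} (hp : 0 < p) {l : Fin N → ℕ} (hl : Function.Injective l) :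
    ∑ i, coreT p l i = coreSum p (resKey p l) := by
  simp only [coreT, coreSum, Finset.sum_add_distrib, ← Finset.mul_sum]
  rw [sum_mod hp, sum_runRank hp hl]

theorem sum_eq_coreSum_add {p : ℕ} (hp : 0 < p) {l : Fin N → ℕ} (hl : Function.Injective l) :
    ∑ i, l i = coreSum p (resKey p l) + p * pWeight p l := by
  have h : ∑ i, l i = ∑ i, (l i % p + p * (l i / p)) :=
    Finset.sum_congr rfl fun i _ => (Nat.mod_add_div _ _).symm
  rw [h, Finset.sum_add_distrib, ← Finset.mul_sum, sum_mod hp, sum_div_eq hp hl, coreSum,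
    Finset.sum_add_distrib, ← Finset.mul_sum]
  ring

theorem coreT_mod {p : ℕ} (l : Fin N → ℕ) (i : Fin N) : coreT p l i % p = l i % p := by
  rw [coreT, Nat.add_mul_mod_self_left, Nat.mod_mod]

theorem coreT_injective {p : ℕ} (hp : 0 < p) {l : Fin N → ℕ} (hl : Function.Injective l) :
    Function.Injective (coreT p l) := by
  intro a b hab
  have h1 : l a % p = l b % p := by rw [← coreT_mod, hab, coreT_mod]
  have hclass : resClass p l a = resClass p l b := by simp [resClass, h1]
  have h2 : runRank p l a = runRank p l b := by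
    simp only [coreT, h1] at hab
    exact Nat.eq_of_mul_eq_mul_left hp (Nat.add_left_cancel hab)
  simp only [runRank, hclass, below] at h2
  by_contra hne
  have hb : b ∈ resClass p l b := by simp [resClass]
  have ha : a ∈ resClass p l b := by simp [resClass, h1]
  have hdiv : l a / p ≠ l b / p := fun e => hne (hl (by
    rw [← Nat.mod_add_div (l a) p, ← Nat.mod_add_div (l b) p, h1, e]))
  rcases lt_or_gt_of_ne hdiv with h | h
  · refine absurd h2 (Nat.ne_of_lt (Finset.card_lt_card ?_))
    rw [Finset.ssubset_iff_of_subset]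
    · exact ⟨a, Finset.mem_filter.2 ⟨ha, h⟩, fun hm => lt_irrefl _ (Finset.mem_filter.1 hm).2⟩
    · exact fun x hx => Finset.mem_filter.2
        ⟨(Finset.mem_filter.1 hx).1, (Finset.mem_filter.1 hx).2.trans h⟩
  · refine absurd h2.symm (Nat.ne_of_lt (Finset.card_lt_card ?_))
    rw [Finset.ssubset_iff_of_subset]
    · exact ⟨b, Finset.mem_filter.2 ⟨hb, h⟩, fun hm => lt_irrefl _ (Finset.mem_filter.1 hm).2⟩
    · exact fun x hx => Finset.mem_filter.2
        ⟨(Finset.mem_filter.1 hx).1, (Finset.mem_filter.1 hx).2.trans h⟩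

theorem resKey_congr {p : ℕ} {l m : Fin N → ℕ} (h : ∀ i, l i % p = m i % p) :
    resKey p l = resKey p m := by
  funext r
  simp [resKey, h]

theorem resKey_comp (p : ℕ) (l : Fin N → ℕ) (σ : Equiv.Perm (Fin N)) :
    resKey p (l ∘ σ) = resKey p l := by
  funext r
  exact Finset.card_equiv σ fun i => by simp

theorem inc_mod {p K : ℕ} (hK : p ∣ K) (l : Fin N → ℕ) (i x : Fin N) :
    inc l i K x % p = l x % p := by
  obtain ⟨k, rfl⟩ := hK
  by_cases h : x = i
  · subst h; simp [inc, Nat.add_mul_mod_self_left]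
  · simp [inc, h]

theorem resKey_inc {p K : ℕ} (hK : p ∣ K) (l : Fin N → ℕ) (i : Fin N) :
    resKey p (inc l i K) = resKey p l := resKey_congr (inc_mod hK l i)

/-- **Removing `p`-hooks down to the core never cancels.** -/
theorem hook_path {p : ℕ} (hp : 0 < p) (c : Multiset ℕ) : ∀ (W : ℕ) (l : Fin N → ℕ),
    Function.Injective l → pWeight p l = W →
    ∃ P : ℤ, 0 < P ∧ chiX l (Multiset.replicate W p + c) = P * chiX (coreT p l) c := by
  intro W
  induction W with
  | zero =>
    intro l hl hW
    refine ⟨1, one_pos, ?_⟩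
    have : coreT p l = l := funext fun i => by
      have h1 := runRank_le (p := p) hl i
      have h2 := (Finset.sum_eq_zero_iff.1 hW) i (Finset.mem_univ _)
      rw [coreT, show runRank p l i = l i / p by omega, Nat.mod_add_div]
    simp [this]
  | succ W ih =>
    intro l hl hW
    rw [Multiset.replicate_succ, Multiset.cons_add, chiX_cons]
    have hmove : ∀ i, p ≤ l i → Function.Injective (dec l i p) →
        ∃ P : ℤ, 0 < P ∧ chiX (dec l i p) (Multiset.replicate W p + c) =
          P * chiX (coreT p l) c := by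
      intro i hi hinj
      have hmod : ∀ x, dec l i p x % p = l x % p := fun x => by
        by_cases h : x = i
        · subst h; simp [dec, ← Nat.mod_eq_sub_mod hi]
        · simp [dec, h]
      have hdiv : dec l i p i / p + 1 = l i / p := by
        simp only [dec, Function.update_self]
        rw [Nat.div_eq_sub_div hp hi]
      have hfree : ∀ x, x ≠ i → l x % p = l i % p → l x / p + 1 ≠ l i / p := by
        intro x hx hxm he
        refine hx (hinj ?_)
        rw [← Nat.mod_add_div (dec l i p x) p, ← Nat.mod_add_div (dec l i p i) p, hmod, hmod, hxm]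
        simp only [dec, Function.update_of_ne hx]
        simp only [dec] at hdiv
        rw [show l x / p = Function.update l i (l i - p) i / p by omega]
      have hrank : ∀ x, runRank p (dec l i p) x = runRank p l x := by
        intro x
        simp only [runRank, below, resClass, hmod]
        congr 1
        ext y
        simp only [Finset.mem_filter, Finset.mem_univ, true_and, and_congr_right_iff]
        intro hy
        by_cases hxi : x = i <;> by_cases hyi : y = i
        · subst hxi hyi; simp
        · subst hxi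
          rw [dec_ne hyi]
          have := hfree y hyi hy
          omega
        · subst hyi
          rw [dec_ne hxi]
          have := hfree x hxi hy.symm
          have h2 : l x / p ≠ l y / p := fun e => hxi (hl (by
            rw [← Nat.mod_add_div (l x) p, ← Nat.mod_add_div (l y) p, hy, e]))
          omega
        · rw [dec_ne hxi, dec_ne hyi]
      have hcore : coreT p (dec l i p) = coreT p l := funext fun x => by
        rw [coreT, coreT, hmod, hrank]
      have hw : pWeight p (dec l i p) = W := by
        have h1 := sum_eq_coreSum_add hp hinj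
        have h2 := sum_eq_coreSum_add hp hl
        have h3 := sum_dec (l := l) hi
        rw [resKey_congr hmod] at h1
        rw [hW, Nat.mul_succ] at h2
        exact Nat.eq_of_mul_eq_mul_left hp (show p * pWeight p (dec l i p) = p * W by omega)
      rw [← hcore]
      exact ih _ hinj hw
    -- some bead can be moved
    obtain ⟨i₀, hi₀, hinj₀⟩ : ∃ i, p ≤ l i ∧ Function.Injective (dec l i p) := by
      obtain ⟨i, hi, hmin⟩ := Finset.exists_min_image
        ((Finset.univ : Finset (Fin N)).filter fun i => runRank p l i < l i / p) l (by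
          by_contra hne
          rw [Finset.not_nonempty_iff_eq_empty, Finset.filter_eq_empty_iff] at hne
          have : pWeight p l = 0 := Finset.sum_eq_zero fun i hi => by
            have := hne hi; omega
          omega)
      have hi' := (Finset.mem_filter.1 hi).2
      have hpi : p ≤ l i := (Nat.div_pos_iff.1 (lt_of_le_of_lt (Nat.zero_le _) hi')).2
      refine ⟨i, hpi, ?_⟩
      have hfree : ∀ x, x ≠ i → l x ≠ l i - p := by
        intro x hx he
        have hxlt : l x < l i := by omega
        have hxm : l x % p = l i % p := by rw [he, ← Nat.mod_eq_sub_mod hpi]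
        have hxd : l x / p + 1 = l i / p := by rw [he, Nat.div_eq_sub_div hp hpi]
        have hcl : resClass p l x = resClass p l i := by simp [resClass, hxm]
        have hrk : runRank p l x + 1 ≤ runRank p l i := by
          simp only [runRank, hcl, below]
          rw [← Finset.card_insert_of_notMem
            (s := (resClass p l i).filter fun j => l j / p < l x / p) (a := x) fun hm =>
            lt_irrefl _ (Finset.mem_filter.1 hm).2]
          refine Finset.card_le_card fun y hy => ?_
          rcases Finset.mem_insert.1 hy with rfl | hy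
          · exact Finset.mem_filter.2 ⟨by simp [resClass, hxm], by omega⟩
          · obtain ⟨hy1, hy2⟩ := Finset.mem_filter.1 hy
            exact Finset.mem_filter.2 ⟨hy1, by omega⟩
        have := hmin x (Finset.mem_filter.2 ⟨Finset.mem_univ _, by omega⟩)
        omega
      intro a b hab
      by_cases ha : a = i <;> by_cases hb : b = i
      · rw [ha, hb]
      · subst ha; rw [dec_self_image, dec_ne hb] at hab; exact absurd hab.symm (hfree b hb)
      · subst hb; rw [dec_self_image, dec_ne ha] at hab; exact absurd hab (hfree a ha)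
      · rw [dec_ne ha, dec_ne hb] at hab; exact hl hab
    have hall : ∀ i, ∃ Q : ℤ, 0 ≤ Q ∧ (i = i₀ → 0 < Q) ∧
        (if p ≤ l i then chiX (dec l i p) (Multiset.replicate W p + c) else 0) =
          Q * chiX (coreT p l) c := by
      intro i
      by_cases hi : p ≤ l i ∧ Function.Injective (dec l i p)
      · obtain ⟨P, hP, he⟩ := hmove i hi.1 hi.2
        exact ⟨P, hP.le, fun _ => hP, by rw [if_pos hi.1, he]⟩
      · refine ⟨0, le_rfl, fun e => absurd (e ▸ ⟨hi₀, hinj₀⟩) hi, ?_⟩
        by_cases h : p ≤ l i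
        · rw [if_pos h, chiX_eq_zero (fun h' => hi ⟨h, h'⟩)]; simp
        · rw [if_neg h]; simp
    choose Q hQ0 hQ1 hQe using hall
    refine ⟨∑ i, Q i, lt_of_lt_of_le (hQ1 i₀ rfl)
      (Finset.single_le_sum (fun i _ => hQ0 i) (Finset.mem_univ i₀)), ?_⟩
    rw [Finset.sum_mul]
    exact Finset.sum_congr rfl fun i _ => hQe i

/-! ### Emptying one runner -/

/-- An alternating function killed by all sums of moves up is zero. -/
theorem single_runner {V : Type*} [AddCommGroup V] [Module ℂ V] {q : ℕ} {u : (Fin q → ℕ) → V}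
    (hu : IsAlt u) {j : ℕ} (hj : 0 < j)
    (h : ∀ k, 0 < k → k ≤ j → ∀ t : Fin q → ℕ, ∑ a, t a = baseSum q + (j - k) →
      ∑ a, u (inc t a k) = 0)
    {t : Fin q → ℕ} (ht : ∑ a, t a = baseSum q + j) : u t = 0 := by
  have h0 : ∀ S ∈ Beta q j, u (canon q S) = 0 := by
    refine coeff_eq_zero fun c hc => ?_
    obtain ⟨hpos, hsum⟩ := mem_Parts.1 hc
    obtain ⟨k, hk⟩ := Multiset.exists_mem_of_ne_zero (s := c) (by
      rintro rfl; simp at hsum; omega)
    obtain ⟨c', rfl⟩ := Multiset.exists_cons_of_mem hk
    rw [Multiset.sum_cons] at hsum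
    rw [key_identity hu (show k ≤ j by omega)]
    refine Finset.sum_eq_zero fun T hT => ?_
    rw [h k (hpos k hk) (by omega) _ (sum_canon_of_mem hT), smul_zero]
  rw [expand hu ht]
  exact Finset.sum_eq_zero fun S hS => by rw [h0 S hS, smul_zero]

/-- The content of runner `r₀`. -/
def runSum (p r₀ : ℕ) (l : Fin N → ℕ) : ℕ :=
  ∑ i ∈ (Finset.univ : Finset (Fin N)).filter (fun i => l i % p = r₀), l i / p

theorem runSum_comp (p r₀ : ℕ) (l : Fin N → ℕ) (σ : Equiv.Perm (Fin N)) :
    runSum p r₀ (l ∘ σ) = runSum p r₀ l := by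
  refine Finset.sum_equiv σ (fun i => by simp) fun i _ => rfl

open Classical in
/-- The sets with residue counts `q` and empty runner `r₀`. -/
noncomputable def goodSets (N p n : ℕ) (q : ℕ → ℕ) (r₀ : ℕ) : Finset (Finset ℕ) :=
  (Beta N n).filter fun S => resKey p (canon N S) = q ∧ runSum p r₀ (canon N S) = baseSum (q r₀)

open Classical in
theorem mem_span_goodSets {V : Type*} [AddCommGroup V] [Module ℂ V] {v : (Fin N → ℕ) → V}
    (hv : IsAlt v) {p : ℕ} (hp : 0 < p) {r₀ : ℕ} (hr₀ : r₀ < p) {n : ℕ}
    (hrel : ∀ K, 0 < K → p ∣ K → K ≤ n → ∀ t : Fin N → ℕ, ∑ i, t i = baseSum N + (n - K) →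
      ∑ i, v (inc t i K) = 0)
    (q : ℕ → ℕ) : ∀ l : Fin N → ℕ, ∑ i, l i = baseSum N + n → resKey p l = q →
      v l ∈ Submodule.span ℂ ((fun S => v (canon N S)) '' (goodSets N p n q r₀ : Set (Finset ℕ))) := by
  suffices H : ∀ s : ℕ, ∀ l : Fin N → ℕ, runSum p r₀ l = s → ∑ i, l i = baseSum N + n →
      resKey p l = q →
      v l ∈ Submodule.span ℂ ((fun S => v (canon N S)) '' (goodSets N p n q r₀ : Set (Finset ℕ)))
    from fun l h1 h2 => H _ l rfl h1 h2
  intro s
  induction s using Nat.strong_induction_on with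
  | _ s ih =>
  intro l hs hsum hkey
  set Lo := Submodule.span ℂ
    ((fun S => v (canon N S)) '' (goodSets N p n q r₀ : Set (Finset ℕ))) with hLo
  by_cases hl : Function.Injective l
  swap
  · rw [hv.eq_zero hl]; exact Submodule.zero_mem _
  set I := (Finset.univ : Finset (Fin N)).filter (fun i => l i % p = r₀) with hI
  have hq0 : I.card = q r₀ := by rw [← hkey]; rfl
  have hdivinj : Set.InjOn (fun i => l i / p) I :=
    injOn_div hl _ r₀ fun i hi => (Finset.mem_filter.1 hi).2
  have hle : baseSum (q r₀) ≤ s := by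
    rw [← hs, ← hq0]; exact baseSum_le hdivinj
  rcases Nat.eq_or_lt_of_le hle with heq | hlt
  · -- runner zero is empty
    obtain ⟨σ, hσ⟩ := exists_canon_perm hl
    have hv' : v l = (Equiv.Perm.sign σ : ℤ) • v (canon N (Finset.univ.image l)) := by
      rw [hσ, hv l σ, smul_smul, sign_mul_self, one_smul]
    rw [hv']
    refine Submodule.smul_of_tower_mem _ _ (Submodule.subset_span ?_)
    refine Set.mem_image_of_mem _ (Finset.mem_coe.2 (Finset.mem_filter.2
      ⟨image_mem_Beta hl hsum, ?_, ?_⟩))
    · rw [hσ, resKey_comp, hkey]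
    · rw [hσ, runSum_comp, hs, heq]
  obtain ⟨j, hj, hsj⟩ : ∃ j, 0 < j ∧ s = baseSum (q r₀) + j := ⟨s - baseSum (q r₀), by omega, by omega⟩
  let e : Fin I.card ≃ {i // i ∈ I} := I.equivFin.symm
  let L : (Fin I.card → ℕ) → Fin N → ℕ := fun t i =>
    if h : i ∈ I then r₀ + p * t (e.symm ⟨i, h⟩) else l i
  have hLmem : ∀ t a, L t (e a : Fin N) = r₀ + p * t a := fun t a => by
    simp only [L, dif_pos (e a).2]; simp
  have hLnot : ∀ t i, i ∉ I → L t i = l i := fun t i hi => by simp only [L, dif_neg hi]
  have hLmod : ∀ t i, L t i % p = l i % p := fun t i => by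
    by_cases hi : i ∈ I
    · simp only [L, dif_pos hi, (Finset.mem_filter.1 hi).2, Nat.add_mul_mod_self_left,
        Nat.mod_eq_of_lt hr₀]
    · rw [hLnot t i hi]
  have hsumI : ∀ f : Fin N → ℕ, ∑ i ∈ I, f i = ∑ a, f (e a) := fun f => by
    rw [← Finset.sum_coe_sort I f]; exact (Equiv.sum_comp e fun x => f x).symm
  have hLrun : ∀ t, runSum p r₀ (L t) = ∑ a, t a := fun t => by
    have hset : (Finset.univ.filter fun i => L t i % p = r₀) = I := by simp [hI, hLmod]
    rw [runSum, hset, hsumI]
    simp [hLmem, Nat.add_mul_div_left _ _ hp, Nat.div_eq_of_lt hr₀]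
  have hIl : ∑ i ∈ I, l i = (∑ _a : Fin I.card, r₀) + p * s := by
    rw [← hs, runSum, Finset.mul_sum, hsumI, hsumI, ← Finset.sum_add_distrib]
    refine Finset.sum_congr rfl fun a _ => ?_
    conv_rhs => rw [← (Finset.mem_filter.1 (e a).2).2]
    exact (Nat.mod_add_div _ _).symm
  have hLsum : ∀ t, (∑ i, L t i) + p * s = (∑ i, l i) + p * ∑ a, t a := fun t => by
    rw [← Finset.sum_add_sum_compl I, ← Finset.sum_add_sum_compl I l, hsumI (L t), hIl,
      Finset.sum_congr rfl fun i (hi : i ∈ Iᶜ) => hLnot t i (Finset.mem_compl.1 hi),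
      Finset.mul_sum]
    simp only [hLmem, Finset.sum_add_distrib]
    show (∑ _a : Fin I.card, r₀) + (∑ a, p * t a) + (∑ i ∈ Iᶜ, l i) + p * s =
      (∑ _a : Fin I.card, r₀) + p * s + (∑ i ∈ Iᶜ, l i) + ∑ a, p * t a
    omega
  -- at most `n`
  have hpj : p * j ≤ n := by
    have hinj : Function.Injective (L fun a => (a : ℕ)) := by
      intro x y hxy
      have hxm : l x % p = l y % p := by rw [← hLmod _ x, hxy, hLmod]
      by_cases hx : x ∈ I
      · have hy : y ∈ I := Finset.mem_filter.2
          ⟨Finset.mem_univ _, by rw [← hxm, (Finset.mem_filter.1 hx).2]⟩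
        simp only [L, dif_pos hx, dif_pos hy] at hxy
        have := e.symm.injective (Fin.ext (Nat.eq_of_mul_eq_mul_left hp (Nat.add_left_cancel hxy)))
        exact congrArg Subtype.val this
      · have hy : y ∉ I := fun hy => hx (Finset.mem_filter.2
          ⟨Finset.mem_univ _, by rw [hxm, (Finset.mem_filter.1 hy).2]⟩)
        rw [hLnot _ x hx, hLnot _ y hy] at hxy
        exact hl hxy
    have h1 := baseSum_le_sum hinj
    have h2 := hLsum fun a => (a : ℕ)
    have h3 : ∑ a : Fin I.card, (a : ℕ) = baseSum (q r₀) := by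
      rw [← hq0, baseSum, ← Fin.sum_univ_eq_sum_range fun i => i]
    rw [h3, hsj, hsum, Nat.mul_add] at h2
    omega
  have hbI : baseSum I.card = baseSum (q r₀) := by rw [hq0]
  let u : (Fin I.card → ℕ) → V ⧸ Lo := fun t => Lo.mkQ (v (L t))
  have hu : IsAlt u := by
    intro t σ
    have : L (t ∘ σ) = L t ∘ ⇑(σ.extendDomain e) := by
      funext i
      by_cases hi : i ∈ I
      · obtain ⟨a, ha⟩ := e.surjective ⟨i, hi⟩
        have hia : i = (e a : Fin N) := by rw [ha]
        rw [hia, Function.comp_apply, Equiv.Perm.extendDomain_apply_image, hLmem, hLmem]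
        rfl
      · rw [hLnot _ i hi, Function.comp_apply, Equiv.Perm.extendDomain_apply_not_subtype _ _ hi,
          hLnot _ i hi]
    show Lo.mkQ (v (L (t ∘ σ))) = _
    rw [this, hv, Equiv.Perm.sign_extendDomain, map_zsmul]
  have h0 : u (fun a => l (e a) / p) = 0 := by
    refine single_runner (t := fun a => l (e a) / p) hu hj ?_ ?_
    · intro k hk hkj t ht
      have hK : p * k ≤ n := le_trans (Nat.mul_le_mul_left p hkj) hpj
      have hts : ∑ i, L t i = baseSum N + (n - p * k) := by
        have h2 := hLsum t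
        rw [hbI] at ht
        obtain ⟨d, rfl⟩ := Nat.exists_eq_add_of_le hkj
        rw [ht, hsj, hsum, Nat.mul_add, Nat.mul_add, Nat.mul_add, Nat.add_sub_cancel_left] at h2
        omega
      have hrel' := hrel (p * k) (Nat.mul_pos hp hk) ⟨k, rfl⟩ hK (L t) hts
      rw [← Finset.sum_add_sum_compl I] at hrel'
      have hrest : ∑ i ∈ Iᶜ, v (inc (L t) i (p * k)) ∈ Lo := by
        refine Submodule.sum_mem _ fun i hi => ih (∑ a, t a) (by rw [hsj, ht, hbI]; omega) _ ?_ ?_ ?_
        · have hset : (Finset.univ.filter fun x => inc (L t) i (p * k) x % p = r₀) = I := by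
            simp [hI, inc_mod ⟨k, rfl⟩, hLmod]
          rw [← hLrun t, runSum, runSum, hset,
            show (Finset.univ.filter fun x => L t x % p = r₀) = I by simp [hI, hLmod]]
          refine Finset.sum_congr rfl fun x hx => ?_
          have : x ≠ i := fun e => Finset.mem_compl.1 hi (e ▸ hx)
          simp [inc, this]
        · rw [sum_inc, hts]; omega
        · rw [resKey_inc ⟨k, rfl⟩, resKey_congr (hLmod t), hkey]
      have hI' : ∑ i ∈ I, v (inc (L t) i (p * k)) = ∑ a, v (L (inc t a k)) := by
        rw [← Finset.sum_coe_sort I, ← Equiv.sum_comp e]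
        refine Finset.sum_congr rfl fun a _ => congrArg v ?_
        funext i
        by_cases hi : i ∈ I
        · obtain ⟨b, hb⟩ := e.surjective ⟨i, hi⟩
          have hib : i = (e b : Fin N) := by rw [hb]
          rw [hib]
          by_cases hba : b = a
          · subst hba; simp [inc, hLmem, Nat.mul_add, Nat.add_assoc]
          · have hne : (e b : Fin N) ≠ (e a : Fin N) := fun h => hba (e.injective (Subtype.ext h))
            simp [inc, hLmem, hba, hne]
        · have hne : i ≠ (e a : Fin N) := fun h => hi (h ▸ (e a).2)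
          simp [inc, hLnot _ _ hi, hne]
      show ∑ a, Lo.mkQ (v (L (inc t a k))) = 0
      rw [← map_sum, ← hI', Submodule.mkQ_apply, Submodule.Quotient.mk_eq_zero,
        eq_neg_of_add_eq_zero_left hrel']
      exact Lo.neg_mem hrest
    · rw [hbI, ← hsj, ← hs, runSum, hsumI]
  have hLl : L (fun a => l (e a) / p) = l := funext fun i => by
    by_cases hi : i ∈ I
    · simp only [L, dif_pos hi, Equiv.apply_symm_apply]
      conv_lhs => arg 1; rw [← (Finset.mem_filter.1 hi).2]
      exact Nat.mod_add_div _ _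
    · exact hLnot (fun a => l (e a) / p) i hi
  simp only [u, hLl, Submodule.mkQ_apply, Submodule.Quotient.mk_eq_zero] at h0
  exact h0

/-! ### Counting -/

/-- Families of runner sets of total weight `w`. -/
def runFam : (m : ℕ) → (Fin m → ℕ) → ℕ → Finset (Fin m → Finset ℕ)
  | 0, _, w => if w = 0 then {fun i => i.elim0} else ∅
  | m + 1, q, w => (Finset.range (w + 1)).biUnion fun j =>
      (Beta (q 0) j ×ˢ runFam m (q ∘ Fin.succ) (w - j)).image fun x => Fin.cons x.1 x.2

theorem mem_runFam : ∀ {m : ℕ} {q : Fin m → ℕ} {w : ℕ} {g : Fin m → Finset ℕ} (j : Fin m → ℕ),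
    (∀ r, g r ∈ Beta (q r) (j r)) → ∑ r, j r = w → g ∈ runFam m q w := by
  intro m
  induction m with
  | zero =>
    intro q w g j _ hw
    simp only [Finset.univ_eq_empty, Finset.sum_empty] at hw
    subst hw
    simp [runFam, funext_iff]
  | succ m ih =>
    intro q w g j hg hw
    rw [Fin.sum_univ_succ] at hw
    rw [runFam, Finset.mem_biUnion]
    refine ⟨j 0, Finset.mem_range.2 (by omega), Finset.mem_image.2
      ⟨(g 0, g ∘ Fin.succ), Finset.mem_product.2 ⟨hg 0, ih (j ∘ Fin.succ) (fun r => hg r.succ) ?_⟩,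
        Fin.cons_self_tail g⟩⟩
    simp only [Function.comp_apply]
    omega

theorem card_Beta_le_pow (m j : ℕ) : (Beta m j).card ≤ 2 ^ (j - 1) :=
  calc (Beta m j).card ≤ (Parts j).card := card_Beta_le m j
    _ ≤ Fintype.card (Nat.Partition j) := card_Parts_le j
    _ ≤ Fintype.card (Composition j) :=
        Fintype.card_le_of_surjective _ Nat.Partition.ofComposition_surj
    _ = 2 ^ (j - 1) := composition_card j

/-- The number of compositions of `w` in `m` colours. -/
def colComp (m w : ℕ) : ℕ := if w = 0 then 1 else m * (m + 1) ^ (w - 1)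

theorem colComp_lt (m w : ℕ) (hw : 0 < w) : colComp m w < (m + 1) ^ w := by
  rw [colComp, if_neg hw.ne']
  calc m * (m + 1) ^ (w - 1) < (m + 1) * (m + 1) ^ (w - 1) :=
        (Nat.mul_lt_mul_right (Nat.pow_pos (by omega))).2 (by omega)
    _ = (m + 1) ^ w := by rw [← pow_succ', Nat.sub_add_cancel hw]

theorem card_runFam_le : ∀ (m : ℕ) (q : Fin m → ℕ) (w : ℕ),
    (runFam m q w).card ≤ colComp m w := by
  intro m
  induction m with
  | zero => intro q w; by_cases hw : w = 0 <;> simp [runFam, colComp, hw]
  | succ m ih =>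
    intro q w
    have h1 : (runFam (m + 1) q w).card ≤
        ∑ j ∈ Finset.range (w + 1), 2 ^ (j - 1) * colComp m (w - j) := by
      rw [runFam]
      refine le_trans Finset.card_biUnion_le (Finset.sum_le_sum fun j _ => ?_)
      exact le_trans Finset.card_image_le (by
        rw [Finset.card_product]; exact Nat.mul_le_mul (card_Beta_le_pow _ _) (ih _ _))
    refine h1.trans ?_
    rcases Nat.eq_zero_or_pos w with rfl | hw
    · simp [colComp]
    obtain ⟨v, rfl⟩ : ∃ v, w = v + 1 := ⟨w - 1, by omega⟩
    rw [Finset.sum_range_succ', Finset.sum_range_succ]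
    have hgeom : ∀ v : ℕ,
        (∑ i ∈ Finset.range v, (m + 1 + 1) ^ i * (m * (m + 1) ^ (v - (i + 1)))) + m * (m + 1) ^ v +
          (m + 1 + 1) ^ v = (m + 1) * (m + 1 + 1) ^ v := by
      intro v
      induction v with
      | zero => simp
      | succ v ihv =>
        rw [Finset.sum_range_succ, Nat.sub_self, pow_zero, mul_one,
          Finset.sum_congr rfl fun i hi =>
            show (m + 1 + 1) ^ i * (m * (m + 1) ^ (v + 1 - (i + 1))) =
              (m + 1 + 1) ^ i * (m * (m + 1) ^ (v - (i + 1))) * (m + 1) by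
            rw [mul_assoc, mul_assoc, ← pow_succ]
            congr 3
            have := Finset.mem_range.1 hi
            omega,
          ← Finset.sum_mul]
        have := congrArg (fun x => x * (m + 1)) ihv
        simp only [pow_succ] at this ⊢
        linarith
    have hstep : ∀ i ∈ Finset.range v, 2 ^ (i + 1 - 1) * colComp m (v + 1 - (i + 1)) ≤
        (m + 1 + 1) ^ i * (m * (m + 1) ^ (v - (i + 1))) := by
      intro i hi
      have := Finset.mem_range.1 hi
      rw [colComp, if_neg (by omega), Nat.add_sub_cancel, show v + 1 - (i + 1) - 1 = v - (i + 1) by omega]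
      exact Nat.mul_le_mul_right _ (Nat.pow_le_pow_left (by omega) i)
    have := Finset.sum_le_sum hstep
    have := Nat.pow_le_pow_left (show 2 ≤ m + 1 + 1 by omega) v
    simp only [colComp, Nat.add_sub_cancel, Nat.sub_self, if_true, mul_one, Nat.sub_zero,
      Nat.add_eq_zero_iff, one_ne_zero, and_false, if_false, pow_zero, Nat.zero_sub,
      one_mul] at *
    linarith [hgeom v]

/-- Runner `r` of a set. -/
def runner (p : ℕ) (S : Finset ℕ) (r : ℕ) : Finset ℕ :=
  (S.filter fun x => x % p = r).image fun x => x / p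

theorem runner_facts {p r : ℕ} {S : Finset ℕ} (hS : S.card = N) :
    (runner p S r).card = resKey p (canon N S) r ∧
      ∑ x ∈ runner p S r, x =
        ∑ i ∈ Finset.univ.filter (fun i => canon N S i % p = r), canon N S i / p := by
  classical
  have hinj := canon_injective hS
  have hset : runner p S r =
      (Finset.univ.filter fun i => canon N S i % p = r).image fun i => canon N S i / p := by
    conv_lhs => rw [runner, ← image_canon hS, Finset.filter_image, Finset.image_image]
    rfl
  have hd := injOn_div hinj _ r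
    (fun i (hi : i ∈ Finset.univ.filter fun i => canon N S i % p = r) => (Finset.mem_filter.1 hi).2)
  exact ⟨by rw [hset, Finset.card_image_of_injOn hd]; rfl,
    by rw [hset, Finset.sum_image hd]⟩

/-- The weight attached to the residue counts. -/
def keyWeight (N p n : ℕ) (q : ℕ → ℕ) : ℕ := (baseSum N + n - coreSum p q) / p

theorem keyWeight_eq {p n : ℕ} (hp : 0 < p) {l : Fin N → ℕ} (hl : Function.Injective l)
    (hsum : ∑ i, l i = baseSum N + n) : keyWeight N p n (resKey p l) = pWeight p l := by
  rw [keyWeight, ← hsum, sum_eq_coreSum_add hp hl, Nat.add_sub_cancel_left,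
    Nat.mul_div_cancel_left _ hp]

theorem sum_div_runner {p : ℕ} (hp : 0 < p) {S : Finset ℕ} (hS : S.card = N) :
    ∑ i, canon N S i / p = ∑ r ∈ Finset.range p, ∑ x ∈ runner p S r, x := by
  rw [← Finset.sum_fiberwise_of_maps_to (g := fun i => canon N S i % p)
    (t := Finset.range p) fun i _ => Finset.mem_range.2 (Nat.mod_lt _ hp)]
  exact Finset.sum_congr rfl fun r _ => (runner_facts hS).2.symm

theorem baseSum_le_runner {p r n : ℕ} {q : ℕ → ℕ} {S : Finset ℕ} (hS : S ∈ Beta N n)
    (hkey : resKey p (canon N S) = q) :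
    (runner p S r).card = q r ∧ baseSum (q r) ≤ ∑ x ∈ runner p S r, x := by
  obtain ⟨hc, -⟩ := runner_facts (p := p) (r := r) (mem_Beta.1 hS).1
  rw [hkey] at hc
  exact ⟨hc, hc ▸ baseSum_le (g := fun x => x) (Function.injective_id.injOn)⟩

theorem eq_range_of_sum {R : Finset ℕ} {k : ℕ} (hc : R.card = k) (hs : ∑ x ∈ R, x = baseSum k) :
    R = Finset.range k := by
  obtain ⟨σ, hσ⟩ := exists_perm_of_base (canon_injective hc) (by rw [sum_canon hc, hs])
  refine Finset.eq_of_subset_of_card_le (fun x hx => ?_) (by rw [hc, Finset.card_range])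
  rw [← image_canon hc, hσ] at hx
  obtain ⟨a, -, rfl⟩ := Finset.mem_image.1 hx
  exact Finset.mem_range.2 (σ a).isLt

theorem ext_of_runner {p : ℕ} (hp : 0 < p) {S T : Finset ℕ}
    (h : ∀ r, r < p → runner p S r = runner p T r) : S = T := by
  ext x
  have hx : ∀ U : Finset ℕ, x ∈ U ↔ x / p ∈ runner p U (x % p) := fun U => by
    constructor
    · intro hx; exact Finset.mem_image_of_mem _ (Finset.mem_filter.2 ⟨hx, rfl⟩)
    · intro hx
      obtain ⟨y, hy, he⟩ := Finset.mem_image.1 hx
      obtain ⟨hy1, hy2⟩ := Finset.mem_filter.1 hy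
      rwa [← Nat.mod_add_div x p, ← he, ← hy2, Nat.mod_add_div]
  rw [hx S, hx T, h _ (Nat.mod_lt _ hp)]

/-- The total weight on the runners. -/
theorem sum_runner_weight {p n : ℕ} (hp : 0 < p) {q : ℕ → ℕ} {S : Finset ℕ} (hS : S ∈ Beta N n)
    (hkey : resKey p (canon N S) = q) :
    ∑ r ∈ Finset.range p, ((∑ x ∈ runner p S r, x) - baseSum (q r)) = keyWeight N p n q := by
  have hinj := canon_injective (mem_Beta.1 hS).1
  have hd := sum_div_eq hp hinj
  rw [← keyWeight_eq hp hinj (sum_canon_of_mem hS), hkey, sum_div_runner hp (mem_Beta.1 hS).1] at hd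
  rw [Finset.sum_tsub_distrib _ fun r _ => (baseSum_le_runner hS hkey).2]
  omega

theorem card_goodSets_le {p : ℕ} (hp : 0 < p) (n : ℕ) (q : ℕ → ℕ) {r₀ : ℕ} (hr₀ : r₀ < p) :
    (goodSets N p n q r₀).card ≤ colComp (p - 1) (keyWeight N p n q) := by
  classical
  obtain ⟨m, rfl⟩ : ∃ m, p = m + 1 := ⟨p - 1, by omega⟩
  rw [Nat.add_sub_cancel]
  set ρ : Fin (m + 1) := ⟨r₀, hr₀⟩
  have hrun : ∀ S ∈ goodSets N (m + 1) n q r₀, ∑ x ∈ runner (m + 1) S r₀, x = baseSum (q r₀) := by
    intro S hS
    obtain ⟨hB, -, hr⟩ := Finset.mem_filter.1 hS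
    rw [(runner_facts (mem_Beta.1 hB).1).2, ← hr]
    rfl
  refine (Finset.card_le_card_of_injOn
    (fun S (r : Fin m) => runner (m + 1) S (ρ.succAbove r : ℕ)) ?_ ?_).trans
    (card_runFam_le m (fun r => q (ρ.succAbove r : ℕ)) (keyWeight N (m + 1) n q))
  · intro S hS
    obtain ⟨hB, hkey, -⟩ := Finset.mem_filter.1 hS
    refine mem_runFam (fun r => (∑ x ∈ runner (m + 1) S (ρ.succAbove r : ℕ), x) -
      baseSum (q (ρ.succAbove r : ℕ))) (fun r => ?_) ?_
    · obtain ⟨hc, hle⟩ := baseSum_le_runner (r := (ρ.succAbove r : ℕ)) hB hkey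
      exact mem_Beta.2 ⟨hc, show (∑ x ∈ runner (m + 1) S (ρ.succAbove r : ℕ), x) = _ by omega⟩
    · have hw := sum_runner_weight hp hB hkey
      rw [← Fin.sum_univ_eq_sum_range (fun r => (∑ x ∈ runner (m + 1) S r, x) - baseSum (q r)),
        Fin.sum_univ_succAbove _ ρ] at hw
      simp only [ρ, hrun S hS, Nat.sub_self, zero_add] at hw
      exact hw
  · intro S hS T hT h
    obtain ⟨hBS, hkS, -⟩ := Finset.mem_filter.1 hS
    obtain ⟨hBT, hkT, -⟩ := Finset.mem_filter.1 hT
    refine ext_of_runner hp fun r hr => ?_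
    rcases eq_or_ne r r₀ with rfl | hne
    · rw [eq_range_of_sum (baseSum_le_runner hBS hkS).1 (hrun S hS),
        eq_range_of_sum (baseSum_le_runner hBT hkT).1 (hrun T hT)]
    · obtain ⟨i, hi⟩ := Fin.exists_succAbove_eq (x := (⟨r, hr⟩ : Fin (m + 1))) (y := ρ)
        (fun e => hne (congrArg Fin.val e))
      have := congrFun h i
      have hv : (ρ.succAbove i : ℕ) = r := by rw [hi]
      simp only [hv] at this
      exact this

theorem card_goodSets {p : ℕ} (hp : 0 < p) (n : ℕ) (q : ℕ → ℕ) {r₀ : ℕ} (hr₀ : r₀ < p) :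
    (goodSets N p n q r₀).card <
      p ^ keyWeight N p n q + (if keyWeight N p n q = 0 then 1 else 0) := by
  refine lt_of_le_of_lt (card_goodSets_le hp n q hr₀) ?_
  by_cases hw : keyWeight N p n q = 0
  · simp [colComp, hw]
  · rw [if_neg hw, add_zero]
    have := colComp_lt (p - 1) _ (Nat.pos_of_ne_zero hw)
    rwa [Nat.sub_add_cancel hp] at this

end Cfsg.Agent.SymChar
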