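import Cfsg.Agent.Lib.SymChar.Characters
import Cfsg.Agent.Lib.SymChar.Runner
import Cfsg.Agent.Lib.Blocks.DefectValues
import Cfsg.Prelude.Def_BlockRank
import Cfsg.Prelude.Def_CaseTheorems
import Mathlib.GroupTheory.Perm.Cycle.Type

/-!
# Blocks of symmetric groups: residue counts, rank bound, defect groups

A block consists of characters with one set of residue counts (the easy half of the Nakayama
conjecture), its `p`-regular rank is at most the number of multipartitions with `p - 1`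
components, and its defect group contains the rotations of `w` disjoint `p`-cycles.
-/

namespace Cfsg.Agent.SymChar

open Finset Equiv Cfsg
open scoped ComplexConjugate

set_option linter.style.haveILetI false
set_option linter.unusedSectionVars false

variable {N n : ℕ}

theorem exists_mem_dvd_of_dvd_lcm {p : ℕ} (hp : p.Prime) :
    ∀ s : Multiset ℕ, p ∣ s.lcm → ∃ a ∈ s, p ∣ a := by
  intro s
  induction s using Multiset.induction_on with
  | empty => intro h; simp at h; exact absurd h hp.ne_one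
  | cons a s ih =>
    intro h
    rw [Multiset.lcm_cons, lcm_eq_nat_lcm] at h
    rcases hp.dvd_mul.1 (h.trans (Nat.lcm_dvd_mul _ _)) with h1 | h1
    · exact ⟨a, Multiset.mem_cons_self _ _, h1⟩
    · obtain ⟨b, hb, hb'⟩ := ih h1
      exact ⟨b, Multiset.mem_cons_of_mem hb, hb'⟩

theorem not_dvd_of_regular {p : ℕ} (hp : p.Prime) {σ : Equiv.Perm (Fin n)}
    (hσ : IsPRegular p σ) {k : ℕ} (hk : k ∈ cycParts σ) : ¬ p ∣ k := by
  intro hpk
  rw [cycParts_eq, Multiset.mem_add] at hk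
  rcases hk with h | h
  · exact hσ (hpk.trans (Equiv.Perm.dvd_of_mem_cycleType h))
  · rw [Multiset.eq_of_mem_replicate h] at hpk
    exact hp.ne_one (Nat.dvd_one.1 hpk)

theorem exists_part_of_singular {p : ℕ} (hp : p.Prime) {σ : Equiv.Perm (Fin n)}
    (hσ : ¬ IsPRegular p σ) : ∃ k ∈ cycParts σ, p ∣ k := by
  rw [IsPRegular, not_not, ← Equiv.Perm.lcm_cycleType] at hσ
  obtain ⟨a, ha, hpa⟩ := exists_mem_dvd_of_dvd_lcm hp _ hσ
  exact ⟨a, by rw [cycParts_eq]; exact Multiset.mem_add.2 (Or.inl ha), hpa⟩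

/-- The sum of all moves up by `k` vanishes off the classes with a part `k`. -/
theorem sum_inc_chiX (hN : n ≤ N) {x : Multiset ℕ} (hx : x ∈ Parts n) {k : ℕ} (hk : 0 < k)
    (hkn : k ≤ n) (hkx : k ∉ x) {t : Fin N → ℕ} (ht : ∑ i, t i = baseSum N + (n - k)) :
    ∑ i, (chiX (inc t i k) x : ℂ) = 0 := by
  classical
  have h0 : ∀ T ∈ Beta N (n - k), ∑ i, (chiX (inc (canon N T) i k) x : ℂ) = 0 := by
    refine coeff_eq_zero (u := fun T => ∑ i, (chiX (inc (canon N T) i k) x : ℂ)) fun c hc => ?_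
    rw [← key_identity (isAlt_chiX x) hkn c]
    simp only [smul_eq_mul]
    obtain ⟨hpos, hsum⟩ := mem_Parts.1 hc
    refine sum_column hN (mem_Parts.2 ⟨fun a ha => ?_, ?_⟩) hx fun e => hkx (e ▸ Multiset.mem_cons_self k c)
    · rcases Multiset.mem_cons.1 ha with rfl | h
      · exact hk
      · exact hpos a h
    · rw [Multiset.sum_cons, hsum]; omega
  have halt : IsAlt fun l : Fin N → ℕ => ∑ i, (chiX (inc l i k) x : ℂ) := fun l σ => by
    simp only [inc_comp, chiX_comp, zsmul_eq_mul, Finset.mul_sum]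
    rw [← Equiv.sum_comp σ fun i => ((Equiv.Perm.sign σ : ℤ) : ℂ) * (chiX (inc l i k) x : ℂ)]
    exact Finset.sum_congr rfl fun i _ => by push_cast; rfl
  have h1 := expand halt ht
  rw [h1]
  exact Finset.sum_eq_zero fun T hT => by rw [h0 T hT, smul_zero]

/-- The characters with given residue counts. -/
def keySet (p N n : ℕ) (q : ℕ → ℕ) : Set (IrrCharacter (Equiv.Perm (Fin n))) :=
  {χ | ∃ S, ∃ hS : S ∈ Beta N n, χ = irrOf S hS ∧ resKey p (canon N S) = q}

open Classical in
theorem weak_orth_keySet {p : ℕ} (hp : p.Prime) (hN : n ≤ N) (q : ℕ → ℕ)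
    {x y : Equiv.Perm (Fin n)} (hx : IsPRegular p x) (hy : ¬ IsPRegular p y) :
    ∑ χ ∈ Finset.univ.filter (· ∈ keySet p N n q), χ.1 x * conj (χ.1 y) = 0 := by
  obtain ⟨k, hk, hpk⟩ := exists_part_of_singular hp hy
  obtain ⟨c, hc⟩ := Multiset.exists_cons_of_mem hk
  have hkx : k ∉ cycParts x := fun h => not_dvd_of_regular hp hx h hpk
  have hkn : k ≤ n := (mem_Parts.1 (cycParts_mem y)).2 ▸ Multiset.le_sum_of_mem hk
  have hk0 : 0 < k := (mem_Parts.1 (cycParts_mem y)).1 k hk
  let u : (Fin N → ℕ) → ℂ := fun l => if resKey p l = q then (chiX l (cycParts x) : ℂ) else 0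
  have hu : IsAlt u := fun l σ => by
    simp only [u, resKey_comp]
    split_ifs with h
    · exact isAlt_chiX _ l σ
    · simp
  have key := key_identity hu hkn c
  rw [Finset.sum_eq_zero (s := Beta N (n - k)) fun T hT => ?_] at key
  swap
  · simp only [u, resKey_inc hpk]
    by_cases h : resKey p (canon N T) = q
    · simp only [h, if_true]
      rw [sum_inc_chiX hN (cycParts_mem x) hk0 hkn hkx (sum_canon_of_mem hT), smul_zero]
    · simp [h]
  rw [← key]
  symm
  rw [← Finset.sum_filter_add_sum_filter_not (Beta N n) (fun S => resKey p (canon N S) = q),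
    Finset.sum_eq_zero (s := (Beta N n).filter fun S => ¬ resKey p (canon N S) = q) fun S hS => by
      simp [u, (Finset.mem_filter.1 hS).2], add_zero]
  refine Finset.sum_bij (fun S hS => irrOf S (Finset.mem_filter.1 hS).1) ?_ ?_ ?_ ?_
  · intro S hS
    exact Finset.mem_filter.2 ⟨Finset.mem_univ _, S, _, rfl, (Finset.mem_filter.1 hS).2⟩
  · intro a ha b hb h
    exact irrOf_injective _ _ h
  · intro χ hχ
    obtain ⟨S, hS, rfl, hq⟩ := (Finset.mem_filter.1 hχ).2
    exact ⟨S, Finset.mem_filter.2 ⟨hS, hq⟩, rfl⟩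
  · intro S hS
    obtain ⟨hS', hq⟩ := Finset.mem_filter.1 hS
    obtain ⟨ε, hε, hv⟩ := irrOf_spec hS'
    have hε' : (ε : ℂ) * ε = 1 := by exact_mod_cast hε
    simp only [u, if_pos hq, hv, map_mul, map_intCast, smul_eq_mul]
    rw [← hc]
    linear_combination (-(chiX (canon N S) (cycParts x) : ℂ) * chiX (canon N S) (cycParts y)) * hε'

theorem exists_key_of_block {p : ℕ} [hp : Fact p.Prime] (hN : n ≤ N) {M : Ideal AlgInt}
    [M.IsMaximal] (hpM : (p : AlgInt) ∈ M) {B : Set (IrrCharacter (Equiv.Perm (Fin n)))}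
    (hB : IsPBlock M B) : ∃ q : ℕ → ℕ, B ⊆ keySet p N n q := by
  classical
  obtain ⟨χ, hχ⟩ := Blocks.block_nonempty hB
  obtain ⟨S, hS, rfl⟩ := exists_irrOf hN χ
  refine ⟨resKey p (canon N S), ?_⟩
  rw [Blocks.block_eq hB hχ]
  exact Blocks.blockOf_subset_of_scoeff
    (Blocks.scoeff_of_weak_orthogonality hpM _ fun x y hx hy => weak_orth_keySet hp.out hN _ hx hy)
    ⟨S, hS, rfl, rfl⟩

theorem blockRank_le {p : ℕ} [hp : Fact p.Prime] (hN : n ≤ N) (q : ℕ → ℕ)
    {B : Set (IrrCharacter (Equiv.Perm (Fin n)))} (hB : B ⊆ keySet p N n q) :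
    blockRank p B ≤ (goodSets N p n q 0).card := by
  classical
  let v : (Fin N → ℕ) → (Equiv.Perm (Fin n) → ℂ) := fun l => pRegularPart p (symFun n l)
  have hv : IsAlt v := fun l σ => by
    funext g
    simp only [v, pRegularPart, symFun, Pi.smul_apply, chiX_comp, zsmul_eq_mul]
    by_cases hg : IsPRegular p g <;> simp [hg]
  have hrel : ∀ K, 0 < K → p ∣ K → K ≤ n → ∀ t : Fin N → ℕ,
      ∑ i, t i = baseSum N + (n - K) → ∑ i, v (inc t i K) = 0 := by
    intro K hK hpK hKn t ht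
    funext g
    simp only [v, Finset.sum_apply, pRegularPart, symFun, Pi.zero_apply]
    by_cases hg : IsPRegular p g
    · simp only [hg, if_true]
      exact sum_inc_chiX hN (cycParts_mem g) hK hKn
        (fun h => not_dvd_of_regular hp.out hg h hpK) ht
    · simp [hg]
  set F : Finset (Equiv.Perm (Fin n) → ℂ) :=
    (goodSets N p n q 0).image fun S => v (canon N S) with hF
  suffices hle : Submodule.span ℂ
      ((fun χ : IrrCharacter (Equiv.Perm (Fin n)) => pRegularPart p (χ.1)) '' B) ≤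
      Submodule.span ℂ (F : Set (Equiv.Perm (Fin n) → ℂ)) by
    have h2 : Module.finrank ℂ (Submodule.span ℂ (F : Set (Equiv.Perm (Fin n) → ℂ))) ≤ F.card :=
      finrank_span_finset_le_card F
    exact (Submodule.finrank_mono hle).trans (h2.trans Finset.card_image_le)
  rw [Submodule.span_le]
  rintro _ ⟨χ, hχ, rfl⟩
  obtain ⟨S, hS, rfl, hq⟩ := hB hχ
  obtain ⟨ε, -, hε⟩ := irrOf_spec hS
  have : pRegularPart p ((irrOf S hS).1) = (ε : ℂ) • v (canon N S) := by
    funext g
    simp only [v, pRegularPart, symFun, Pi.smul_apply, smul_eq_mul, hε]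
    by_cases hg : IsPRegular p g <;> simp [hg]
  show pRegularPart p ((irrOf S hS).1) ∈ _
  rw [this]
  refine Submodule.smul_mem _ _ (Submodule.span_mono ?_
    (mem_span_goodSets hv hp.out.pos hp.out.pos hrel q _ (sum_canon_of_mem hS) hq))
  rintro _ ⟨T, hT, rfl⟩
  exact Finset.mem_coe.2 (Finset.mem_image.2 ⟨T, Finset.mem_coe.1 hT, rfl⟩)

/-! ### Rotations of the cycles of a permutation -/

/-- The permutations commuting with `x` and fixing all its orbits. -/
def rotGroup (x : Equiv.Perm (Fin n)) : Subgroup (Equiv.Perm (Fin n)) where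
  carrier := {σ | Commute σ x ∧ ∀ a, x.SameCycle a (σ a)}
  mul_mem' := fun {σ τ} hσ hτ =>
    ⟨hσ.1.mul_left hτ.1, fun a => (hτ.2 a).trans (hσ.2 (τ a))⟩
  one_mem' := ⟨Commute.one_left x, fun a => Equiv.Perm.SameCycle.refl x a⟩
  inv_mem' := fun {σ} hσ => ⟨hσ.1.inv_left, fun a => by
    have h := hσ.2 (σ⁻¹ a)
    rw [show σ (σ⁻¹ a) = a by simp] at h
    exact h.symm⟩

theorem mem_rotGroup {x σ : Equiv.Perm (Fin n)} :
    σ ∈ rotGroup x ↔ Commute σ x ∧ ∀ a, x.SameCycle a (σ a) := Iff.rfl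

theorem conj_mem_rotGroup {x g σ : Equiv.Perm (Fin n)} (hg : Commute g x) (hσ : σ ∈ rotGroup x) :
    g * σ * g⁻¹ ∈ rotGroup x := by
  refine ⟨(hg.mul_left hσ.1).mul_left hg.inv_left, fun a => ?_⟩
  obtain ⟨i, hi⟩ := hσ.2 (g⁻¹ a)
  refine ⟨i, ?_⟩
  have hc : Commute g (x ^ i) := hg.zpow_right i
  calc (x ^ i) a = ((x ^ i) * g) (g⁻¹ a) := by simp
    _ = (g * (x ^ i)) (g⁻¹ a) := by rw [hc.eq]
    _ = (g * σ * g⁻¹) a := by simp only [Equiv.Perm.mul_apply]; rw [hi]

theorem commute_of_mem_rotGroup {x σ τ : Equiv.Perm (Fin n)} (hσ : σ ∈ rotGroup x)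
    (hτ : τ ∈ rotGroup x) : Commute σ τ := by
  refine Equiv.ext fun a => ?_
  obtain ⟨i, hi⟩ := hσ.2 a
  obtain ⟨j, hj⟩ := hτ.2 a
  have h1 : σ ((x ^ j) a) = (x ^ j) (σ a) := by
    rw [← Equiv.Perm.mul_apply, (hσ.1.zpow_right j).eq, Equiv.Perm.mul_apply]
  have h2 : τ ((x ^ i) a) = (x ^ i) (τ a) := by
    rw [← Equiv.Perm.mul_apply, (hτ.1.zpow_right i).eq, Equiv.Perm.mul_apply]
  simp only [Equiv.Perm.mul_apply]
  rw [← hj, h1, ← hi, h2, ← hj, ← Equiv.Perm.mul_apply, ← Equiv.Perm.mul_apply,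
    ← zpow_add, ← zpow_add, add_comm]

theorem pow_eq_one_of_mem_rotGroup {x σ : Equiv.Perm (Fin n)} {p : ℕ} (hx : x ^ p = 1)
    (hσ : σ ∈ rotGroup x) : σ ^ p = 1 := by
  refine Equiv.ext fun a => ?_
  obtain ⟨i, hi⟩ := hσ.2 a
  have key : ∀ k : ℕ, (σ ^ k) a = ((x ^ i) ^ k) a := by
    intro k
    induction k with
    | zero => simp
    | succ k ih =>
      rw [pow_succ', Equiv.Perm.mul_apply, ih]
      have hc : Commute σ ((x ^ i) ^ k) := (hσ.1.zpow_right i).pow_right k
      rw [← Equiv.Perm.mul_apply, hc.eq, Equiv.Perm.mul_apply, ← hi, ← Equiv.Perm.mul_apply,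
        ← pow_succ]
  rw [key p, ← zpow_natCast, ← zpow_mul, mul_comm, zpow_mul, zpow_natCast, hx, one_zpow]

theorem card_rotGroup {p : ℕ} (hp : p.Prime) {x : Equiv.Perm (Fin n)} (hx : x ^ p = 1) :
    p ^ x.cycleFactorsFinset.card ≤ Nat.card (rotGroup x) := by
  classical
  let e : ({c // c ∈ x.cycleFactorsFinset} → Fin p) → Fin n → ℕ := fun v a =>
    if h : x a = a then 0
    else (v ⟨x.cycleOf a,
      Equiv.Perm.cycleOf_mem_cycleFactorsFinset_iff.2 (Equiv.Perm.mem_support.2 h)⟩ : ℕ)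
  have hsame : ∀ v {a b}, x.SameCycle a b → e v a = e v b := by
    intro v a b hab
    by_cases ha : x a = a
    · rw [(Equiv.Perm.SameCycle.eq_of_left hab ha)]
    · have hb : ¬ x b = b := fun hb => ha (by
        rw [(Equiv.Perm.SameCycle.eq_of_right hab hb)]; exact hb)
      simp only [e, dif_neg ha, dif_neg hb]
      congr 2
      exact Subtype.ext hab.cycleOf_eq
  have hinj : ∀ v, Function.Injective fun a => (x ^ e v a) a := by
    intro v a b h
    have h1 : x.SameCycle a b :=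
      Equiv.Perm.SameCycle.trans (show x.SameCycle a ((x ^ e v a) a) from ⟨(e v a : ℤ), by simp⟩)
        (Equiv.Perm.SameCycle.symm ⟨(e v b : ℤ), by simp only [zpow_natCast]; exact h.symm⟩)
    simp only [hsame v h1] at h
    exact (x ^ e v b).injective h
  let rot : ({c // c ∈ x.cycleFactorsFinset} → Fin p) → Equiv.Perm (Fin n) := fun v =>
    Equiv.ofBijective _ (Finite.injective_iff_bijective.1 (hinj v))
  have hrot : ∀ v a, rot v a = (x ^ e v a) a := fun _ _ => rfl
  have hmem : ∀ v, rot v ∈ rotGroup x := by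
    intro v
    refine ⟨Equiv.ext fun a => ?_, fun a => ⟨(e v a : ℤ), by simp [hrot]⟩⟩
    have h1 : e v (x a) = e v a := hsame v (Equiv.Perm.SameCycle.symm ⟨1, by simp⟩)
    simp only [Equiv.Perm.mul_apply, hrot, h1]
    rw [← Equiv.Perm.mul_apply, ← pow_succ, pow_succ', Equiv.Perm.mul_apply]
  have hinj2 : Function.Injective fun v => (⟨rot v, hmem v⟩ : rotGroup x) := by
    intro v v' h
    funext c
    obtain ⟨c, hc⟩ := c
    obtain ⟨a, ha⟩ := (Equiv.Perm.mem_cycleFactorsFinset_iff.1 hc).1.nonempty_support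
    have hsup := Equiv.Perm.mem_support.1 (Equiv.Perm.mem_cycleFactorsFinset_support_le hc ha)
    have he : ∀ w : {c // c ∈ x.cycleFactorsFinset} → Fin p, e w a = w ⟨c, hc⟩ := fun w => by
      simp only [e, dif_neg hsup]
      congr 2
      exact Subtype.ext (Equiv.Perm.cycle_is_cycleOf ha hc).symm
    have h2 := congrArg (fun s : rotGroup x => (s : Equiv.Perm (Fin n)) a) h
    simp only [hrot, he] at h2
    refine Fin.ext ?_
    by_contra hne
    rcases lt_or_gt_of_ne hne with hlt | hlt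
    all_goals
      first
        | obtain ⟨d, hd⟩ := Nat.exists_eq_add_of_lt hlt
      have hlt1 := (v ⟨c, hc⟩).isLt
      have hlt2 := (v' ⟨c, hc⟩).isLt
      rw [hd, add_assoc, pow_add, Equiv.Perm.mul_apply] at h2
      have hfix : (x ^ (d + 1)) a = a := by
        first
          | exact ((x ^ _).injective h2).symm
          | exact (x ^ _).injective h2
      have hcop : Nat.Coprime (d + 1) p :=
        (Nat.Coprime.symm ((Nat.Prime.coprime_iff_not_dvd hp).2
          (Nat.not_dvd_of_pos_of_lt (Nat.succ_pos d) (by omega))))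
      obtain ⟨m, -, hm⟩ := Nat.exists_mul_mod_eq_one_of_coprime hcop hp.one_lt
      have hfix' : ∀ j : ℕ, ((x ^ (d + 1)) ^ j) a = a := fun j => by
        induction j with
        | zero => simp
        | succ j ih => rw [pow_succ, Equiv.Perm.mul_apply, hfix, ih]
      refine hsup ?_
      have := hfix' m
      rwa [← pow_mul, pow_eq_pow_mod _ hx, hm, pow_one] at this
  have := Nat.card_le_card_of_injective _ hinj2
  simpa using this

theorem exists_conj_le_defectGroup {G : Type*} [Group G] [Finite G] {p : ℕ} [hp : Fact p.Prime]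
    {M : Ideal AlgInt} [M.IsMaximal] (hpM : (p : AlgInt) ∈ M) {B : Set (IrrCharacter G)}
    (hB : IsPBlock M B) {D : Subgroup G} (hD : IsDefectGroup p M B D) {χ : IrrCharacter G}
    (hχ : χ ∈ B) {x : G} (hx : ∃ k, orderOf x = p ^ k) (hne : χ.1 x ≠ 0) {E : Subgroup G}
    (hE : IsPGroup p E) (hEC : E ≤ Subgroup.centralizer ({x} : Set G))
    (hEn : ∀ g : G, Commute g x → ∀ e ∈ E, g * e * g⁻¹ ∈ E) :
    ∃ a : G, E.map (MulAut.conj a).toMonoidHom ≤ D := by
  classical
  set H := Subgroup.centralizer ({x} : Set G) with hH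
  have hxH : x ∈ H := Subgroup.mem_centralizer_singleton_iff.2 rfl
  have hpp : IsPPart p ((⟨x, hxH⟩ : H) : G) x :=
    ⟨1, mul_one x, Commute.one_right x, hx, by simp [hp.out.ne_one]⟩
  obtain ⟨ψ, hψ⟩ : ∃ ψ : IrrCharacter H,
      IsInducedBlock M H (blockOf M ψ.1) (blockOf M χ.1) := by
    by_contra hno
    refine hne ?_
    rw [Blocks.chiL_eq_sum_blocks (M := M) χ.1 (⟨x, hxH⟩ : H)]
    refine Finset.sum_eq_zero fun b hb => ?_
    obtain ⟨ψ, -, rfl⟩ := Finset.mem_image.1 hb
    exact Blocks.second_main_centralizer hpM hx (Blocks.isPBlock_blockOf ψ)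
      (fun h => hno ⟨ψ, h⟩) hpp
  rw [← Blocks.block_eq hB hχ] at hψ
  haveI : (E.subgroupOf H).Normal := ⟨fun e he g => by
    simp only [Subgroup.mem_subgroupOf] at he ⊢
    exact hEn g (Subgroup.mem_centralizer_singleton_iff.1 g.2) _ he⟩
  obtain ⟨D', hD'⟩ := Blocks.exists_defectGroup (p := p) hψ.1
  obtain ⟨F, hF, hle⟩ := Blocks.IsInducedBlock.exists_defectGroup_ge hpM hψ hD'
  have h1 := Subgroup.map_mono (f := H.subtype) (Blocks.normal_le_defectGroup hpM hψ.1
    (hE.of_equiv (Subgroup.subgroupOfEquivOfLe hEC).symm) hD')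
  rw [Subgroup.map_subgroupOf_eq_of_le hEC] at h1
  obtain ⟨a, rfl⟩ := Blocks.defectGroup_conj hpM hB hD hF
  exact ⟨a, Subgroup.map_mono (h1.trans hle)⟩

/-- A defect group has sectional rank at least the weight. -/
theorem weight_le {p : ℕ} [hp : Fact p.Prime] {M : Ideal AlgInt}
    [M.IsMaximal] (hpM : (p : AlgInt) ∈ M) {B : Set (IrrCharacter (Equiv.Perm (Fin n)))}
    (hB : IsPBlock M B) {D : Subgroup (Equiv.Perm (Fin n))} (hD : IsDefectGroup p M B D)
    {q : ℕ → ℕ} (hq : B ⊆ keySet p N n q) {s : ℕ} (hs : SectionalPRankLE p s D) :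
    keyWeight N p n q ≤ s := by
  classical
  obtain ⟨χ, hχ⟩ := Blocks.block_nonempty hB
  obtain ⟨S, hS, rfl, hkey⟩ := hq hχ
  have hinj := canon_injective (mem_Beta.1 hS).1
  have hW : keyWeight N p n q = pWeight p (canon N S) := by
    rw [← hkey]; exact keyWeight_eq hp.out.pos hinj (sum_canon_of_mem hS)
  rw [hW]
  set W := pWeight p (canon N S) with hWdef
  have hcinj := coreT_injective hp.out.pos hinj (p := p)
  have hsum := sum_eq_coreSum_add hp.out.pos hinj
  rw [← sum_coreT hp.out.pos hinj, sum_canon_of_mem hS, ← hWdef] at hsum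
  have hbase := baseSum_le_sum hcinj
  have hpW : W * p ≤ n := by rw [Nat.mul_comm]; omega
  obtain ⟨x, hx⟩ := (Equiv.Perm.exists_with_cycleType_iff (α := Fin n)
    (m := Multiset.replicate W p)).2
    ⟨by simpa using hpW, fun a ha => by rw [Multiset.eq_of_mem_replicate ha]; exact hp.out.two_le⟩
  have hxp : x ^ p = 1 := Equiv.Perm.pow_prime_eq_one_iff.2 fun c hc => by
    rw [hx] at hc; exact Multiset.eq_of_mem_replicate hc
  have hord : ∃ k, orderOf x = p ^ k := by
    obtain ⟨k, -, hk⟩ := (Nat.dvd_prime_pow hp.out).1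
      (show orderOf x ∣ p ^ 1 by rw [pow_one]; exact orderOf_dvd_of_pow_eq_one hxp)
    exact ⟨k, hk⟩
  have hcyc : cycParts x = Multiset.replicate W p + Multiset.replicate (n - W * p) 1 := by
    rw [cycParts_eq, ← Equiv.Perm.sum_cycleType, hx, Multiset.sum_replicate, smul_eq_mul]
  have hne : (irrOf S hS).1 x ≠ 0 := by
    obtain ⟨ε, hε, hv⟩ := irrOf_spec hS
    obtain ⟨P, hP, hPe⟩ := hook_path hp.out.pos (Multiset.replicate (n - W * p) 1) W _ hinj rfl
    rw [hv, hcyc, hPe]
    have hdeg := chiX_degree_ne_zero hcinj (n := n - W * p) (by rw [Nat.mul_comm] at hpW ⊢; omega)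
    have hε0 : ε ≠ 0 := fun e => by simp [e] at hε
    exact mul_ne_zero (Int.cast_ne_zero.2 hε0) (Int.cast_ne_zero.2 (mul_ne_zero hP.ne' hdeg))
  have hEp : IsPGroup p (rotGroup x) := fun σ => ⟨1, Subtype.ext (by
    rw [pow_one]; exact pow_eq_one_of_mem_rotGroup hxp σ.2)⟩
  obtain ⟨a, ha⟩ := exists_conj_le_defectGroup hpM hB hD hχ hord hne hEp
    (fun σ hσ => Subgroup.mem_centralizer_singleton_iff.2 hσ.1)
    (fun g hg σ hσ => conj_mem_rotGroup hg hσ)
  let f : rotGroup x →* (⊤ : Subgroup D) ⧸ (⊥ : Subgroup (⊤ : Subgroup D)) :=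
    (QuotientGroup.mk' _).comp
      { toFun := fun σ => ⟨⟨MulAut.conj a σ.1, ha ⟨σ.1, σ.2, rfl⟩⟩, Subgroup.mem_top _⟩
        map_one' := by ext; simp
        map_mul' := fun σ τ => Subtype.ext (Subtype.ext (map_mul (MulAut.conj a) σ.1 τ.1)) }
  have hf : Function.Injective f := fun σ τ h => by
    have h1 : (MulAut.conj a σ.1) = MulAut.conj a τ.1 := by
      have := QuotientGroup.eq.1 h
      rw [Subgroup.mem_bot, inv_mul_eq_one] at this
      exact congrArg (fun z : (⊤ : Subgroup D) => ((z : D) : Equiv.Perm (Fin n))) this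
    exact Subtype.ext ((MulAut.conj a).injective h1)
  have hA : IsMulCommutative f.range := ⟨⟨fun ⟨u, σ, hσ⟩ ⟨v, τ, hτ⟩ => Subtype.ext (by
    show u * v = v * u
    rw [← hσ, ← hτ, ← map_mul, ← map_mul]
    exact congrArg f (Subtype.ext (commute_of_mem_rotGroup σ.2 τ.2).eq))⟩⟩
  have h := hs ⊤ ⊥ f.range hA (by
    rintro _ ⟨σ, rfl⟩
    rw [← map_pow, show σ ^ p = 1 from Subtype.ext (pow_eq_one_of_mem_rotGroup hxp σ.2), map_one])
  rw [← Nat.card_congr (MonoidHom.ofInjective hf).toEquiv] at h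
  have hcard : x.cycleFactorsFinset.card = W := by
    have := congrArg Multiset.card hx
    rw [Equiv.Perm.cycleType_def, Multiset.card_map, Multiset.card_replicate] at this
    exact this
  have h2 := (card_rotGroup hp.out hxp).trans h
  rw [hcard] at h2
  exact (Nat.pow_le_pow_iff_right hp.out.one_lt).1 h2

theorem blockRank_lt {p : ℕ} [hp : Fact p.Prime] {M : Ideal AlgInt}
    [M.IsMaximal] (hpM : (p : AlgInt) ∈ M) {B : Set (IrrCharacter (Equiv.Perm (Fin n)))}
    (hB : IsPBlock M B) {D : Subgroup (Equiv.Perm (Fin n))} (hD : IsDefectGroup p M B D)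
    (hD1 : D ≠ ⊥) {s : ℕ} (hs : SectionalPRankLE p s D) : blockRank p B < p ^ s := by
  obtain ⟨q, hq⟩ := exists_key_of_block (le_refl n) hpM hB
  have h1 := blockRank_le (le_refl n) q hq
  have h2 := card_goodSets (N := n) hp.out.pos n q hp.out.pos
  have h3 := weight_le hpM hB hD hq hs
  have hs1 : 1 ≤ s := by
    by_contra hs0
    have hs0' : s = 0 := by omega
    subst hs0'
    haveI : Nontrivial D := D.nontrivial_iff_ne_bot.2 hD1
    obtain ⟨u, hu⟩ := exists_prime_orderOf_dvd_card' p (G := D) (by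
      obtain ⟨k, hk0, hk⟩ := (Blocks.IsDefectGroup.isPGroup hD).nontrivial_iff_card.1 inferInstance
      rw [hk]; exact dvd_pow_self p hk0.ne')
    let g : Subgroup.zpowers u →* (⊤ : Subgroup D) ⧸ (⊥ : Subgroup (⊤ : Subgroup D)) :=
      (QuotientGroup.mk' _).comp
        ((Subgroup.topEquiv (G := D)).symm.toMonoidHom.comp (Subgroup.zpowers u).subtype)
    have hg : Function.Injective g := fun σ τ h => by
      have := QuotientGroup.eq.1 h
      rw [Subgroup.mem_bot, inv_mul_eq_one] at this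
      exact Subtype.ext (Subgroup.topEquiv.symm.injective this)
    have hA : IsMulCommutative g.range := ⟨⟨fun ⟨a, σ, hσ⟩ ⟨b, τ, hτ⟩ => Subtype.ext (by
      show a * b = b * a
      rw [← hσ, ← hτ, ← map_mul, ← map_mul]
      obtain ⟨i, hi⟩ := Subgroup.mem_zpowers_iff.1 σ.2
      obtain ⟨j, hj⟩ := Subgroup.mem_zpowers_iff.1 τ.2
      exact congrArg g (Subtype.ext (show (σ : D) * τ = τ * σ by
        rw [← hi, ← hj, ← zpow_add, ← zpow_add, add_comm])))⟩⟩
    have h := hs ⊤ ⊥ g.range hA (by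
      rintro _ ⟨σ, rfl⟩
      rw [← map_pow, show σ ^ p = 1 by
        obtain ⟨i, hi⟩ := Subgroup.mem_zpowers_iff.1 σ.2
        refine Subtype.ext ?_
        rw [Subgroup.coe_pow, ← hi, ← zpow_natCast, ← zpow_mul, mul_comm, zpow_mul,
          zpow_natCast, ← hu, pow_orderOf_eq_one, one_zpow, Subgroup.coe_one], map_one])
    rw [← Nat.card_congr (MonoidHom.ofInjective hg).toEquiv, Nat.card_zpowers, hu, pow_zero] at h
    exact absurd h (not_le.2 hp.out.one_lt)
  have hone : 1 < p ^ s := Nat.one_lt_pow (by omega) hp.out.one_lt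
  have hpow := Nat.pow_le_pow_right hp.out.pos h3
  split_ifs at h2 with hw
  · rw [hw, pow_zero] at h2; omega
  · omega

end Cfsg.Agent.SymChar
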