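import Cfsg.Agent.Lib.SymChar.Orth
import Cfsg.Agent.Lib.Char.PermChar
import Cfsg.Agent.Lib.Char.Generalized
import Cfsg.Agent.Lib.CharInt.Basic
import Mathlib.GroupTheory.Perm.Centralizer

/-!
# The irreducible characters of the symmetric group
-/

namespace Cfsg.Agent.SymChar

open Finset Equiv Cfsg
open scoped ComplexConjugate

set_option linter.style.haveILetI false

variable {N n : ℕ}

/-- The cycle lengths, fixed points included. -/
noncomputable def cycParts (σ : Equiv.Perm (Fin n)) : Multiset ℕ := σ.partition.parts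

theorem cycParts_mem (σ : Equiv.Perm (Fin n)) : cycParts σ ∈ Parts n :=
  mem_Parts.2 ⟨fun _ hk => σ.partition.parts_pos hk,
    σ.partition.parts_sum.trans (Fintype.card_fin n)⟩

theorem cycParts_eq (σ : Equiv.Perm (Fin n)) :
    cycParts σ = σ.cycleType + Multiset.replicate (n - σ.support.card) 1 := by
  rw [cycParts, Equiv.Perm.parts_partition, Fintype.card_fin]

theorem cycParts_one : cycParts (1 : Equiv.Perm (Fin n)) = Multiset.replicate n 1 := by
  simp [cycParts_eq]

theorem cycParts_eq_iff {σ τ : Equiv.Perm (Fin n)} : cycParts σ = cycParts τ ↔ IsConj σ τ := by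
  rw [Equiv.Perm.partition_eq_of_isConj, Nat.Partition.ext_iff]
  rfl

theorem exists_cycParts {c : Multiset ℕ} (hc : c ∈ Parts n) :
    ∃ σ : Equiv.Perm (Fin n), cycParts σ = c := by
  classical
  obtain ⟨hpos, hsum⟩ := mem_Parts.1 hc
  set m := c.filter fun a => 2 ≤ a with hm
  have hsplit : m + c.filter (fun a => ¬ 2 ≤ a) = c := Multiset.filter_add_not _ _
  have hone : c.filter (fun a => ¬ 2 ≤ a) =
      Multiset.replicate (c.filter (fun a => ¬ 2 ≤ a)).card 1 :=
    Multiset.eq_replicate_card.2 fun b hb => by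
      obtain ⟨h1, h2⟩ := Multiset.mem_filter.1 hb
      have := hpos b h1
      omega
  have hs := congrArg Multiset.sum hsplit
  rw [hone, Multiset.sum_add, Multiset.sum_replicate, smul_eq_mul, mul_one, hsum] at hs
  obtain ⟨σ, hσ⟩ := (Equiv.Perm.exists_with_cycleType_iff (α := Fin n)).2
    ⟨show m.sum ≤ _ by rw [Fintype.card_fin]; omega,
      fun a ha => (Multiset.mem_filter.1 ha).2⟩
  refine ⟨σ, ?_⟩
  rw [cycParts_eq, hσ, ← Equiv.Perm.sum_cycleType, hσ]
  conv_rhs => rw [← hsplit, hone]
  congr 2
  omega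

theorem zP_cycParts (σ : Equiv.Perm (Fin n)) :
    zP (cycParts σ) = (n - σ.cycleType.sum).factorial * σ.cycleType.prod *
      ∏ k ∈ σ.cycleType.toFinset, (σ.cycleType.count k).factorial := by
  classical
  rw [cycParts_eq, ← Equiv.Perm.sum_cycleType]
  generalize n - σ.cycleType.sum = r
  induction r with
  | zero => simp [zP]
  | succ r ih =>
    rw [Multiset.replicate_succ, Multiset.add_cons, zP_cons, ih, Multiset.count_add,
      Multiset.count_replicate_self, Nat.factorial_succ]
    have : (σ.cycleType).count 1 = 0 := Multiset.count_eq_zero.2 fun h => by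
      have := Equiv.Perm.two_le_of_mem_cycleType h; omega
    rw [this]
    ring

theorem card_cycParts_fibre {c : Multiset ℕ} (hc : c ∈ Parts n) :
    ((Finset.univ : Finset (Equiv.Perm (Fin n))).filter fun σ => cycParts σ = c).card * zP c =
      n.factorial := by
  classical
  obtain ⟨σ₀, rfl⟩ := exists_cycParts hc
  have h := Equiv.Perm.card_isConj_mul_eq σ₀
  rw [Fintype.card_fin] at h
  rw [zP_cycParts, ← h]
  congr 1
  rw [Nat.card_eq_fintype_card]
  refine (Fintype.card_of_subtype _ fun σ => ?_).symm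
  simp only [Finset.mem_filter, Finset.mem_univ, true_and, cycParts_eq_iff]
  exact isConj_comm

theorem avg_group (F : Multiset ℕ → ℂ) :
    (Fintype.card (Equiv.Perm (Fin n)) : ℂ)⁻¹ * ∑ σ : Equiv.Perm (Fin n), F (cycParts σ) =
      avgP n F := by
  classical
  rw [← Finset.sum_fiberwise_of_maps_to (g := cycParts) (t := Parts n)
    (fun σ _ => cycParts_mem σ), Finset.mul_sum, avgP]
  refine Finset.sum_congr rfl fun c hc => ?_
  rw [Finset.sum_congr rfl fun σ hσ => by rw [(Finset.mem_filter.1 hσ).2], Finset.sum_const,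
    nsmul_eq_mul, smul_eq_mul]
  have h := card_cycParts_fibre hc
  have hz : (zP c : ℂ) ≠ 0 := by exact_mod_cast (zP_pos (mem_Parts.1 hc).1).ne'
  have hn : (n.factorial : ℂ) ≠ 0 := by exact_mod_cast n.factorial_ne_zero
  rw [Fintype.card_perm, Fintype.card_fin]
  set a := ((Finset.univ : Finset (Equiv.Perm (Fin n))).filter fun σ => cycParts σ = c).card
  have h' : (a : ℂ) * zP c = n.factorial := by exact_mod_cast h
  field_simp
  linear_combination F c * h'

/-! ### Fixed colourings -/

/-- The orbits of a permutation. -/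
abbrev OrbIdx (σ : Equiv.Perm (Fin n)) : Type :=
  {c // c ∈ σ.cycleFactorsFinset} ⊕ {x : Fin n // σ x = x}

/-- The orbit of a point. -/
noncomputable def orbMap (σ : Equiv.Perm (Fin n)) (x : Fin n) : OrbIdx σ :=
  if h : σ x = x then Sum.inr ⟨x, h⟩
  else Sum.inl ⟨σ.cycleOf x, Equiv.Perm.cycleOf_mem_cycleFactorsFinset_iff.2
    (Equiv.Perm.mem_support.2 h)⟩

/-- The length of an orbit. -/
def orbLen (σ : Equiv.Perm (Fin n)) : OrbIdx σ → ℕ :=
  Sum.elim (fun c => c.1.support.card) (fun _ => 1)

theorem orbMap_apply (σ : Equiv.Perm (Fin n)) (x : Fin n) : orbMap σ (σ x) = orbMap σ x := by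
  by_cases h : σ x = x
  · rw [h]
  · have h' : ¬ σ (σ x) = σ x := fun e => h (σ.injective e)
    rw [orbMap, orbMap, dif_neg h', dif_neg h]
    refine congrArg Sum.inl (Subtype.ext ?_)
    exact (Equiv.Perm.SameCycle.cycleOf_eq ⟨1, by simp⟩).symm

theorem sameCycle_of_orbMap_eq {σ : Equiv.Perm (Fin n)} {x y : Fin n}
    (h : orbMap σ x = orbMap σ y) : σ.SameCycle x y := by
  by_cases hx : σ x = x <;> by_cases hy : σ y = y <;>
    simp only [orbMap, hx, hy, dite_true, dite_false, reduceCtorEq, Sum.inr.injEq, Sum.inl.injEq,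
      Subtype.mk.injEq] at h
  · rw [h]
  · have hm : y ∈ (σ.cycleOf x).support := by
      rw [h, Equiv.Perm.mem_support_cycleOf_iff' hy]
    exact (Equiv.Perm.mem_support_cycleOf_iff' hx).1 hm

theorem orbMap_surjective (σ : Equiv.Perm (Fin n)) : Function.Surjective (orbMap σ) := by
  rintro (⟨c, hc⟩ | ⟨x, hx⟩)
  · obtain ⟨a, ha⟩ := (Equiv.Perm.mem_cycleFactorsFinset_iff.1 hc).1.nonempty_support
    have hsup := Equiv.Perm.mem_support.1 (Equiv.Perm.mem_cycleFactorsFinset_support_le hc ha)
    refine ⟨a, ?_⟩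
    rw [orbMap, dif_neg hsup]
    exact congrArg Sum.inl (Subtype.ext (Equiv.Perm.cycle_is_cycleOf ha hc).symm)
  · exact ⟨x, dif_pos hx⟩

theorem card_orbMap_fibre (σ : Equiv.Perm (Fin n)) (o : OrbIdx σ) :
    ((Finset.univ : Finset (Fin n)).filter fun x => orbMap σ x = o).card = orbLen σ o := by
  rcases o with ⟨c, hc⟩ | ⟨a, ha⟩
  · show _ = c.support.card
    congr 1
    ext x
    simp only [Finset.mem_filter, Finset.mem_univ, true_and]
    constructor
    · intro h
      by_cases hx : σ x = x
      · simp [orbMap, hx] at h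
      · simp only [orbMap, hx, dite_false, Sum.inl.injEq, Subtype.mk.injEq] at h
        rw [← h, Equiv.Perm.mem_support_cycleOf_iff' hx]
    · intro hx
      have hsup := Equiv.Perm.mem_support.1 (Equiv.Perm.mem_cycleFactorsFinset_support_le hc hx)
      rw [orbMap, dif_neg hsup]
      exact congrArg Sum.inl (Subtype.ext (Equiv.Perm.cycle_is_cycleOf hx hc).symm)
  · show _ = 1
    rw [Finset.card_eq_one]
    refine ⟨a, ?_⟩
    ext x
    simp only [Finset.mem_filter, Finset.mem_univ, true_and, Finset.mem_singleton]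
    constructor
    · intro h
      by_cases hx : σ x = x
      · simpa [orbMap, hx] using h
      · simp [orbMap, hx] at h
    · rintro rfl; exact dif_pos ha

theorem map_orbLen (σ : Equiv.Perm (Fin n)) :
    (Finset.univ : Finset (OrbIdx σ)).val.map (orbLen σ) = cycParts σ := by
  rw [show (Finset.univ : Finset (OrbIdx σ)) = Finset.univ.disjSum Finset.univ from rfl,
    Finset.val_disjSum, Multiset.disjSum, Multiset.map_add, Multiset.map_map, Multiset.map_map,
    cycParts_eq]
  congr 1
  · rw [Equiv.Perm.cycleType_def, Finset.univ_eq_attach, Finset.attach_val]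
    exact Multiset.attach_map_val' σ.cycleFactorsFinset.val (fun c => c.support.card)
  · rw [show (orbLen σ ∘ Sum.inr) = fun _ => 1 from rfl, Multiset.map_const']
    congr 1
    show Fintype.card {x : Fin n // σ x = x} = _
    rw [Fintype.card_subtype]
    have h := Finset.card_filter_add_card_filter_not (s := (Finset.univ : Finset (Fin n)))
      (fun x => σ x = x)
    rw [Finset.card_univ, Fintype.card_fin] at h
    have h2 : σ.support = Finset.univ.filter fun x => ¬ σ x = x := by ext x; simp
    rw [h2]; omega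

/-- The colour counts. -/
def colCount (f : Fin n → Fin N) : Fin N → ℕ :=
  fun i => ((Finset.univ : Finset (Fin n)).filter fun x => f x = i).card

theorem expo_colCount (f : Fin n → Fin N) :
    expo (colCount f) = ∑ x, Finsupp.single (f x) 1 := by
  ext i
  simp [colCount, Finsupp.single_apply, Finset.sum_boole]

/-- The colourings fixed by a permutation. -/
def fixedCol (N : ℕ) (σ : Equiv.Perm (Fin n)) : Finset (Fin n → Fin N) :=
  Finset.univ.filter fun f => ∀ x, f (σ x) = f x

theorem prod_powerSum (σ : Equiv.Perm (Fin n)) :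
    ((cycParts σ).map (powerSum N)).prod =
      ∑ f ∈ fixedCol N σ, MvPolynomial.monomial (expo (colCount f)) 1 := by
  classical
  rw [← map_orbLen, Multiset.map_map]
  show ∏ o : OrbIdx σ, powerSum N (orbLen σ o) = _
  simp only [powerSum]
  rw [Fintype.prod_sum]
  refine Finset.sum_bij (fun g _ => g ∘ orbMap σ) ?_ ?_ ?_ ?_
  · intro g _
    simp [fixedCol, orbMap_apply]
  · intro a _ b _ h
    exact (orbMap_surjective σ).injective_comp_right h
  · intro f hf
    refine ⟨fun o => f (Function.surjInv (orbMap_surjective σ) o), Finset.mem_univ _, funext fun x => ?_⟩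
    have hsc := sameCycle_of_orbMap_eq
      (Function.surjInv_eq (orbMap_surjective σ) (orbMap σ x))
    obtain ⟨i, -, hi⟩ := hsc.exists_pow_eq'
    simp only [Function.comp_apply]
    conv_rhs => rw [← hi]
    clear hi hsc
    induction i with
    | zero => simp
    | succ i ih =>
      rw [pow_succ', Equiv.Perm.mul_apply, (Finset.mem_filter.1 hf).2, ← ih]
  · intro g _
    rw [expo_colCount]
    rw [← MvPolynomial.monomial_sum_one]
    refine congrArg (fun a : Fin N →₀ ℕ => (MvPolynomial.monomial a (1 : ℤ))) ?_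
    rw [← Finset.sum_fiberwise Finset.univ (orbMap σ)
      (fun x => Finsupp.single ((g ∘ orbMap σ) x) 1)]
    refine Finset.sum_congr rfl fun o _ => ?_
    rw [Finset.sum_congr rfl fun x hx => by
      rw [Function.comp_apply, (Finset.mem_filter.1 hx).2], Finset.sum_const, card_orbMap_fibre]
    ext i
    simp [Finsupp.single_apply]

/-- The colourings seen at the permutation `τ` in the coefficient of `x ^ l`. -/
@[ext] structure Colouring (n : ℕ) {N : ℕ} (l : Fin N → ℕ) (τ : Equiv.Perm (Fin N)) where
  /-- The colour of a point. -/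
  col : Fin n → Fin N
  eq : ∀ i, colCount col i + (τ i : ℕ) = l i

/-- Moving the points of a colouring. -/
instance colouringAction (n : ℕ) {N : ℕ} (l : Fin N → ℕ) (τ : Equiv.Perm (Fin N)) :
    MulAction (Equiv.Perm (Fin n)) (Colouring n l τ) where
  smul σ f := ⟨f.col ∘ ⇑σ⁻¹, fun i => by
    rw [← f.eq i]
    congr 1
    simp only [colCount]
    refine Finset.card_equiv σ⁻¹ fun x => ?_
    simp⟩
  one_smul f := Colouring.ext (funext fun x => by
    show f.col ((1 : Equiv.Perm (Fin n))⁻¹ x) = f.col x
    simp)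
  mul_smul a b f := Colouring.ext (funext fun x => by
    show f.col ((a * b)⁻¹ x) = f.col (b⁻¹ (a⁻¹ x))
    simp)

instance colouringFinite (n : ℕ) {N : ℕ} (l : Fin N → ℕ) (τ : Equiv.Perm (Fin N)) :
    Finite (Colouring n l τ) :=
  Finite.of_injective (fun f => f.col) fun _ _ h => Colouring.ext h

theorem chiX_eq_sum_colourings (l : Fin N → ℕ) (σ : Equiv.Perm (Fin n)) :
    chiX l (cycParts σ) = ∑ τ : Equiv.Perm (Fin N), (Equiv.Perm.sign τ : ℤ) *
      Nat.card (MulAction.fixedBy (Colouring n l τ) σ) := by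
  classical
  rw [chiX, prod_powerSum, alternant, Finset.sum_mul, MvPolynomial.coeff_sum]
  simp only [Finset.mul_sum, MvPolynomial.coeff_sum]
  rw [Finset.sum_comm]
  refine Finset.sum_congr rfl fun τ _ => ?_
  simp only [MvPolynomial.monomial_mul, one_mul, MvPolynomial.coeff_monomial]
  rw [← Finset.sum_filter, Finset.sum_const, nsmul_eq_mul, mul_comm]
  congr 2
  rw [← Fintype.card_coe, Nat.card_eq_fintype_card.symm]
  refine Nat.card_congr
    { toFun := fun f => ⟨⟨f.1, fun i => ?_⟩, ?_⟩
      invFun := fun f => ⟨f.1.col, ?_⟩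
      left_inv := fun _ => rfl
      right_inv := fun _ => rfl }
  · have h := DFunLike.congr_fun (Finset.mem_filter.1 f.2).2 i
    simpa using h
  · refine MulAction.mem_fixedBy.2 (Colouring.ext (funext fun x => ?_))
    have h := (Finset.mem_filter.1 (Finset.mem_filter.1 f.2).1).2 (σ⁻¹ x)
    rw [show σ (σ⁻¹ x) = x by simp] at h
    exact h.symm
  · refine Finset.mem_filter.2 ⟨Finset.mem_filter.2 ⟨Finset.mem_univ _, fun x => ?_⟩, ?_⟩
    · have h := congrFun (congrArg Colouring.col (MulAction.mem_fixedBy.1 f.2)) (σ x)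
      change f.1.col (σ⁻¹ (σ x)) = f.1.col (σ x) at h
      rw [show σ⁻¹ (σ x) = x by simp] at h
      exact h.symm
    · ext i
      simpa using f.1.eq i

/-- The class function of a tuple. -/
noncomputable def symFun (n : ℕ) {N : ℕ} (l : Fin N → ℕ) : Equiv.Perm (Fin n) → ℂ :=
  fun σ => (chiX l (cycParts σ) : ℂ)

theorem isGeneralizedCharacter_symFun (l : Fin N → ℕ) :
    IsGeneralizedCharacter (Equiv.Perm (Fin n)) (symFun n l) := by
  have h : symFun n l = ∑ τ : Equiv.Perm (Fin N), ((Equiv.Perm.sign τ : ℤ) : ℂ) •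
      fun σ : Equiv.Perm (Fin n) => (Nat.card (MulAction.fixedBy (Colouring n l τ) σ) : ℂ) := by
    funext σ
    simp [symFun, chiX_eq_sum_colourings, Finset.sum_apply]
  rw [h]
  exact Char.IsGeneralizedCharacter.sum _ fun τ _ =>
    Char.IsGeneralizedCharacter.intCast_smul
      (Char.IsCharacter.isGeneralized (Char.isCharacter_fixedBy _)) _

theorem classInner_symFun {l m : Fin N → ℕ} (hl : ∑ i, l i = baseSum N + n)
    (hm : ∑ i, m i = baseSum N + n) :
    classInner (symFun n l) (symFun n m) = (detD l m : ℂ) := by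
  rw [← orthonormal n l m hl hm, ← avg_group, classInner]
  simp [symFun, map_intCast, Nat.card_eq_fintype_card]

theorem exists_irr {S : Finset ℕ} (hS : S ∈ Beta N n) :
    ∃ χ : IrrCharacter (Equiv.Perm (Fin n)),
      symFun n (canon N S) = χ.1 ∨ symFun n (canon N S) = -χ.1 := by
  refine Char.IsGeneralizedCharacter.irr_or_neg_of_norm_one (isGeneralizedCharacter_symFun _) ?_
  rw [classInner_symFun (sum_canon_of_mem hS) (sum_canon_of_mem hS),
    detD_self (canon_injective (mem_Beta.1 hS).1), Int.cast_one]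

/-- The irreducible character of a set of beta numbers. -/
noncomputable def irrOf {N n : ℕ} (S : Finset ℕ) (hS : S ∈ Beta N n) :
    IrrCharacter (Equiv.Perm (Fin n)) :=
  (exists_irr hS).choose

theorem irrOf_spec {S : Finset ℕ} (hS : S ∈ Beta N n) :
    ∃ ε : ℤ, ε * ε = 1 ∧ ∀ σ, (irrOf S hS).1 σ = (ε : ℂ) * chiX (canon N S) (cycParts σ) := by
  rcases (exists_irr hS).choose_spec with h | h
  · exact ⟨1, by norm_num, fun σ => by simp [irrOf, ← h, symFun]⟩
  · refine ⟨-1, by norm_num, fun σ => ?_⟩
    have h' := congrFun h σ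
    simp only [symFun, Pi.neg_apply] at h'
    simp [irrOf, h']

theorem irrOf_injective {S T : Finset ℕ} (hS : S ∈ Beta N n) (hT : T ∈ Beta N n)
    (h : irrOf S hS = irrOf T hT) : S = T := by
  classical
  obtain ⟨ε, hε, hS'⟩ := irrOf_spec hS
  obtain ⟨δ, hδ, hT'⟩ := irrOf_spec hT
  by_contra hne
  have h1 := orthonormal_canon hS hT
  have h2 := orthonormal_canon hT hT
  rw [if_neg hne] at h1
  rw [if_pos rfl] at h2
  have hrel : ∀ c ∈ Parts n,
      (chiX (canon N S) c : ℂ) = (ε * δ : ℂ) * chiX (canon N T) c := by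
    intro c hc
    obtain ⟨σ, rfl⟩ := exists_cycParts hc
    have hσ := hS' σ
    rw [h, hT'] at hσ
    have hε' : (ε : ℂ) * ε = 1 := by exact_mod_cast hε
    linear_combination (ε : ℂ) * hσ.symm - (chiX (canon N S) (cycParts σ) : ℂ) * hε'
  rw [avgP, Finset.sum_congr rfl fun c hc => by rw [hrel c hc]] at h1
  have : (ε * δ : ℂ) * avgP n (fun c => (chiX (canon N T) c : ℂ) * chiX (canon N T) c) = 0 := by
    rw [← h1, avgP, Finset.mul_sum]
    simp [smul_eq_mul]
    exact Finset.sum_congr rfl fun c _ => by ring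
  rw [h2, mul_one] at this
  rcases mul_eq_zero.1 this with e | e <;> simp at e <;> subst e <;> simp at hε hδ

theorem card_Parts_le_Beta (hN : n ≤ N) : (Parts n).card ≤ (Beta N n).card := by
  classical
  let padded : Multiset ℕ → List ℕ := fun c =>
    (c + Multiset.replicate (N - c.card) 0).sort (· ≤ ·)
  have hcard : ∀ c ∈ Parts n, c.card ≤ n := fun c hc => by
    obtain ⟨h1, h2⟩ := mem_Parts.1 hc
    have := Multiset.card_nsmul_le_sum (s := c) (a := 1) fun x hx => h1 x hx
    simpa [h2] using this
  have hlen : ∀ c ∈ Parts n, (padded c).length = N := fun c hc => by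
    have := hcard c hc
    simp [padded]; omega
  let f : Multiset ℕ → Fin N → ℕ := fun c i => (padded c).getD i 0 + i
  have hmono : ∀ c ∈ Parts n, StrictMono (f c) := by
    intro c hc i j hij
    have hL := hlen c hc
    simp only [f]
    rw [List.getD_eq_getElem _ _ (by omega), List.getD_eq_getElem _ _ (by omega)]
    have hp : (padded c).Pairwise (· ≤ ·) := Multiset.pairwise_sort _ _
    have := List.pairwise_iff_getElem.1 hp i j (by omega) (by omega) hij
    have : (i : ℕ) < j := hij
    omega
  have hsum : ∀ c ∈ Parts n, ∑ i, f c i = baseSum N + n := by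
    intro c hc
    simp only [f, Finset.sum_add_distrib]
    have h1 : ∑ i : Fin N, (i : ℕ) = baseSum N := by
      rw [baseSum, ← Fin.sum_univ_eq_sum_range fun i => i]
    have h2 : ∑ i : Fin N, (padded c).getD i 0 = (padded c).sum := by
      have hL := hlen c hc
      rw [← Fin.sum_univ_getElem]
      exact Fintype.sum_equiv (finCongr hL.symm) _ _ fun i => by
        rw [List.getD_eq_getElem _ _ (by omega)]; rfl
    have h3 : (padded c).sum = n := by
      rw [← Multiset.sum_coe, Multiset.sort_eq, Multiset.sum_add, (mem_Parts.1 hc).2]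
      simp
    rw [h1, h2, h3, add_comm]
  refine Finset.card_le_card_of_injOn (fun c => Finset.univ.image (f c)) ?_ ?_
  · exact fun c hc => image_mem_Beta (hmono c hc).injective (hsum c hc)
  · intro a ha b hb hab
    simp only at hab
    have e := (hmono a ha).range_inj (hmono b hb)
    have hr : Set.range (f a) = Set.range (f b) := by
      have := congrArg (fun s : Finset ℕ => (s : Set ℕ)) hab
      simpa using this
    have hf := e.1 hr
    have hl : padded a = padded b := List.ext_getElem (by rw [hlen a ha, hlen b hb]) fun i h1 h2 => by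
      have := congrFun hf ⟨i, by rw [← hlen a ha]; exact h1⟩
      simpa [f, List.getD_eq_getElem?_getD, h1, h2] using this
    have he : a + Multiset.replicate (N - a.card) 0 = b + Multiset.replicate (N - b.card) 0 := by
      rw [← Multiset.sort_eq (r := (· ≤ ·)) (a + _)]
      conv_rhs => rw [← Multiset.sort_eq (r := (· ≤ ·)) (b + _)]
      exact congrArg _ hl
    have h0 : ∀ c ∈ Parts n, ∀ k,
        (c + Multiset.replicate k 0).filter (fun x => 0 < x) = c := fun c hc k => by
      rw [Multiset.filter_add, Multiset.filter_eq_self.2 (mem_Parts.1 hc).1,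
        Multiset.filter_eq_nil.2 fun x hx => by rw [Multiset.eq_of_mem_replicate hx]; omega,
        add_zero]
    rw [← h0 a ha _, he, h0 b hb]

theorem exists_irrOf (hN : n ≤ N) (χ : IrrCharacter (Equiv.Perm (Fin n))) :
    ∃ S, ∃ hS : S ∈ Beta N n, χ = irrOf S hS := by
  classical
  have hinj : Function.Injective fun S : ↥(Beta N n) => irrOf S.1 S.2 := fun a b h =>
    Subtype.ext (irrOf_injective a.2 b.2 h)
  have hle : Nat.card (IrrCharacter (Equiv.Perm (Fin n))) ≤ Nat.card ↥(Beta N n) := by
    rw [Char.card_irr, Nat.card_eq_fintype_card (α := ↥(Beta N n)), Fintype.card_coe]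
    refine le_trans ?_ (card_Parts_le_Beta hN)
    have h := Nat.card_le_card_of_injective
      (fun C : ConjClasses (Equiv.Perm (Fin n)) =>
        (⟨cycParts C.out, cycParts_mem _⟩ : ↥(Parts n))) fun a b h => by
      have h' := cycParts_eq_iff.1 (congrArg Subtype.val h)
      rw [← Quotient.out_eq a, ← Quotient.out_eq b]
      exact ConjClasses.mk_eq_mk_iff_isConj.2 h'
    simpa using h
  have hb := (Function.Injective.bijective_of_nat_card_le hinj hle).2
  obtain ⟨S, hS⟩ := hb χ
  exact ⟨S.1, S.2, hS.symm⟩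

theorem sum_column (hN : n ≤ N) {c d : Multiset ℕ} (hc : c ∈ Parts n) (hd : d ∈ Parts n)
    (hne : c ≠ d) : ∑ S ∈ Beta N n, (chiX (canon N S) c : ℂ) * chiX (canon N S) d = 0 := by
  classical
  obtain ⟨g, rfl⟩ := exists_cycParts hc
  obtain ⟨h, rfl⟩ := exists_cycParts hd
  have key := Char.sum_irr_mul_conj g h
  rw [if_neg fun e => hne (cycParts_eq_iff.2 e)] at key
  rw [← key, ← Finset.sum_coe_sort]
  refine Fintype.sum_bijective (fun S : ↥(Beta N n) => irrOf S.1 S.2)
    ⟨fun a b e => Subtype.ext (irrOf_injective a.2 b.2 e), fun χ => ?_⟩ _ _ fun S => ?_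
  · obtain ⟨S, hS, rfl⟩ := exists_irrOf hN χ
    exact ⟨⟨S, hS⟩, rfl⟩
  · obtain ⟨ε, hε, hσ⟩ := irrOf_spec S.2
    rw [hσ g, hσ h, map_mul, map_intCast, map_intCast]
    have hε' : (ε : ℂ) * ε = 1 := by exact_mod_cast hε
    linear_combination (-(chiX (canon N S.1) (cycParts g) : ℂ) * chiX (canon N S.1) (cycParts h)) * hε'

theorem chiX_degree_ne_zero {l : Fin N → ℕ} (hl : Function.Injective l)
    (hsum : ∑ i, l i = baseSum N + n) : chiX l (Multiset.replicate n 1) ≠ 0 := by
  obtain ⟨σ, hσ⟩ := exists_canon_perm hl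
  intro h0
  have hS := image_mem_Beta hl hsum
  obtain ⟨ε, -, he⟩ := irrOf_spec hS
  have h1 := he 1
  rw [cycParts_one, hσ, chiX_comp, h0, mul_zero, Int.cast_zero, mul_zero] at h1
  exact Char.IsIrrCharacter.apply_one_ne_zero (irrOf _ hS).2 h1

end Cfsg.Agent.SymChar
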