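import Cfsg.Agent.Lib.SymChar.Conjugate
import Mathlib.Tactic.LinearCombination
import Mathlib.LinearAlgebra.Vandermonde
import Mathlib.RingTheory.Polynomial.Pochhammer
import Mathlib.NumberTheory.Padics.PadicVal.Basic
import Mathlib.Data.Nat.Factorization.Basic

/-!
# The degree formula for sets of beta numbers and its `p`-part

`chiX l 1^n * ∏ (l i)! = n! * ∏_{i<j} (l j - l i)`; so the `p`-part of the degree is that of
`n! / (p w)!` times a number computed from the runners.
-/

namespace Cfsg.Agent.SymChar

open Finset Equiv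

variable {N : ℕ}

/-- The Vandermonde determinant of a tuple, in falling factorials. -/
def fallDet (l : Fin N → ℕ) : ℤ :=
  ∑ σ : Equiv.Perm (Fin N), (Equiv.Perm.sign σ : ℤ) * ∏ k, ((l k).descFactorial (σ k : ℕ) : ℤ)

theorem fallDet_eq_vandermonde (l : Fin N → ℕ) :
    fallDet l = (Matrix.vandermonde fun i => (l i : ℤ)).det := by
  rw [Matrix.det_eval_matrixOfPolynomials_eq_det_vandermonde (fun i => (l i : ℤ))
    (fun i => descPochhammer ℤ i) (fun i => descPochhammer_natDegree ℤ i)
    (fun i => monic_descPochhammer ℤ i), fallDet, ← Matrix.det_transpose, Matrix.det_apply']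
  refine Finset.sum_congr rfl fun σ _ => ?_
  simp [descPochhammer_eval_eq_descFactorial]

theorem fallDet_comp (l : Fin N → ℕ) (τ : Equiv.Perm (Fin N)) :
    fallDet (l ∘ τ) = (Equiv.Perm.sign τ : ℤ) * fallDet l := by
  rw [fallDet_eq_vandermonde, fallDet_eq_vandermonde]
  exact Matrix.det_permute τ (Matrix.vandermonde fun i => (l i : ℤ))

theorem fallDet_eq_zero {l : Fin N → ℕ} (h : ¬ Function.Injective l) : fallDet l = 0 := by
  rw [fallDet_eq_vandermonde]
  by_contra h'
  exact h fun a b hab => Matrix.det_vandermonde_ne_zero_iff.1 h' (by simp [hab])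

theorem fallDet_val : fallDet (fun i : Fin N => (i : ℕ)) = ∏ i : Fin N, ((i : ℕ).factorial : ℤ) := by
  rw [fallDet, Finset.sum_eq_single (1 : Equiv.Perm (Fin N))]
  · simp [Nat.descFactorial_self]
  · intro σ _ hσ
    obtain ⟨k, hk⟩ : ∃ k : Fin N, (k : ℕ) < (σ k : ℕ) := by
      by_contra! h
      refine hσ (Equiv.ext fun k => ?_)
      have hsum : ∑ k, ((σ k : Fin N) : ℕ) = ∑ k, ((k : Fin N) : ℕ) :=
        Equiv.sum_comp σ fun k => (k : ℕ)
      exact Fin.ext ((Finset.sum_eq_sum_iff_of_le fun k _ => h k).1 hsum k (Finset.mem_univ k))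
    rw [Finset.prod_eq_zero (Finset.mem_univ k), mul_zero]
    rw [Nat.descFactorial_eq_zero_iff_lt.2 hk, Nat.cast_zero]
  · simp

/-- Lowering one entry at a time. -/
theorem sum_mul_fallDet_dec (l : Fin N → ℕ) :
    ∑ i, (l i : ℤ) * fallDet (dec l i 1) = ((∑ i, (l i : ℤ)) - baseSum N) * fallDet l := by
  simp only [fallDet, Finset.mul_sum]
  rw [Finset.sum_comm]
  refine Finset.sum_congr rfl fun σ _ => ?_
  have hkey : ∀ i, (l i : ℤ) * ∏ k, ((dec l i 1 k).descFactorial (σ k : ℕ) : ℤ) =
      ((l i : ℤ) - (σ i : ℕ)) * ∏ k, ((l k).descFactorial (σ k : ℕ) : ℤ) := by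
    intro i
    rw [← Finset.mul_prod_erase _ _ (Finset.mem_univ i),
      ← Finset.mul_prod_erase _ (fun k => ((l k).descFactorial (σ k : ℕ) : ℤ)) (Finset.mem_univ i),
      Finset.prod_congr rfl fun k hk => show ((dec l i 1 k).descFactorial (σ k : ℕ) : ℤ) =
        ((l k).descFactorial (σ k : ℕ) : ℤ) by rw [dec_ne (Finset.mem_erase.1 hk).1],
      ← mul_assoc, ← mul_assoc]
    congr 1
    rw [dec_self_image]
    set j := (σ i : ℕ)
    rcases Nat.eq_zero_or_pos (l i) with h | h
    · rw [h]
      rcases Nat.eq_zero_or_pos j with hj | hj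
      · simp [hj]
      · simp [Nat.descFactorial_eq_zero_iff_lt.2 hj]
    obtain ⟨m, hm⟩ : ∃ m, l i = m + 1 := ⟨l i - 1, by omega⟩
    rw [hm, Nat.add_sub_cancel, ← Nat.cast_mul, ← Nat.succ_descFactorial_succ,
      Nat.descFactorial_succ, Nat.cast_mul]
    rcases le_or_gt j (m + 1) with hle | hlt
    · rw [Nat.cast_sub hle]
    · simp [Nat.descFactorial_eq_zero_iff_lt.2 hlt]
  calc ∑ i, (l i : ℤ) * ((Equiv.Perm.sign σ : ℤ) *
        ∏ k, ((dec l i 1 k).descFactorial (σ k : ℕ) : ℤ))
      = ∑ i, ((l i : ℤ) - (σ i : ℕ)) * ((Equiv.Perm.sign σ : ℤ) *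
          ∏ k, ((l k).descFactorial (σ k : ℕ) : ℤ)) :=
        Finset.sum_congr rfl fun i _ => by rw [mul_left_comm, hkey i, mul_left_comm]
    _ = _ := by
        rw [← Finset.sum_mul, Finset.sum_sub_distrib]
        congr 2
        rw [Equiv.sum_comp σ fun k => ((k : ℕ) : ℤ), baseSum, Nat.cast_sum,
          Fin.sum_univ_eq_sum_range fun k => (k : ℤ)]

/-- **The degree formula.** -/
theorem chiX_degree_formula : ∀ (n : ℕ) (l : Fin N → ℕ), ∑ i, l i = baseSum N + n →
    chiX l (Multiset.replicate n 1) * ∏ i, ((l i).factorial : ℤ) = n.factorial * fallDet l := by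
  intro n
  induction n with
  | zero =>
    intro l hsum
    by_cases hl : Function.Injective l
    · obtain ⟨σ, rfl⟩ := exists_perm_of_base hl (by simpa using hsum)
      rw [chiX_comp, fallDet_comp, fallDet_val, Multiset.replicate_zero, chiX_zero,
        detD_self Fin.val_injective]
      simp only [Nat.factorial_zero, Nat.cast_one, one_mul, mul_one, Function.comp_apply]
      rw [Equiv.prod_comp σ fun i : Fin N => ((i : ℕ).factorial : ℤ)]
    · rw [chiX_eq_zero hl, fallDet_eq_zero hl, zero_mul, mul_zero]
  | succ n ih =>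
    intro l hsum
    rw [Multiset.replicate_succ, chiX_cons, Finset.sum_mul]
    have hterm : ∀ i, (if 1 ≤ l i then chiX (dec l i 1) (Multiset.replicate n 1) else 0) *
        ∏ k, ((l k).factorial : ℤ) = (n.factorial : ℤ) * ((l i : ℤ) * fallDet (dec l i 1)) := by
      intro i
      split_ifs with h
      · have hd := ih (dec l i 1) (by have := sum_dec (l := l) h; omega)
        have hfac : ∏ k, ((l k).factorial : ℤ) = (l i : ℤ) * ∏ k, ((dec l i 1 k).factorial : ℤ) := by
          rw [← Finset.mul_prod_erase _ _ (Finset.mem_univ i),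
            ← Finset.mul_prod_erase _ (fun k => ((dec l i 1 k).factorial : ℤ)) (Finset.mem_univ i),
            Finset.prod_congr rfl fun k hk => show ((dec l i 1 k).factorial : ℤ) =
              ((l k).factorial : ℤ) by rw [dec_ne (Finset.mem_erase.1 hk).1],
            ← mul_assoc, dec_self_image]
          congr 1
          rw [← Nat.cast_mul, Nat.mul_factorial_pred (by omega)]
        rw [hfac]
        linear_combination (l i : ℤ) * hd
      · simp [show l i = 0 by omega]
    rw [Finset.sum_congr rfl fun i _ => hterm i, ← Finset.mul_sum, sum_mul_fallDet_dec,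
      show ((∑ i, (l i : ℤ)) - baseSum N) = ((n + 1 : ℕ) : ℤ) by
        rw [← Nat.cast_sum, hsum]; push_cast; ring,
      Nat.factorial_succ]
    push_cast
    ring

/-- The product of the differences. -/
def pairProd (S : Finset ℕ) : ℕ := ∏ x ∈ S, ∏ y ∈ S.filter (· < x), (x - y)

theorem pairProd_pos (S : Finset ℕ) : 0 < pairProd S :=
  Finset.prod_pos fun x _ => Finset.prod_pos fun y hy => by
    have := (Finset.mem_filter.1 hy).2
    omega

theorem fallDet_canon {S : Finset ℕ} (hS : S.card = N) :
    fallDet (canon N S) = (pairProd S : ℤ) := by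
  classical
  have hmono := canon_strictMono hS
  rw [fallDet_eq_vandermonde, Matrix.det_vandermonde]
  rw [Finset.prod_comm' (t' := Finset.univ) (s' := fun j => Finset.Iio j)
    (fun i j => by simp)]
  conv_rhs => rw [pairProd, ← image_canon hS, Finset.prod_image (canon_injective hS).injOn]
  push_cast
  refine Finset.prod_congr rfl fun j _ => ?_
  rw [show Finset.filter (fun y => y < canon N S j) (Finset.univ.image (canon N S)) =
      (Finset.Iio j).image (canon N S) by
    ext y
    simp only [Finset.mem_filter, Finset.mem_image, Finset.mem_univ, true_and, Finset.mem_Iio]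
    constructor
    · rintro ⟨⟨a, rfl⟩, h⟩; exact ⟨a, hmono.lt_iff_lt.1 h, rfl⟩
    · rintro ⟨a, ha, rfl⟩; exact ⟨⟨a, rfl⟩, hmono ha⟩,
    Finset.prod_image (canon_injective hS).injOn]
  refine Finset.prod_congr rfl fun i hi => ?_
  rw [Nat.cast_sub (hmono (Finset.mem_Iio.1 hi)).le]

/-- The degree attached to a set. -/
noncomputable def setDeg (S : Finset ℕ) (n : ℕ) : ℕ :=
  (chiX (canon S.card S) (Multiset.replicate n 1)).natAbs

theorem setDeg_mul {n : ℕ} {S : Finset ℕ} (hS : S ∈ Beta N n) :
    setDeg S n * ∏ x ∈ S, x.factorial = n.factorial * pairProd S := by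
  obtain ⟨hc, -⟩ := mem_Beta.1 hS
  subst hc
  have h := chiX_degree_formula n (canon S.card S) (sum_canon_of_mem hS)
  rw [fallDet_canon rfl, ← Nat.cast_prod, ← Nat.cast_mul n.factorial] at h
  have h' := congrArg Int.natAbs h
  rw [Int.natAbs_mul, Int.natAbs_natCast, Int.natAbs_natCast] at h'
  rw [setDeg, ← h']
  congr 1
  conv_lhs => rw [← image_canon (S := S) rfl, Finset.prod_image (canon_injective rfl).injOn]

theorem setDeg_pos {n : ℕ} {S : Finset ℕ} (hS : S ∈ Beta N n) : 0 < setDeg S n :=
  Nat.pos_of_ne_zero fun h => by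
    have := setDeg_mul hS
    rw [h, zero_mul] at this
    exact (Nat.mul_pos n.factorial_pos (pairProd_pos S)).ne this

theorem factorization_setDeg {n : ℕ} {S : Finset ℕ} (hS : S ∈ Beta N n) (p : ℕ) :
    (setDeg S n).factorization p + ∑ x ∈ S, x.factorial.factorization p =
      n.factorial.factorization p +
        ∑ x ∈ S, ∑ y ∈ S.filter (· < x), (x - y).factorization p := by
  have hne : ∏ x ∈ S, x.factorial ≠ 0 := Finset.prod_ne_zero_iff.2 fun x _ => x.factorial_ne_zero
  have hin : ∀ x, ∀ y ∈ S.filter (· < x), x - y ≠ 0 := fun x y hy => by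
    have := (Finset.mem_filter.1 hy).2
    omega
  have h := congrArg (fun m => m.factorization p) (setDeg_mul hS)
  simp only [Nat.factorization_mul (setDeg_pos hS).ne' hne,
    Nat.factorization_mul n.factorial_ne_zero (pairProd_pos S).ne', Finsupp.add_apply] at h
  rw [Nat.factorization_prod fun x _ => x.factorial_ne_zero, pairProd,
    Nat.factorization_prod fun x _ => Finset.prod_ne_zero_iff.2 (hin x)] at h
  simp only [Finsupp.coe_finsetSum, Finset.sum_apply] at h
  rw [h]
  congr 1
  refine Finset.sum_congr rfl fun x _ => ?_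
  rw [Nat.factorization_prod (hin x), Finsupp.coe_finsetSum, Finset.sum_apply]

theorem factorization_factorial_mul_add {p : ℕ} (hp : p.Prime) {r : ℕ} (hr : r < p) (a : ℕ) :
    (r + p * a).factorial.factorization p = a + a.factorial.factorization p := by
  haveI : Fact p.Prime := ⟨hp⟩
  rw [Nat.factorization_def _ hp, Nat.factorization_def _ hp, add_comm r,
    padicValNat_factorial_mul_add a hr, padicValNat_factorial_mul, add_comm]

theorem factorization_sub_runner {p : ℕ} (hp : p.Prime) {r a b : ℕ} (hab : b < a) :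
    (r + p * a - (r + p * b)).factorization p = 1 + (a - b).factorization p := by
  rw [Nat.add_sub_add_left, ← Nat.mul_sub, Nat.factorization_mul hp.ne_zero (by omega),
    Finsupp.add_apply, hp.factorization_self]

/-- **The `p`-part of the degree in terms of the runners.** -/
theorem factorization_setDeg_runner {p n : ℕ} (hp : p.Prime) {S : Finset ℕ} (hS : S ∈ Beta N n)
    {q : ℕ → ℕ} (hkey : resKey p (canon N S) = q) :
    (setDeg S n).factorization p + (p * keyWeight N p n q).factorial.factorization p +
        ∑ r ∈ Finset.range p, ((∑ x ∈ runner p S r, x) - baseSum (q r)).factorial.factorization p =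
      n.factorial.factorization p + (keyWeight N p n q).factorial.factorization p +
        ∑ r ∈ Finset.range p,
          (setDeg (runner p S r) ((∑ x ∈ runner p S r, x) - baseSum (q r))).factorization p := by
  classical
  set w : ℕ → ℕ := fun r => (∑ x ∈ runner p S r, x) - baseSum (q r) with hw
  have hp0 := hp.pos
  have hR : ∀ r, runner p S r ∈ Beta (q r) (w r) := fun r => by
    obtain ⟨hc, hle⟩ := baseSum_le_runner (r := r) hS hkey
    exact mem_Beta.2 ⟨hc, by simp only [hw]; omega⟩
  have hmem : ∀ r, r < p → ∀ a, a ∈ runner p S r ↔ r + p * a ∈ S := by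
    intro r hr a
    constructor
    · intro h
      obtain ⟨x, hx, rfl⟩ := Finset.mem_image.1 h
      obtain ⟨h1, h2⟩ := Finset.mem_filter.1 hx
      rwa [← h2, Nat.mod_add_div]
    · intro h
      refine Finset.mem_image.2 ⟨r + p * a, Finset.mem_filter.2 ⟨h, ?_⟩, ?_⟩
      · rw [Nat.add_mul_mod_self_left, Nat.mod_eq_of_lt hr]
      · rw [Nat.add_mul_div_left _ _ hp0, Nat.div_eq_of_lt hr, Nat.zero_add]
  -- sort a sum over the set by residues
  have hsort : ∀ f : ℕ → ℕ, ∑ x ∈ S, f x =
      ∑ r ∈ Finset.range p, ∑ a ∈ runner p S r, f (r + p * a) := by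
    intro f
    rw [← Finset.sum_fiberwise_of_maps_to (g := fun x => x % p) (t := Finset.range p)
      fun x _ => Finset.mem_range.2 (Nat.mod_lt _ hp0)]
    refine Finset.sum_congr rfl fun r hr => ?_
    have hr := Finset.mem_range.1 hr
    refine Finset.sum_bij' (fun x _ => x / p) (fun a _ => r + p * a) ?_ ?_ ?_ ?_ ?_
    · intro x hx
      obtain ⟨h1, h2⟩ := Finset.mem_filter.1 hx
      rw [hmem r hr, ← h2, Nat.mod_add_div]
      exact h1
    · intro a ha
      exact Finset.mem_filter.2 ⟨(hmem r hr a).1 ha,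
        by rw [Nat.add_mul_mod_self_left, Nat.mod_eq_of_lt hr]⟩
    · intro x hx
      rw [← (Finset.mem_filter.1 hx).2, Nat.mod_add_div]
    · intro a ha
      rw [Nat.add_mul_div_left _ _ hp0, Nat.div_eq_of_lt hr, Nat.zero_add]
    · intro x hx
      rw [← (Finset.mem_filter.1 hx).2, Nat.mod_add_div]
  have h := factorization_setDeg hS p
  rw [hsort (fun x => x.factorial.factorization p),
    hsort (fun x => ∑ y ∈ S.filter (· < x), (x - y).factorization p)] at h
  -- the factorials
  have h1 : ∑ r ∈ Finset.range p, ∑ a ∈ runner p S r, (r + p * a).factorial.factorization p =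
      keyWeight N p n q + (∑ r ∈ Finset.range p, baseSum (q r)) +
        ∑ r ∈ Finset.range p, ∑ a ∈ runner p S r, a.factorial.factorization p := by
    rw [← sum_runner_weight hp0 hS hkey, ← Finset.sum_add_distrib, ← Finset.sum_add_distrib]
    refine Finset.sum_congr rfl fun r hr => ?_
    rw [Finset.sum_congr rfl fun a _ =>
      factorization_factorial_mul_add hp (Finset.mem_range.1 hr) a, Finset.sum_add_distrib]
    have := (baseSum_le_runner (r := r) hS hkey).2
    omega
  -- the differences
  have h2 : ∀ r < p, ∀ a ∈ runner p S r,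
      ∑ y ∈ S.filter (· < r + p * a), (r + p * a - y).factorization p =
        ∑ b ∈ (runner p S r).filter (· < a), (1 + (a - b).factorization p) := by
    intro r hr a _
    rw [← Finset.sum_filter_add_sum_filter_not (S.filter (· < r + p * a)) (fun y => y % p = r),
      Finset.sum_eq_zero (s := (S.filter (· < r + p * a)).filter fun y => ¬ y % p = r) fun y hy => by
        obtain ⟨hy1, hy2⟩ := Finset.mem_filter.1 hy
        refine Nat.factorization_eq_zero_of_not_dvd fun hd => hy2 ?_
        have hlt := (Finset.mem_filter.1 hy1).2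
        have := (Nat.modEq_iff_dvd' hlt.le).2 hd
        rw [Nat.ModEq, Nat.add_mul_mod_self_left, Nat.mod_eq_of_lt hr] at this
        exact this,
      add_zero]
    refine Finset.sum_bij' (fun y _ => y / p) (fun b _ => r + p * b) ?_ ?_ ?_ ?_ ?_
    · intro y hy
      obtain ⟨hy1, hy2⟩ := Finset.mem_filter.1 hy
      obtain ⟨hy3, hy4⟩ := Finset.mem_filter.1 hy1
      rw [← Nat.mod_add_div y p, hy2] at hy3 hy4
      exact Finset.mem_filter.2 ⟨(hmem r hr _).2 hy3,
        Nat.lt_of_mul_lt_mul_left (Nat.lt_of_add_lt_add_left hy4)⟩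
    · intro b hb
      obtain ⟨hb1, hb2⟩ := Finset.mem_filter.1 hb
      exact Finset.mem_filter.2 ⟨Finset.mem_filter.2 ⟨(hmem r hr b).1 hb1,
        Nat.add_lt_add_left (Nat.mul_lt_mul_of_pos_left hb2 hp0) r⟩,
        by rw [Nat.add_mul_mod_self_left, Nat.mod_eq_of_lt hr]⟩
    · intro y hy
      rw [← (Finset.mem_filter.1 hy).2, Nat.mod_add_div]
    · intro b hb
      rw [Nat.add_mul_div_left _ _ hp0, Nat.div_eq_of_lt hr, Nat.zero_add]
    · intro y hy
      obtain ⟨hy1, hy2⟩ := Finset.mem_filter.1 hy
      have hy4 := (Finset.mem_filter.1 hy1).2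
      rw [← Nat.mod_add_div y p, hy2] at hy4
      conv_lhs => rw [← Nat.mod_add_div y p, hy2]
      exact factorization_sub_runner hp (Nat.lt_of_mul_lt_mul_left (Nat.lt_of_add_lt_add_left hy4))
  have h3 : ∑ r ∈ Finset.range p, ∑ a ∈ runner p S r,
      ∑ y ∈ S.filter (· < r + p * a), (r + p * a - y).factorization p =
      (∑ r ∈ Finset.range p, baseSum (q r)) + ∑ r ∈ Finset.range p, ∑ a ∈ runner p S r,
        ∑ b ∈ (runner p S r).filter (· < a), (a - b).factorization p := by
    rw [← Finset.sum_add_distrib]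
    refine Finset.sum_congr rfl fun r hr => ?_
    rw [Finset.sum_congr rfl fun a ha => h2 r (Finset.mem_range.1 hr) a ha]
    simp only [Finset.sum_add_distrib, Finset.sum_const, smul_eq_mul, mul_one]
    congr 1
    have hb := sum_below (s := runner p S r) (g := fun x => x) Function.injective_id.injOn
    rw [(baseSum_le_runner (r := r) hS hkey).1] at hb
    exact hb
  have hrun : ∑ r ∈ Finset.range p, (setDeg (runner p S r) (w r)).factorization p +
      ∑ r ∈ Finset.range p, ∑ a ∈ runner p S r, a.factorial.factorization p =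
      ∑ r ∈ Finset.range p, (w r).factorial.factorization p + ∑ r ∈ Finset.range p,
        ∑ a ∈ runner p S r, ∑ b ∈ (runner p S r).filter (· < a), (a - b).factorization p := by
    rw [← Finset.sum_add_distrib, ← Finset.sum_add_distrib]
    exact Finset.sum_congr rfl fun r _ => factorization_setDeg (hR r) p
  have h4 : (p * keyWeight N p n q).factorial.factorization p =
      keyWeight N p n q + (keyWeight N p n q).factorial.factorization p := by
    simpa using factorization_factorial_mul_add hp hp0 (keyWeight N p n q)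
  rw [h1, h3] at h
  simp only [hw] at hrun ⊢
  omega

end Cfsg.Agent.SymChar
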