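import Cfsg.Agent.Lib.SymChar.AltDefect
import Cfsg.Agent.Lib.SymChar.DegreeFormula
import Cfsg.Agent.Lib.Blocks.NormalPair

/-!
# Characters with equal residue counts lie in one block
-/

namespace Cfsg.Agent.SymChar

open Finset Equiv Cfsg
open scoped ComplexConjugate

set_option linter.style.haveILetI false
set_option linter.unusedSectionVars false

variable {N n : ℕ}

theorem degree_irrOf {S : Finset ℕ} (hS : S ∈ Beta N n) :
    Char.degree (irrOf S hS) = setDeg S n := by
  obtain ⟨ε, hε, hv⟩ := irrOf_spec hS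
  have h := hv 1
  rw [Char.apply_one_eq_degree, cycParts_one] at h
  have h' : (Char.degree (irrOf S hS) : ℤ) = ε * chiX (canon N S) (Multiset.replicate n 1) := by
    exact_mod_cast h
  have h'' := congrArg Int.natAbs h'
  obtain ⟨hc, -⟩ := mem_Beta.1 hS
  subst hc
  rw [Int.natAbs_natCast, Int.natAbs_mul] at h''
  rw [h'', setDeg]
  rcases Int.isUnit_iff.1 (IsUnit.of_mul_eq_one ε hε) with h1 | h1 <;> simp [h1]

theorem setDeg_zero {S : Finset ℕ} (hS : S ∈ Beta N 0) : setDeg S 0 = 1 := by
  obtain ⟨hc, hs⟩ := mem_Beta.1 hS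
  subst hc
  obtain ⟨σ, hσ⟩ := exists_perm_of_base (canon_injective (S := S) rfl)
    (by rw [sum_canon_of_mem hS, add_zero])
  rw [setDeg, hσ, Multiset.replicate_zero]
  rw [chiX_comp, chiX_zero, detD_self Fin.val_injective, mul_one]
  exact Int.units_natAbs _

theorem keyWeight_zero_runner {p r : ℕ} (hp : 0 < p) {q : ℕ → ℕ} {S : Finset ℕ}
    (hS : S ∈ Beta N n) (hkey : resKey p (canon N S) = q) (hW : keyWeight N p n q = 0)
    (hr : r < p) : runner p S r = Finset.range (q r) := by
  obtain ⟨hc, hle⟩ := baseSum_le_runner (r := r) hS hkey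
  refine eq_range_of_sum hc ?_
  have h := sum_runner_weight hp hS hkey
  rw [hW, Finset.sum_eq_zero_iff] at h
  have := h r (Finset.mem_range.2 hr)
  omega

/-- The set of beta numbers of the core. -/
theorem exists_core {p : ℕ} (hp : 0 < p) {S : Finset ℕ} (hS : S ∈ Beta N n) {q : ℕ → ℕ}
    (hkey : resKey p (canon N S) = q) :
    ∃ c ∈ Beta N (n - keyWeight N p n q * p), resKey p (canon N c) = q ∧
      keyWeight N p (n - keyWeight N p n q * p) q = 0 ∧
      ∃ σ : Equiv.Perm (Fin N), coreT p (canon N S) = canon N c ∘ σ := by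
  have hinj := canon_injective (mem_Beta.1 hS).1
  have hW : keyWeight N p n q = pWeight p (canon N S) := by
    rw [← hkey]; exact keyWeight_eq hp hinj (sum_canon_of_mem hS)
  have hcinj := coreT_injective hp hinj (p := p)
  have hle := weight_mul_le hp hS
  have hsum := sum_eq_coreSum_add hp hinj
  rw [sum_canon_of_mem hS, hkey, Nat.mul_comm] at hsum
  have hcore : ∑ i, coreT p (canon N S) i = coreSum p q := by rw [sum_coreT hp hinj, hkey]
  have hbase := baseSum_le_sum hcinj
  have hcsum : ∑ i, coreT p (canon N S) i = baseSum N + (n - keyWeight N p n q * p) := by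
    rw [hW] ; omega
  obtain ⟨σ, hσ⟩ := exists_canon_perm hcinj
  have hσ' : coreT p (canon N S) = canon N (Finset.univ.image (coreT p (canon N S))) ∘ σ.symm := by
    rw [hσ]; funext a; simp
  refine ⟨_, image_mem_Beta hcinj hcsum, ?_, ?_, σ.symm, hσ'⟩
  · rw [← hkey, ← resKey_congr (coreT_mod (p := p) (canon N S)), hσ, resKey_comp]
  · rw [keyWeight, ← hcsum, hcore, Nat.sub_self, Nat.zero_div]

theorem core_unique {p : ℕ} (hp : 0 < p) {q : ℕ → ℕ} {c d : Finset ℕ} (hc : c ∈ Beta N n)
    (hd : d ∈ Beta N n) (hcq : resKey p (canon N c) = q) (hdq : resKey p (canon N d) = q)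
    (hW : keyWeight N p n q = 0) : c = d :=
  ext_of_runner hp fun r hr => by
    rw [keyWeight_zero_runner hp hc hcq hW hr, keyWeight_zero_runner hp hd hdq hW hr]

/-- Regular elements commuting with the rotations fix the moved points. -/
theorem fix_of_commute_rot {p : ℕ} (hp : p.Prime) {x σ : Equiv.Perm (Fin n)} (hx : x ^ p = 1)
    (hreg : IsPRegular p σ) (hcomm : ∀ e ∈ rotGroup x, σ * e = e * σ) {a : Fin n}
    (ha : a ∈ x.support) : σ a = a := by
  classical
  have hxm : x ∈ rotGroup x := ⟨Commute.refl x, fun b => ⟨1, by simp⟩⟩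
  set c := x.cycleOf a with hc
  have hcmem : c ∈ x.cycleFactorsFinset := Equiv.Perm.cycleOf_mem_cycleFactorsFinset_iff.2 ha
  have hcrot : c ∈ rotGroup x := ⟨Equiv.Perm.self_mem_cycle_factors_commute hcmem, fun b => by
    rw [hc, Equiv.Perm.cycleOf_apply]
    split_ifs with h
    · exact ⟨1, by simp⟩
    · exact Equiv.Perm.SameCycle.refl x b⟩
  have hmove : c a ≠ a := by
    rw [hc, Equiv.Perm.cycleOf_apply_self]; exact Equiv.Perm.mem_support.1 ha
  obtain ⟨i, hi⟩ : x.SameCycle a (σ a) := by
    by_contra hns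
    have h1 : c (σ a) = σ a := by rw [hc, Equiv.Perm.cycleOf_apply, if_neg hns]
    have h2 := congrFun (congrArg DFunLike.coe (hcomm c hcrot)) a
    simp only [Equiv.Perm.mul_apply, h1] at h2
    exact hmove (σ.injective h2)
  have hcx : Commute σ x := hcomm x hxm
  have hpow : ∀ m : ℕ, (σ ^ m) a = (x ^ (i * (m : ℤ))) a := fun m => by
    induction m with
    | zero => simp
    | succ m ih =>
      rw [pow_succ', Equiv.Perm.mul_apply, ih, ← Equiv.Perm.mul_apply,
        (hcx.zpow_right _).eq, Equiv.Perm.mul_apply, ← hi, ← Equiv.Perm.mul_apply, ← zpow_add]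
      congr 2
      push_cast
      ring
  have h1 := hpow (orderOf σ)
  rw [pow_orderOf_eq_one, Equiv.Perm.one_apply] at h1
  by_cases hdvd : (p : ℤ) ∣ i
  · obtain ⟨j, rfl⟩ := hdvd
    rw [← hi, zpow_mul, zpow_natCast, hx, one_zpow, Equiv.Perm.one_apply]
  · exfalso
    refine Equiv.Perm.mem_support.1 ha ?_
    have hd : ¬ (p : ℤ) ∣ i * (orderOf σ : ℤ) := fun h =>
      ((Nat.prime_iff_prime_int.1 hp).dvd_or_dvd h).elim hdvd
        (fun h' => hreg (Int.natCast_dvd_natCast.1 h'))
    obtain ⟨u, v, huv⟩ := (Nat.prime_iff_prime_int.1 hp).coprime_iff_not_dvd.2 hd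
    have hfix : ∀ v : ℤ, ((x ^ (i * (orderOf σ : ℤ))) ^ v) a = a := fun v =>
      Equiv.Perm.zpow_apply_eq_self_of_apply_eq_self h1.symm v
    conv_lhs => rw [← zpow_one x, ← huv, zpow_add, mul_comm u, zpow_mul, zpow_natCast, hx, one_zpow,
      one_mul, mul_comm v, zpow_mul]
    exact hfix v

theorem chiL_inclA_blockIdem {G : Type*} [Group G] [Finite G] {H : Subgroup G} [Fintype H]
    {χ : G → ℂ} (hχ : IsClassFunction G χ) (U : Set (IrrCharacter H)) (h : H) :
    Blocks.chiL χ (Blocks.inclA H (Blocks.blockIdem U) * MonoidAlgebra.single (h : G) 1) =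
      blockPart U (Char.resFun H χ) h := by
  rw [Blocks.chiL_inclA_mul_single, ← Blocks.sum_mul_blockCoeff
    (θ := Char.resFun H χ) (fun a b => by simpa using hχ (a : G) (b : G)) U h]
  refine Fintype.sum_equiv (Equiv.mulRight h) _ _ fun k => ?_
  simp only [Equiv.coe_mulRight, Char.resFun_apply, Blocks.coeff_blockIdem, Subgroup.coe_mul,
    mul_inv_cancel_right]
  ring

theorem apply_mul_of_central {G : Type*} [Group G] [Finite G] (χ : IrrCharacter G) {z : G}
    (hz : ∀ g, Commute z g) (g : G) : χ.1 (z * g) * χ.1 1 = χ.1 z * χ.1 g := by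
  classical
  have hzc : Blocks.IsCentralElt (MonoidAlgebra.single z (1 : ℂ)) := fun a c => by
    have : a = z ↔ c * a * c⁻¹ = z := by
      constructor
      · rintro rfl; rw [← (hz c).eq, mul_inv_cancel_right]
      · intro h
        calc a = c⁻¹ * (c * a * c⁻¹) * c := by group
          _ = z := by rw [h, mul_assoc, (hz c).eq, inv_mul_cancel_left]
    simp only [MonoidAlgebra.coeff_single, Finsupp.single_apply]
    rw [if_congr (eq_comm.trans (this.trans eq_comm)) rfl rfl]
  have h := Blocks.chiL_mul_of_central χ hzc (MonoidAlgebra.single g 1)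
  rw [MonoidAlgebra.single_mul_single, one_mul, Blocks.chiL_single, one_mul, Blocks.omega,
    Blocks.chiL_single, one_mul, Blocks.chiL_single, one_mul] at h
  rw [h, div_mul_eq_mul_div, div_mul_cancel₀ _ (Blocks.irr_one_ne_zero χ)]

section Generic

variable {G : Type*} [Group G] [Fintype G] {p : ℕ} [hp : Fact p.Prime] {I : Ideal AlgInt}
  [I.IsMaximal] {x : G} (R : Subgroup (Subgroup.centralizer ({x} : Set G))) [R.Normal]
  [Fintype R] [Fintype (Subgroup.centralizer ({x} : Set G))]

/-- The characters of the centralizer over an invariant character of a normal subgroup. -/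
def overSet (β : IrrCharacter R) : Set (IrrCharacter (Subgroup.centralizer ({x} : Set G))) :=
  {ψ | classInner (Char.resFun R ψ.1) β.1 ≠ 0}

theorem isBlockUnion_overSet {β : IrrCharacter R} (hβ : blockOf I β.1 = {β}) :
    Blocks.IsBlockUnion I (overSet R β) := by
  intro ψ hψ ψ' hψ'
  obtain ⟨η, hη⟩ := Char.exists_constituent R ψ'
  obtain ⟨g, hg⟩ := BlocksX.exists_conj_mem_of_congr R (Blocks.isPBlock_blockOf (M := I) β)
    (Blocks.mem_blockOf_self β) (η := η) fun m => by
      rw [← BlocksX.centralChar_eq_of_constituent R ψ β hψ,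
        ← BlocksX.centralChar_eq_of_constituent R ψ' η hη]
      exact hψ' _
  rw [hβ, Set.mem_singleton_iff] at hg
  show classInner (Char.resFun R ψ'.1) β.1 ≠ 0
  rwa [← hg, Char.conjChar_coe, Char.classInner_resFun_conjFun R (Blocks.irr_classFun ψ')]

/-- A character with a component on an invariant block of defect zero of a normal subgroup of
`C(x)`, on `x` times that subgroup, has its block induced from a block above it. -/
theorem exists_inducing (hpI : (p : AlgInt) ∈ I) (hx : ∃ k, orderOf x = p ^ k)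
    (β : IrrCharacter R) (hβ : blockOf I β.1 = {β})
    (hinv : ∀ g : Subgroup.centralizer ({x} : Set G), Char.conjChar R β g = β) (χ : IrrCharacter G)
    (hne : classInner (fun y : R =>
      χ.1 (x * ((y : Subgroup.centralizer ({x} : Set G)) : G))) β.1 ≠ 0) :
    ∃ ψ ∈ overSet R β, IsInducedBlock I (Subgroup.centralizer ({x} : Set G))
      (blockOf I ψ.1) (blockOf I χ.1) := by
  classical
  by_contra hno
  let xH : Subgroup.centralizer ({x} : Set G) := ⟨x, Subgroup.mem_centralizer_singleton_iff.2 rfl⟩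
  have hxH : ∀ g : Subgroup.centralizer ({x} : Set G), Commute xH g := fun g =>
    Subtype.ext (Subgroup.mem_centralizer_singleton_iff.1 g.2).symm
  have hpp : IsPPart p ((xH : Subgroup.centralizer ({x} : Set G)) : G) x :=
    ⟨1, mul_one x, Commute.one_right x, hx, by simp [hp.out.ne_one]⟩
  have h0 : Blocks.chiL χ.1 (Blocks.inclA _ (Blocks.blockIdem (overSet R β)) *
      MonoidAlgebra.single (xH : G) 1) = 0 := by
    rw [(isBlockUnion_overSet R hβ).blockIdem_eq, map_sum, Finset.sum_mul, Blocks.chiL_sum]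
    refine Finset.sum_eq_zero fun b hb => ?_
    obtain ⟨ψ, hψ, rfl⟩ := Finset.mem_image.1 hb
    exact Blocks.second_main_centralizer hpI hx (Blocks.isPBlock_blockOf ψ)
      (fun h => hno ⟨ψ, (Finset.mem_filter.1 hψ).2, h⟩) hpp
  rw [chiL_inclA_blockIdem (Blocks.irr_classFun χ)] at h0
  let ρ := Char.resFun (Subgroup.centralizer ({x} : Set G)) χ.1
  obtain ⟨m, hm, hm'⟩ := Char.IsCharacter.exists_decomp (G := Subgroup.centralizer ({x} : Set G))
    (show IsCharacter _ ρ from Char.IsCharacter.restrict (Char.irr_isCharacter χ) _)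
  have hres : ∀ ψ ∈ overSet R β,
      ψ.1 1 = classInner (Char.resFun R ψ.1) β.1 * β.1 1 := by
    intro ψ hψ
    have horb : Char.orbitFinset R β = {β} := by
      ext η
      rw [Char.mem_orbitFinset, Finset.mem_singleton]
      exact ⟨fun ⟨g, hg⟩ => hg.trans (hinv g), fun h => ⟨1, by rw [h, hinv]⟩⟩
    have h := congrFun (Char.resFun_eq_smul_orbitSum R ψ β hψ) 1
    simpa [Char.orbitSum, horb] using h
  refine hne ?_
  have hFsum : (fun y : R => χ.1 (x * ((y : Subgroup.centralizer ({x} : Set G)) : G))) =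
      ∑ φ : IrrCharacter (Subgroup.centralizer ({x} : Set G)),
        ((m φ : ℂ) * (φ.1 xH / φ.1 1)) • Char.resFun R φ.1 := by
    funext y
    show ρ (xH * (y : Subgroup.centralizer ({x} : Set G))) = _
    rw [hm, Finset.sum_apply, Finset.sum_apply]
    refine Finset.sum_congr rfl fun φ _ => ?_
    simp only [Pi.smul_apply, smul_eq_mul, Char.resFun_apply]
    rw [mul_assoc, div_mul_eq_mul_div, ← apply_mul_of_central φ hxH,
      mul_div_cancel_right₀ _ (Blocks.irr_one_ne_zero φ)]
  rw [blockPart, finsum_mem_eq_sum_of_inter_support_eq _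
    (t := Finset.univ.filter (· ∈ overSet R β)) (by ext; simp)] at h0
  rw [hFsum, Char.classInner_sum_left]
  have hterm : ∀ φ : IrrCharacter (Subgroup.centralizer ({x} : Set G)),
      classInner (((m φ : ℂ) * (φ.1 xH / φ.1 1)) • Char.resFun R φ.1) β.1 =
        if φ ∈ overSet R β then classInner ρ φ.1 * φ.1 xH / β.1 1 else 0 := by
    intro φ
    rw [Char.classInner_smul_left]
    by_cases hφ : φ ∈ overSet R β
    · rw [if_pos hφ, hres φ hφ, hm' φ]
      have ha : classInner (Char.resFun R φ.1) β.1 ≠ 0 := hφ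
      field_simp
    · rw [if_neg hφ, not_not.1 hφ, mul_zero]
  rw [Finset.sum_congr rfl fun φ _ => hterm φ, ← Finset.sum_filter, ← Finset.sum_div]
  refine (congrArg (· / β.1 1) ?_).trans (zero_div _)
  rw [← h0]
  refine Finset.sum_congr (by ext; simp) fun φ _ => congrArg (fun z : ℂ => z * φ.1 xH) ?_
  congr 1
  exact Subsingleton.elim _ _

/-- The induced central characters above `β` agree at regular classes when the regular elements
centralising a normal `p`-subgroup lie in the normal subgroup. -/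
theorem inducedCentralChar_agree (hpI : (p : AlgInt) ∈ I) (β : IrrCharacter R)
    (Q : Subgroup (Subgroup.centralizer ({x} : Set G))) [Q.Normal] (hQ : IsPGroup p Q)
    (hR : ∀ k : Subgroup.centralizer ({x} : Set G), IsPRegular p (k : G) →
      k ∈ Subgroup.centralizer (Q : Set (Subgroup.centralizer ({x} : Set G))) → k ∈ R)
    {ψ ψ' : IrrCharacter (Subgroup.centralizer ({x} : Set G))} (hψ : ψ ∈ overSet R β)
    (hψ' : ψ' ∈ overSet R β) {g : G} (hg : IsPRegular p g) :
    MemLocalIdeal I (inducedCentralChar (Subgroup.centralizer ({x} : Set G)) ψ.1 g -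
      inducedCentralChar (Subgroup.centralizer ({x} : Set G)) ψ'.1 g) := by
  classical
  haveI := Fintype.ofFinite (ConjClasses (Subgroup.centralizer ({x} : Set G)))
  set z : MonoidAlgebra ℂ (Subgroup.centralizer ({x} : Set G)) :=
    Blocks.ofFun fun k : Subgroup.centralizer ({x} : Set G) =>
      if IsConj g (k : G) then (1 : ℂ) else 0 with hz
  have hzc : Blocks.IsCentralElt z := Blocks.isCentralElt_ofFun fun a b => by
    simp only [Subgroup.coe_mul, Subgroup.coe_inv, BlocksX.isConj_conj_iff]
  have hom : ∀ ξ : IrrCharacter (Subgroup.centralizer ({x} : Set G)),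
      inducedCentralChar (Subgroup.centralizer ({x} : Set G)) ξ.1 g = Blocks.omega ξ.1 z :=
    fun ξ => by
      rw [hz, BlocksX.omega_ofFun, BlocksX.inducedCentralChar_eq]
      simp only [ite_mul, one_mul, zero_mul, Finset.sum_filter]
  rw [hom, hom, Blocks.omega_eq_sum_classes _ hzc, Blocks.omega_eq_sum_classes _ hzc,
    ← Finset.sum_sub_distrib]
  refine Blocks.MemLocalIdeal.sum _ fun C _ => ?_
  simp only [hz, Blocks.coeff_ofFun]
  by_cases hgC : IsConj g ((C.out : Subgroup.centralizer ({x} : Set G)) : G)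
  swap
  · simp only [if_neg hgC, zero_mul, sub_zero]
    exact Blocks.memLocalIdeal_zero
  simp only [if_pos hgC, one_mul]
  by_cases hCR : C.out ∈ R
  · have h1 := BlocksX.centralChar_eq_of_constituent R ψ β hψ ⟨_, hCR⟩
    have h2 := BlocksX.centralChar_eq_of_constituent R ψ' β hψ' ⟨_, hCR⟩
    simp only at h1 h2
    rw [h1, h2, sub_self]
    exact Blocks.memLocalIdeal_zero
  · have hE : ∀ ξ : IrrCharacter (Subgroup.centralizer ({x} : Set G)),
        MemLocalIdeal I (centralChar ξ.1 C.out) := by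
      intro ξ
      by_contra hξ
      obtain ⟨k, hk, hkQ⟩ := Blocks.exists_conj_mem_centralizer hpI (Q := Q) hQ hξ
      refine hCR ?_
      obtain ⟨w, hw⟩ := isConj_iff.1 hk
      obtain ⟨v, hv⟩ := isConj_iff.1 (hgC.trans ((Subgroup.subtype _).map_isConj hk))
      have hkR : k ∈ R := by
        refine hR k ?_ hkQ
        show ¬ p ∣ orderOf (k : G)
        rw [show (k : G) = MulAut.conj v g from hv.symm, MulEquiv.orderOf_eq]
        exact hg
      rw [show C.out = w⁻¹ * k * w by rw [← hw]; group]
      simpa using Subgroup.Normal.conj_mem inferInstance k hkR w⁻¹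
    exact Blocks.MemLocalIdeal.sub (hE ψ) (hE ψ')

end Generic

/-- The values at `x * y` pair positively with the character of the core. -/
theorem classInner_core_ne_zero {p W r : ℕ} (hp : 0 < p) {X d : Finset ℕ} (hX : X ∈ Beta N n)
    (hXW : pWeight p (canon N X) = W) {σ : Equiv.Perm (Fin N)}
    (hσ : coreT p (canon N X) = canon N d ∘ σ) {ε εc : ℤ} (hε : ε * ε = 1) (hεc : εc * εc = 1)
    {H : Subgroup (Equiv.Perm (Fin n))} {R : Subgroup H} [Fintype R]
    (e : R ≃* Equiv.Perm (Fin r)) (x : Equiv.Perm (Fin n)) (β : IrrCharacter R)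
    (hβval : ∀ y : R, β.1 y = (εc : ℂ) * chiX (canon N d) (cycParts (e y)))
    (hv : ∀ g, (irrOf X hX).1 g = (ε : ℂ) * chiX (canon N X) (cycParts g))
    (hparts : ∀ y : R, cycParts (x * ((y : H) : Equiv.Perm (Fin n))) =
      Multiset.replicate W p + cycParts (e y)) :
    classInner (fun y : R => (irrOf X hX).1 (x * ((y : H) : Equiv.Perm (Fin n)))) β.1 ≠ 0 := by
  classical
  let κ : ℤ := ε * (Equiv.Perm.sign σ : ℤ) * εc
  have hεc' : (εc : ℂ) * εc = 1 := by exact_mod_cast hεc
  have hF : ∀ y : R, ∃ P : ℤ, 0 < P ∧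
      (irrOf X hX).1 (x * ((y : H) : Equiv.Perm (Fin n))) = (κ : ℂ) * P * β.1 y := by
    intro y
    obtain ⟨P, hP, hPe⟩ := hook_path hp (cycParts (e y)) W _
      (canon_injective (mem_Beta.1 hX).1) hXW
    refine ⟨P, hP, ?_⟩
    rw [hv, hparts y, hPe, hσ, chiX_comp, hβval y]
    simp only [κ]
    push_cast
    linear_combination (-(ε : ℂ) * P * ((Equiv.Perm.sign σ : ℤ) : ℂ) *
      chiX (canon N d) (cycParts (e y))) * hεc'
  choose P hP hFP using hF
  have hb : ∀ y : R, ∃ t : ℤ, β.1 y = (t : ℂ) :=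
    fun y => ⟨εc * chiX (canon N d) (cycParts (e y)), by rw [hβval]; push_cast; rfl⟩
  choose t ht using hb
  rw [classInner]
  refine mul_ne_zero (inv_ne_zero (Nat.cast_ne_zero.2 Nat.card_pos.ne')) ?_
  rw [Finset.sum_congr rfl fun (y : R) _ =>
      show (irrOf X hX).1 (x * ((y : H) : Equiv.Perm (Fin n))) * conj (β.1 y) =
        (κ : ℂ) * ((P y * (t y * t y) : ℤ) : ℂ) by
    rw [hFP y, ht y, map_intCast]; push_cast; ring, ← Finset.mul_sum, ← Int.cast_sum]
  refine mul_ne_zero (Int.cast_ne_zero.2 ?_) (Int.cast_ne_zero.2 (ne_of_gt ?_))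
  · exact mul_ne_zero (mul_ne_zero (left_ne_zero_of_mul_eq_one hε) (by simp))
      (left_ne_zero_of_mul_eq_one hεc)
  · refine Finset.sum_pos' (fun y _ => mul_nonneg (hP y).le (mul_self_nonneg _))
      ⟨1, Finset.mem_univ _, mul_pos (hP 1) (mul_self_pos.2 fun h =>
        Blocks.irr_one_ne_zero β (by rw [ht 1, h, Int.cast_zero]))⟩

/-- **Equal residue counts give one block.** -/
theorem sameBlock_of_key {p : ℕ} [hp : Fact p.Prime] {I : Ideal AlgInt} [I.IsMaximal]
    (hpI : (p : AlgInt) ∈ I) {S T : Finset ℕ} (hS : S ∈ Beta N n) (hT : T ∈ Beta N n)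
    (hST : resKey p (canon N S) = resKey p (canon N T)) :
    SameBlock I (irrOf S hS).1 (irrOf T hT).1 := by
  classical
  set q := resKey p (canon N S) with hq
  have hp0 := hp.out.pos
  obtain ⟨c, hc, hcq, hcW, σS, hσS⟩ := exists_core hp0 hS rfl
  obtain ⟨d, hd, hdq, -, σT, hσT⟩ := exists_core hp0 hT hST.symm
  obtain rfl := core_unique hp0 hd hc hdq hcq hcW
  set W := keyWeight N p n q with hWdef
  have hWS : pWeight p (canon N S) = W :=
    (keyWeight_eq hp0 (canon_injective (mem_Beta.1 hS).1) (sum_canon_of_mem hS)).symm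
  have hWT : pWeight p (canon N T) = W := by
    rw [hWdef, hST]
    exact (keyWeight_eq hp0 (canon_injective (mem_Beta.1 hT).1) (sum_canon_of_mem hT)).symm
  obtain ⟨x, hx, hxp, hord, -, -⟩ := exists_witness_perm (p := p) hS
  rw [hWS] at hx
  have hsupp : x.support.card = W * p := by
    rw [← Equiv.Perm.sum_cycleType, hx, Multiset.sum_replicate, smul_eq_mul]
  set r := n - W * p with hr
  -- the symmetric group on the fixed points
  have hcard : Fintype.card {a : Fin n // a ∉ x.support} = r := by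
    rw [Fintype.card_subtype_compl, Fintype.card_fin, Fintype.card_coe, hsupp]
  let f : Fin r ≃ {a : Fin n // a ∉ x.support} := (Fintype.equivFinOfCardEq hcard).symm
  set H := Subgroup.centralizer ({x} : Set (Equiv.Perm (Fin n))) with hH
  have hfix : ∀ (y : Equiv.Perm (Fin r)) a, a ∈ x.support → y.extendDomain f a = a := fun y a ha =>
    Equiv.Perm.extendDomain_apply_not_subtype _ _ (by simpa using ha)
  have hdisj : ∀ y : Equiv.Perm (Fin r), Equiv.Perm.Disjoint x (y.extendDomain f) := fun y a => by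
    by_cases ha : a ∈ x.support
    · exact Or.inr (hfix y a ha)
    · exact Or.inl (Equiv.Perm.notMem_support.1 ha)
  have hHm : ∀ y : Equiv.Perm (Fin r), Equiv.Perm.extendDomainHom f y ∈ H := fun y =>
    Subgroup.mem_centralizer_singleton_iff.2 (hdisj y).commute.eq.symm
  let ι : Equiv.Perm (Fin r) →* H := (Equiv.Perm.extendDomainHom f).codRestrict H hHm
  have hι : Function.Injective ι := fun a b h =>
    Equiv.Perm.extendDomainHom_injective f (congrArg Subtype.val h)
  set R := ι.range with hRdef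
  have hmemR : ∀ h : H, h ∈ R ↔ ∀ a ∈ x.support, (h : Equiv.Perm (Fin n)) a = a := by
    intro h
    constructor
    · rintro ⟨y, rfl⟩ a ha
      exact hfix y a ha
    · intro hh
      have hout : ∀ a, a ∉ x.support ↔ (h : Equiv.Perm (Fin n)) a ∉ x.support := fun a => by
        constructor
        · intro ha hha
          have h2 := hh _ hha
          exact ha (((h : Equiv.Perm (Fin n)).injective h2) ▸ hha)
        · intro ha ha'
          exact ha (by rw [hh a ha']; exact ha')
      refine ⟨f.symm.permCongr ((h : Equiv.Perm (Fin n)).subtypePerm fun a => (hout a).symm), ?_⟩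
      refine Subtype.ext (Equiv.ext fun a => ?_)
      show Equiv.Perm.extendDomain _ f a = _
      by_cases ha : a ∈ x.support
      · rw [hfix _ a ha, hh a ha]
      · rw [Equiv.Perm.extendDomain_apply_subtype _ f ha]
        simp [Equiv.permCongr_apply]
  have hpres : ∀ (g : H) a, a ∈ x.support → (g : Equiv.Perm (Fin n)) a ∈ x.support := fun g a ha => by
    rw [Equiv.Perm.mem_support] at ha ⊢
    rw [← Equiv.Perm.mul_apply, ← Subgroup.mem_centralizer_singleton_iff.1 g.2,
      Equiv.Perm.mul_apply]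
    exact fun h => ha ((g : Equiv.Perm (Fin n)).injective h)
  haveI hRn : R.Normal := ⟨fun h hh g => by
    rw [hmemR] at hh ⊢
    intro a ha
    simp only [Subgroup.coe_mul, Subgroup.coe_inv, Equiv.Perm.mul_apply]
    rw [hh _ (by simpa using hpres g⁻¹ a ha)]
    simp⟩
  haveI := Fintype.ofFinite R
  let e : R ≃* Equiv.Perm (Fin r) := (MonoidHom.ofInjective hι).symm
  have heval : ∀ y : R, ((y : H) : Equiv.Perm (Fin n)) = (e y).extendDomain f := fun y =>
    congrArg (fun z : R => ((z : H) : Equiv.Perm (Fin n)))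
      ((MonoidHom.ofInjective hι).apply_symm_apply y).symm
  -- the cycles of `x * y`
  have hparts : ∀ y : R, cycParts (x * ((y : H) : Equiv.Perm (Fin n))) =
      Multiset.replicate W p + cycParts (e y) := by
    intro y
    rw [cycParts_eq, cycParts_eq, ← Equiv.Perm.sum_cycleType, ← Equiv.Perm.sum_cycleType, heval y,
      (hdisj (e y)).cycleType_mul, Equiv.Perm.cycleType_extendDomain, hx, Multiset.sum_add,
      Multiset.sum_replicate, smul_eq_mul, ← Nat.sub_sub, add_assoc]
  -- the character of the core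
  let β : IrrCharacter R := Blocks.compEquiv e (irrOf d hd)
  obtain ⟨εc, hεc, hvc⟩ := irrOf_spec hd
  have hβval : ∀ y : R, β.1 y = (εc : ℂ) * chiX (canon N d) (cycParts (e y)) := fun y => hvc _
  have hβinv : ∀ g : H, Char.conjChar R β g = β := fun g => Subtype.ext (funext fun y => by
    show β.1 (MulAut.conjNormal g y) = β.1 y
    rw [hβval, hβval]
    congr 3
    have hcyc : (e (MulAut.conjNormal g y)).cycleType = (e y).cycleType := by
      rw [← Equiv.Perm.cycleType_extendDomain f, ← Equiv.Perm.cycleType_extendDomain f (g := e y),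
        ← heval, ← heval, MulAut.conjNormal_apply, Subgroup.coe_mul, Subgroup.coe_mul,
        Subgroup.coe_inv, Equiv.Perm.cycleType_conj]
    rw [cycParts_eq, cycParts_eq, hcyc, ← Equiv.Perm.sum_cycleType, ← Equiv.Perm.sum_cycleType,
      hcyc])
  have horb : Char.orbitFinset R β = {β} := by
    ext η
    rw [Char.mem_orbitFinset, Finset.mem_singleton]
    exact ⟨fun ⟨g, hg⟩ => hg.trans (hβinv g), fun h => ⟨1, by rw [h, hβinv]⟩⟩
  have hdeg : (Char.degree β).factorization p = (Nat.card R).factorization p := by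
    have h1 : Char.degree β = Char.degree (irrOf d hd) := by
      have h2 := Char.apply_one_eq_degree β
      rw [show β.1 1 = (irrOf d hd).1 (e 1) from rfl, map_one, Char.apply_one_eq_degree] at h2
      exact_mod_cast h2.symm
    rw [h1, Nat.card_congr e.toEquiv, Nat.card_perm, Nat.card_fin, degree_irrOf hd]
    have h := factorization_setDeg_runner hp.out hd hdq
    rw [hcW, mul_zero, Nat.factorial_zero, Nat.factorization_one] at h
    have hw0 : ∀ i ∈ Finset.range p, (∑ z ∈ runner p d i, z) - baseSum (q i) = 0 := fun i hi => by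
      rw [keyWeight_zero_runner hp0 hd hdq hcW (Finset.mem_range.1 hi), baseSum, Nat.sub_self]
    rw [Finset.sum_eq_zero fun i hi => by rw [hw0 i hi, Nat.factorial_zero, Nat.factorization_one]; rfl,
      Finset.sum_eq_zero fun i hi => by
        obtain ⟨h1, h2⟩ := baseSum_le_runner (r := i) hd hdq
        rw [hw0 i hi, setDeg_zero (mem_Beta.2 ⟨h1, by have := hw0 i hi; omega⟩),
          Nat.factorization_one]; rfl] at h
    simpa using h
  have hβblock : blockOf I β.1 = {β} :=
    (Blocks.blockOf_eq_singleton_iff (p := p) hpI β).2 hdeg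
  haveI := Fintype.ofFinite H
  have hind : ∀ (X : Finset ℕ) (hX : X ∈ Beta N n), pWeight p (canon N X) = W →
      (∃ σ : Equiv.Perm (Fin N), coreT p (canon N X) = canon N d ∘ σ) →
      ∃ ψ ∈ overSet R β, IsInducedBlock I H (blockOf I ψ.1) (blockOf I (irrOf X hX).1) := by
    intro X hX hXW ⟨σ, hσ⟩
    refine exists_inducing R hpI hord β hβblock hβinv (irrOf X hX) ?_
    obtain ⟨ε, hε, hv⟩ := irrOf_spec hX
    exact classInner_core_ne_zero (εc := εc) hp0 hX hXW hσ hε hεc e x β hβval hv hparts
  haveI : ((rotGroup x).subgroupOf H).Normal := ⟨fun a ha b =>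
    conj_mem_rotGroup (Subgroup.mem_centralizer_singleton_iff.1 b.2) ha⟩
  obtain ⟨ψ, hψ, hψS⟩ := hind S hS hWS ⟨σS, hσS⟩
  obtain ⟨ψ', hψ', hψT⟩ := hind T hT hWT ⟨σT, hσT⟩
  refine Blocks.sameBlock_of_regular hpI fun g hg => ?_
  have hagree := inducedCentralChar_agree R hpI β ((rotGroup x).subgroupOf H)
    (fun u => ⟨1, Subtype.ext (Subtype.ext (by
      simpa using pow_eq_one_of_mem_rotGroup hxp u.2))⟩)
    (fun k hk hkE => (hmemR k).2 fun a ha => fix_of_commute_rot hp.out hxp hk (fun u hu =>
      (congrArg Subtype.val (Subgroup.mem_centralizer_iff.1 hkE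
        (⟨u, Subgroup.mem_centralizer_singleton_iff.2 hu.1.eq⟩ : H) hu)).symm) ha)
    hψ hψ' hg
  have h1 := hψS.2.2 ψ (Blocks.mem_blockOf_self ψ) _ (Blocks.mem_blockOf_self _) g
  have h2 := hψT.2.2 ψ' (Blocks.mem_blockOf_self ψ') _ (Blocks.mem_blockOf_self _) g
  have := Blocks.MemLocalIdeal.add (Blocks.MemLocalIdeal.sub hagree h1) h2
  convert this using 1
  ring

end Cfsg.Agent.SymChar
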