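import Cfsg.Agent.Lib.SymChar.Alternant
import Mathlib.LinearAlgebra.Dimension.Constructions
import Mathlib.LinearAlgebra.FiniteDimensional.Basic

/-!
# Orthonormality of the alternant coefficients
-/

namespace Cfsg.Agent.SymChar

open Finset Equiv

variable {N : ℕ}

/-! ### The measure on partitions -/

/-- The multisets of positive parts with sum `n`. -/
def Parts (n : ℕ) : Finset (Multiset ℕ) :=
  (Finset.univ : Finset (Nat.Partition n)).image Nat.Partition.parts

theorem mem_Parts {n : ℕ} {c : Multiset ℕ} : c ∈ Parts n ↔ (∀ k ∈ c, 0 < k) ∧ c.sum = n := by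
  rw [Parts, Finset.mem_image]
  exact ⟨fun ⟨μ, _, h⟩ => h ▸ ⟨fun k hk => μ.parts_pos hk, μ.parts_sum⟩,
    fun h => ⟨⟨c, fun {k} hk => h.1 k hk, h.2⟩, Finset.mem_univ _, rfl⟩⟩

theorem Parts_zero : Parts 0 = {0} := by
  ext c
  rw [mem_Parts, Finset.mem_singleton]
  constructor
  · rintro ⟨hpos, hsum⟩
    refine Multiset.eq_zero_of_forall_notMem fun k hk => ?_
    have := Multiset.le_sum_of_mem hk
    have := hpos k hk
    omega
  · rintro rfl; simp

theorem card_Parts_le (n : ℕ) : (Parts n).card ≤ Fintype.card (Nat.Partition n) :=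
  Finset.card_image_le.trans (le_of_eq (Finset.card_univ))

/-- The centralizer order of the cycle type `c`. -/
def zP (c : Multiset ℕ) : ℕ := c.prod * ∏ k ∈ c.toFinset, (c.count k).factorial

theorem zP_pos {c : Multiset ℕ} (h : ∀ k ∈ c, 0 < k) : 0 < zP c :=
  Nat.mul_pos (Nat.pos_of_ne_zero (Multiset.prod_ne_zero fun h0 => lt_irrefl 0 (h 0 h0)))
    (Finset.prod_pos fun k _ => Nat.factorial_pos _)

theorem zP_cons (k : ℕ) (c : Multiset ℕ) : zP (k ::ₘ c) = k * (c.count k + 1) * zP c := by
  classical
  rw [zP, zP, Multiset.prod_cons, Multiset.toFinset_cons]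
  have h1 : ∏ x ∈ c.toFinset, (c.count x).factorial =
      ∏ x ∈ insert k c.toFinset, (c.count x).factorial := by
    refine Finset.prod_subset (Finset.subset_insert _ _) fun x _ hx => ?_
    rw [Multiset.count_eq_zero.2 (fun h => hx (Multiset.mem_toFinset.2 h)), Nat.factorial_zero]
  rw [h1, ← Finset.mul_prod_erase _ _ (Finset.mem_insert_self k _),
    ← Finset.mul_prod_erase _ _ (Finset.mem_insert_self k _), Multiset.count_cons_self,
    Nat.factorial_succ]
  rw [Finset.prod_congr rfl fun x hx =>
    show ((k ::ₘ c).count x).factorial = (c.count x).factorial by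
      rw [Multiset.count_cons_of_ne (Finset.mem_erase.1 hx).1]]
  ring

/-- The average over partitions of `n`. -/
noncomputable def avgP {V : Type*} [AddCommGroup V] [Module ℂ V] (n : ℕ) (F : Multiset ℕ → V) :
    V :=
  ∑ c ∈ Parts n, (zP c : ℂ)⁻¹ • F c

theorem avgP_recursion (n : ℕ) (F : Multiset ℕ → ℂ) :
    (n : ℂ) * avgP n F = ∑ k ∈ Finset.Icc 1 n, avgP (n - k) fun c => F (k ::ₘ c) := by
  classical
  simp only [avgP, smul_eq_mul]
  rw [Finset.mul_sum]
  have h1 : ∀ c ∈ Parts n, (n : ℂ) * ((zP c : ℂ)⁻¹ * F c) =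
      ∑ k ∈ c.toFinset, ((k * c.count k : ℕ) : ℂ) * ((zP c : ℂ)⁻¹ * F c) := by
    intro c hc
    rw [← Finset.sum_mul, ← Nat.cast_sum]
    congr 2
    conv_lhs => rw [← (mem_Parts.1 hc).2, Finset.sum_multiset_count]
    simp [mul_comm]
  rw [Finset.sum_congr rfl h1, Finset.sum_sigma', Finset.sum_sigma']
  refine Finset.sum_bij' (fun x _ => ⟨x.2, x.1.erase x.2⟩) (fun y _ => ⟨y.1 ::ₘ y.2, y.1⟩)
    ?_ ?_ ?_ ?_ ?_
  · rintro ⟨c, k⟩ hx
    simp only [Finset.mem_sigma, mem_Parts, Multiset.mem_toFinset] at hx ⊢
    obtain ⟨⟨hpos, hsum⟩, hk⟩ := hx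
    have hs := Multiset.cons_erase hk ▸ hsum
    rw [Multiset.sum_cons] at hs
    have := hpos k hk
    exact ⟨Finset.mem_Icc.2 ⟨this, by omega⟩, fun x hx => hpos x (Multiset.mem_of_mem_erase hx),
      by omega⟩
  · rintro ⟨k, c⟩ hy
    simp only [Finset.mem_sigma, mem_Parts, Finset.mem_Icc] at hy ⊢
    obtain ⟨⟨hk1, hkn⟩, hpos, hsum⟩ := hy
    refine ⟨⟨fun x hx => ?_, ?_⟩, by simp⟩
    · rcases Multiset.mem_cons.1 hx with rfl | h
      · exact hk1
      · exact hpos x h
    · simp only [Multiset.sum_cons] at hsum ⊢; omega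
  · rintro ⟨c, k⟩ hx
    rw [Finset.mem_sigma, Multiset.mem_toFinset] at hx
    simp [Multiset.cons_erase hx.2]
  · rintro ⟨k, c⟩ _
    simp
  · rintro ⟨c, k⟩ hx
    simp only [Finset.mem_sigma, mem_Parts, Multiset.mem_toFinset] at hx ⊢
    obtain ⟨⟨hpos, -⟩, hk⟩ := hx
    obtain ⟨c', rfl⟩ := Multiset.exists_cons_of_mem hk
    have hp' : ∀ x ∈ c', 0 < x := fun x hx => hpos x (Multiset.mem_cons_of_mem hx)
    have hk0 : (k : ℂ) ≠ 0 := by exact_mod_cast (hpos k hk).ne'
    have hz : (zP c' : ℂ) ≠ 0 := by exact_mod_cast (zP_pos hp').ne'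
    have hc1 : ((c'.count k : ℂ) + 1) ≠ 0 := Nat.cast_add_one_ne_zero _
    simp only [Multiset.erase_cons_head, zP_cons, Multiset.count_cons_self]
    push_cast
    field_simp

/-! ### Moves between two sets of beta numbers -/

theorem dec_self_image {l : Fin N → ℕ} {i : Fin N} {k : ℕ} : dec l i k i = l i - k := by
  simp [dec]

theorem dec_ne {l : Fin N → ℕ} {i x : Fin N} {k : ℕ} (h : x ≠ i) : dec l i k x = l x := by
  simp [dec, h]

section Moves

variable {l m : Fin N → ℕ} (hl : Function.Injective l) (hm : Function.Injective m)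
variable {k : ℕ} {i j : Fin N}

include hl hm in
theorem eq_index_of_perm {σ : Equiv.Perm (Fin N)} (hσ : m = l ∘ σ) (hk : 0 < k) (hki : k ≤ l i)
    (h : detD (dec l i k) (dec m j k) ≠ 0) : σ j = i := by
  by_contra hne
  obtain ⟨τ, hτ⟩ := exists_of_detD_ne_zero h
  have hinj := injective_of_detD_ne_zero h
  -- the value `l i` occurs in `dec m j k` but not in `dec l i k`
  have h1 : dec m j k (σ.symm i) = l i := by
    rw [dec_ne (fun e => hne (by rw [← e]; simp)), hσ]; simp
  have h2 := congrFun hτ (σ.symm i)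
  simp only [Function.comp_apply] at h2
  rw [h1] at h2
  by_cases hx : τ (σ.symm i) = i
  · rw [hx, dec_self_image] at h2; omega
  · rw [dec_ne hx] at h2; exact hx (hl h2).symm

include hl hm in
theorem move_facts (hne : ∀ σ : Equiv.Perm (Fin N), m ≠ l ∘ σ) (hk : 0 < k) (hki : k ≤ l i)
    (hkj : k ≤ m j) (h : detD (dec l i k) (dec m j k) ≠ 0) :
    (∀ x, m x ≠ l i) ∧ (∀ x, l x ≠ m j) ∧ (∃ x, x ≠ i ∧ l x = m j - k) ∧
      (∃ x, x ≠ j ∧ m x = l i - k) := by
  obtain ⟨τ, hτ⟩ := exists_of_detD_ne_zero h
  obtain ⟨hA, hB⟩ := injective_of_detD_ne_zero h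
  have hab : l i ≠ m j := by
    intro hab
    -- then the images coincide
    refine hne (Equiv.swap i (τ j) * τ) (funext fun x => ?_)
    have hx := congrFun hτ x
    have hj := congrFun hτ j
    simp only [Function.comp_apply, dec_self_image] at hj hx
    have e1 : dec l i k i = dec m j k j := by rw [dec_self_image, dec_self_image, hab]
    have hτj : τ j = i := hA (by rw [← hj, e1, dec_self_image])
    simp only [hτj, Equiv.swap_self, Equiv.Perm.coe_mul, Equiv.coe_refl, Function.comp_apply, id]
    by_cases hxj : x = j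
    · subst hxj; rw [hτj, hab]
    · rw [dec_ne hxj, dec_ne (fun e => hxj (τ.injective (e.trans hτj.symm)))] at hx
      exact hx
  -- `l i` is not a value of `m`
  have ha : ∀ x, m x ≠ l i := by
    intro x hx
    have hxj : x ≠ j := fun e => hab (e ▸ hx).symm
    have h2 := congrFun hτ x
    simp only [Function.comp_apply] at h2
    rw [dec_ne hxj, hx] at h2
    by_cases hxi : τ x = i
    · rw [hxi, dec_self_image] at h2; omega
    · rw [dec_ne hxi] at h2; exact hxi (hl h2).symm
  have hb : ∀ x, l x ≠ m j := by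
    intro x hx
    have hxi : x ≠ i := fun e => hab (e ▸ hx)
    have h2 := congrFun hτ (τ.symm x)
    simp only [Function.comp_apply, Equiv.apply_symm_apply] at h2
    rw [dec_ne hxi, hx] at h2
    by_cases hxj : τ.symm x = j
    · rw [hxj, dec_self_image] at h2; omega
    · rw [dec_ne hxj] at h2; exact hxj (hm h2)
  refine ⟨ha, hb, ?_, ?_⟩
  · have h2 := congrFun hτ j
    simp only [Function.comp_apply, dec_self_image] at h2
    by_cases hx : τ j = i
    · -- equal moved values would force equal starting values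
      rw [hx, dec_self_image] at h2; omega
    · exact ⟨τ j, hx, by rw [h2, dec_ne hx]⟩
  · have h2 := congrFun hτ (τ.symm i)
    simp only [Function.comp_apply, Equiv.apply_symm_apply, dec_self_image] at h2
    by_cases hx : τ.symm i = j
    · rw [hx, dec_self_image] at h2; omega
    · exact ⟨τ.symm i, hx, by rw [← h2, dec_ne hx]⟩

include hl hm in
/-- The partner of a move whose left bead is above the right one. -/
theorem partner (hne : ∀ σ : Equiv.Perm (Fin N), m ≠ l ∘ σ) (hk : 0 < k) (hki : k ≤ l i)
    (hkj : k ≤ m j) (h : detD (dec l i k) (dec m j k) ≠ 0) (hab : m j < l i) {j' : Fin N}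
    (hj' : m j' = l i - k) :
    0 < l i - m j ∧ l i - m j ≤ l i ∧ l i - m j ≤ m j' ∧
      detD (dec l i (l i - m j)) (dec m j' (l i - m j)) = - detD (dec l i k) (dec m j k) := by
  obtain ⟨ha, hb, ⟨ic, hic, hlc⟩, ⟨jd, hjd, hmd⟩⟩ := move_facts hl hm hne hk hki hkj h
  have hcb : m j - k ≠ m j := by omega
  refine ⟨by omega, by omega, by omega, ?_⟩
  obtain ⟨τ, hτ⟩ := exists_of_detD_ne_zero h
  obtain ⟨hA, hB⟩ := injective_of_detD_ne_zero h
  have hjj : j' ≠ j := by
    rintro rfl
    exact hjd (hm (hmd.trans hj'.symm))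
  have hτj : τ j = ic := hA (by
    have := congrFun hτ j
    simp only [Function.comp_apply, dec_self_image] at this
    rw [← this, dec_ne hic, hlc])
  have hτj' : τ j' = i := hA (by
    have := congrFun hτ j'
    simp only [Function.comp_apply] at this
    rw [← this, dec_self_image, dec_ne hjj, hj'])
  have hT : Function.Injective (dec l i (l i - m j)) := by
    intro x y hxy
    by_cases hx : x = i <;> by_cases hy : y = i
    · rw [hx, hy]
    · subst hx; rw [dec_self_image, dec_ne hy] at hxy; exact absurd hxy.symm (by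
        have := hb y; omega)
    · subst hy; rw [dec_self_image, dec_ne hx] at hxy; exact absurd hxy (by
        have := hb x; omega)
    · rw [dec_ne hx, dec_ne hy] at hxy; exact hl hxy
  have hU : dec m j' (l i - m j) = dec l i (l i - m j) ∘ ⇑(τ * Equiv.swap j j') := by
    funext x
    simp only [Equiv.Perm.coe_mul, Function.comp_apply]
    by_cases hx : x = j
    · subst hx
      rw [Equiv.swap_apply_left, hτj', dec_ne (Ne.symm hjj), dec_self_image]; omega
    by_cases hx' : x = j'
    · subst hx'
      rw [Equiv.swap_apply_right, hτj, dec_ne hic, dec_self_image, hlc]; omega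
    · rw [Equiv.swap_apply_of_ne_of_ne hx hx', dec_ne hx']
      have h2 := congrFun hτ x
      simp only [Function.comp_apply] at h2
      rw [dec_ne hx, dec_ne (fun e => hx' (τ.injective (e.trans hτj'.symm)))] at h2
      rw [dec_ne (fun e => hx' (τ.injective (e.trans hτj'.symm))), h2]
  rw [hU, detD_comp hT, hτ, detD_comp hA]
  simp [Equiv.Perm.sign_swap (Ne.symm hjj)]

end Moves

/-- The index carrying a value. -/
noncomputable def idxOf (l : Fin N → ℕ) (x : ℕ) (dflt : Fin N) : Fin N :=
  if h : ∃ i, l i = x then h.choose else dflt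

theorem idxOf_eq {l : Fin N → ℕ} (hl : Function.Injective l) {i : Fin N} {x : ℕ} (h : l i = x)
    (d : Fin N) : idxOf l x d = i := by
  rw [idxOf, dif_pos ⟨i, h⟩]
  exact hl ((⟨i, h⟩ : ∃ i, l i = x).choose_spec.trans h.symm)

/-- The summand of the recursion. -/
def moveTerm (l m : Fin N → ℕ) (x : ℕ × Fin N × Fin N) : ℤ :=
  if x.1 ≤ l x.2.1 ∧ x.1 ≤ m x.2.2 then detD (dec l x.2.1 x.1) (dec m x.2.2 x.1) else 0

theorem sum_moveTerm {n : ℕ} {l m : Fin N → ℕ} (hl : Function.Injective l)
    (hm : Function.Injective m) (hsl : ∑ i, l i = baseSum N + n)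
    (hsm : ∑ i, m i = baseSum N + n) :
    ∑ x ∈ Finset.Icc 1 n ×ˢ (Finset.univ ×ˢ Finset.univ), moveTerm l m x = n * detD l m := by
  classical
  have hsupp : ∀ x : ℕ × Fin N × Fin N, moveTerm l m x ≠ 0 →
      x.1 ≤ l x.2.1 ∧ x.1 ≤ m x.2.2 ∧
        detD (dec l x.2.1 x.1) (dec m x.2.2 x.1) ≠ 0 := fun x hx => by
    rw [moveTerm] at hx
    split_ifs at hx with h
    · exact ⟨h.1, h.2, hx⟩
    · exact absurd rfl hx
  have hrange : ∀ x : ℕ × Fin N × Fin N, 0 < x.1 → moveTerm l m x ≠ 0 → x.1 ≤ n := by
    intro x hx h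
    obtain ⟨h1, -, h3⟩ := hsupp x h
    have := baseSum_le_sum (injective_of_detD_ne_zero h3).1
    have := sum_dec (l := l) h1
    omega
  by_cases hperm : ∃ σ : Equiv.Perm (Fin N), m = l ∘ σ
  · obtain ⟨σ, hσ⟩ := hperm
    have hterm : ∀ k, 0 < k → ∀ i j, moveTerm l m (k, i, j) =
        if σ j = i then (if k ≤ l i ∧ Function.Injective (dec l i k) then
          (Equiv.Perm.sign σ : ℤ) else 0) else 0 := by
      intro k hk i j
      by_cases hij : σ j = i
      · have hdec : dec m j k = dec l i k ∘ σ := by rw [hσ, dec_comp, hij]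
        have hmj : m j = l i := by rw [hσ, ← hij]; rfl
        rw [if_pos hij, moveTerm]
        simp only [hmj, and_self, hdec]
        by_cases hki : k ≤ l i
        · by_cases hinj : Function.Injective (dec l i k)
          · rw [if_pos hki, if_pos ⟨hki, hinj⟩, detD_comp hinj]
          · rw [if_pos hki, if_neg (fun h => hinj h.2)]
            by_contra h
            exact hinj (injective_of_detD_ne_zero h).1
        · rw [if_neg hki, if_neg (fun h => hki h.1)]
      · rw [if_neg hij]
        by_contra h
        obtain ⟨h1, -, h3⟩ := hsupp _ h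
        exact hij (eq_index_of_perm hl hm hσ hk h1 h3)
    rw [Finset.sum_product]
    simp only [Finset.sum_product]
    rw [Finset.sum_congr rfl fun k hk => Finset.sum_congr rfl fun i _ =>
      Finset.sum_congr rfl fun j _ => hterm k (Finset.mem_Icc.1 hk).1 i j]
    have hone : ∀ (i : Fin N) (v : ℤ), ∑ j, (if σ j = i then v else 0) = v := fun i v => by
      rw [Equiv.sum_comp σ (fun a => if a = i then v else 0)]; simp
    simp only [hone]
    rw [Finset.sum_comm]
    simp only [← Finset.sum_filter, Finset.sum_const, nsmul_eq_mul]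
    rw [← Finset.sum_mul, hσ, detD_comp hl]
    congr 1
    rw [← Nat.cast_sum]
    congr 1
    -- the number of hooks
    have hcount : ∀ i, ((Finset.Icc 1 n).filter
        fun k => k ≤ l i ∧ Function.Injective (dec l i k)).card + below Finset.univ l i = l i := by
      intro i
      have hset : (Finset.Icc 1 n).filter (fun k => k ≤ l i ∧ Function.Injective (dec l i k)) =
          ((Finset.range (l i)).filter fun d => ∀ x, l x ≠ d).image fun d => l i - d := by
        ext k
        simp only [Finset.mem_filter, Finset.mem_image, Finset.mem_Icc, Finset.mem_range]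
        constructor
        · rintro ⟨⟨hk, -⟩, hki, hinj⟩
          refine ⟨l i - k, ⟨by omega, fun x hx => ?_⟩, by omega⟩
          have hxi : x ≠ i := fun e => by subst e; omega
          exact hxi (hinj (by rw [dec_ne hxi, dec_self_image, hx]))
        · rintro ⟨d, ⟨hd, hfree⟩, rfl⟩
          have hinj : Function.Injective (dec l i (l i - d)) := by
            intro x y hxy
            by_cases hx : x = i <;> by_cases hy : y = i
            · rw [hx, hy]
            · subst hx; rw [dec_self_image, dec_ne hy] at hxy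
              exact absurd hxy.symm (by have := hfree y; omega)
            · subst hy; rw [dec_self_image, dec_ne hx] at hxy
              exact absurd hxy (by have := hfree x; omega)
            · rw [dec_ne hx, dec_ne hy] at hxy; exact hl hxy
          have := baseSum_le_sum hinj
          have := sum_dec (l := l) (i := i) (k := l i - d) (by omega)
          exact ⟨⟨by omega, by omega⟩, by omega, hinj⟩
      rw [hset, Finset.card_image_of_injOn]
      · have hb : below Finset.univ l i =
            ((Finset.range (l i)).filter fun d => ¬ ∀ x, l x ≠ d).card := by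
          rw [below, ← Finset.card_image_of_injOn hl.injOn]
          congr 1
          ext d
          simp only [Finset.mem_image, Finset.mem_filter, Finset.mem_univ, true_and,
            Finset.mem_range, not_forall, not_not]
          exact ⟨fun ⟨x, h1, h2⟩ => ⟨h2 ▸ h1, x, h2⟩, fun ⟨h1, x, h2⟩ => ⟨x, h2.symm ▸ h1, h2⟩⟩
        rw [hb, Finset.card_filter_add_card_filter_not, Finset.card_range]
      · intro a ha b hb hab
        have h1 := Finset.mem_range.1 (Finset.mem_filter.1 ha).1
        have h2 := Finset.mem_range.1 (Finset.mem_filter.1 hb).1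
        simp only at hab
        omega
    have h4 := Finset.sum_congr rfl (fun i (_ : i ∈ (Finset.univ : Finset (Fin N))) => hcount i)
    rw [Finset.sum_add_distrib, sum_below hl.injOn, hsl, Finset.card_univ, Fintype.card_fin] at h4
    simp only [Nat.succ_eq_add_one, Nat.zero_add] at h4 ⊢
    omega
  · push Not at hperm
    have hD : detD l m = 0 := by
      by_contra h
      obtain ⟨σ, hσ⟩ := exists_of_detD_ne_zero h
      exact hperm σ hσ
    rw [hD, mul_zero]
    have hperm' : ∀ σ : Equiv.Perm (Fin N), l ≠ m ∘ σ := fun σ h =>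
      hperm σ.symm (by rw [h]; funext x; simp)
    let g : ℕ × Fin N × Fin N → ℕ × Fin N × Fin N := fun x =>
      if moveTerm l m x = 0 then x
      else if m x.2.2 < l x.2.1 then
        (l x.2.1 - m x.2.2, x.2.1, idxOf m (l x.2.1 - x.1) x.2.2)
      else (m x.2.2 - l x.2.1, idxOf l (m x.2.2 - x.1) x.2.1, x.2.2)
    have main : ∀ x : ℕ × Fin N × Fin N, 0 < x.1 → moveTerm l m x ≠ 0 →
        moveTerm l m (g x) = - moveTerm l m x ∧ 0 < (g x).1 ∧ g (g x) = x ∧ g x ≠ x := by
      rintro ⟨k, i, j⟩ hk hx
      obtain ⟨h1, h2, h3⟩ := hsupp _ hx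
      simp only at hk h1 h2 h3
      obtain ⟨ha, hb, ⟨ic, hic, hlc⟩, ⟨jd, hjd, hmd⟩⟩ := move_facts hl hm hperm hk h1 h2 h3
      have hT : moveTerm l m (k, i, j) = detD (dec l i k) (dec m j k) := by
        simp [moveTerm, h1, h2]
      by_cases hab : m j < l i
      · have hg : g (k, i, j) = (l i - m j, i, jd) := by
          simp only [g, if_neg hx, if_pos hab, idxOf_eq hm hmd]
        obtain ⟨q1, q2, q3, q4⟩ := partner hl hm hperm hk h1 h2 h3 hab hmd
        have hT' : moveTerm l m (l i - m j, i, jd) = - moveTerm l m (k, i, j) := by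
          simp [moveTerm, q2, q3, h1, h2, q4]
        refine ⟨by rw [hg, hT'], by rw [hg]; exact q1, ?_, ?_⟩
        · rw [hg]
          have hne' : moveTerm l m (l i - m j, i, jd) ≠ 0 := by rw [hT']; simpa using hx
          simp only [g, if_neg hne', show m jd < l i by omega, if_true]
          rw [idxOf_eq hm (i := j) (by omega), show l i - m jd = k by omega]
        · rw [hg]
          exact fun e => hjd (congrArg (fun t => t.2.2) e)
      · have hab' : l i < m j := lt_of_le_of_ne (not_lt.1 hab) (fun e => ha j e.symm)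
        have hg : g (k, i, j) = (m j - l i, ic, j) := by
          simp only [g, if_neg hx, if_neg hab, idxOf_eq hl hlc]
        obtain ⟨q1, q2, q3, q4⟩ := partner hm hl hperm' hk h2 h1 (by rwa [detD_comm]) hab' hlc
        rw [detD_comm, detD_comm (dec m j k)] at q4
        have hT' : moveTerm l m (m j - l i, ic, j) = - moveTerm l m (k, i, j) := by
          simp [moveTerm, q2, q3, h1, h2, q4]
        refine ⟨by rw [hg, hT'], by rw [hg]; exact q1, ?_, ?_⟩
        · rw [hg]
          have hne' : moveTerm l m (m j - l i, ic, j) ≠ 0 := by rw [hT']; simpa using hx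
          simp only [g, if_neg hne', show ¬ m j < l ic by omega, if_false]
          rw [idxOf_eq hl (i := i) (by omega), show m j - l ic = k by omega]
        · rw [hg]
          exact fun e => hic (congrArg (fun t => t.2.1) e)
    refine Finset.sum_involution (fun x _ => g x) ?_ ?_ ?_ ?_
    · intro x hx
      by_cases h : moveTerm l m x = 0
      · simp [g, h]
      · rw [(main x (Finset.mem_Icc.1 (Finset.mem_product.1 hx).1).1 h).1, add_neg_cancel]
    · intro x hx h
      exact (main x (Finset.mem_Icc.1 (Finset.mem_product.1 hx).1).1 h).2.2.2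
    · intro x hx
      by_cases h : moveTerm l m x = 0
      · simpa [g, h] using hx
      · obtain ⟨e1, e2, -, -⟩ := main x (Finset.mem_Icc.1 (Finset.mem_product.1 hx).1).1 h
        refine Finset.mem_product.2 ⟨Finset.mem_Icc.2 ⟨e2, hrange _ e2 ?_⟩, by simp⟩
        rw [e1]; simpa using h
    · intro x hx
      by_cases h : moveTerm l m x = 0
      · simp [g, h]
      · exact (main x (Finset.mem_Icc.1 (Finset.mem_product.1 hx).1).1 h).2.2.1

/-- **Orthonormality.** -/
theorem orthonormal (n : ℕ) : ∀ (l m : Fin N → ℕ), ∑ i, l i = baseSum N + n →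
    ∑ i, m i = baseSum N + n →
    avgP n (fun c => (chiX l c : ℂ) * (chiX m c : ℂ)) = (detD l m : ℂ) := by
  induction n using Nat.strong_induction_on with
  | _ n ih =>
    intro l m hsl hsm
    by_cases hl : Function.Injective l
    swap
    · have : detD l m = 0 := by
        by_contra h; exact hl (injective_of_detD_ne_zero h).1
      simp [avgP, chiX_eq_zero hl, this]
    by_cases hm : Function.Injective m
    swap
    · have : detD l m = 0 := by
        by_contra h; exact hm (injective_of_detD_ne_zero h).2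
      simp [avgP, chiX_eq_zero hm, this]
    rcases Nat.eq_zero_or_pos n with rfl | hn
    · obtain ⟨σ, hσ⟩ := exists_perm_of_base hl (by simpa using hsl)
      obtain ⟨τ, hτ⟩ := exists_perm_of_base hm (by simpa using hsm)
      have hτ' : m = l ∘ ⇑(σ⁻¹ * τ) := by
        rw [hτ, hσ]; funext x; simp
      rw [avgP, Parts_zero, Finset.sum_singleton, chiX_zero, chiX_zero, hτ', detD_comp hl,
        detD_perm_right, show detD Fin.val l = (Equiv.Perm.sign σ : ℤ) by
          rw [hσ, detD_comp Fin.val_injective]]
      rcases Int.units_eq_one_or (Equiv.Perm.sign σ) with h | h <;> simp [zP, h]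
    · have hn' : (n : ℂ) ≠ 0 := Nat.cast_ne_zero.2 hn.ne'
      refine mul_left_cancel₀ hn' ?_
      rw [avgP_recursion]
      calc ∑ k ∈ Finset.Icc 1 n, avgP (n - k)
            (fun c => (chiX l (k ::ₘ c) : ℂ) * (chiX m (k ::ₘ c) : ℂ))
          = ∑ k ∈ Finset.Icc 1 n, ∑ i, ∑ j, (moveTerm l m (k, i, j) : ℂ) := by
            refine Finset.sum_congr rfl fun k hk => ?_
            obtain ⟨hk1, hkn⟩ := Finset.mem_Icc.1 hk
            simp only [chiX_cons, Int.cast_sum, Finset.sum_mul, Finset.mul_sum, avgP,
              Finset.smul_sum]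
            rw [Finset.sum_comm]
            conv_rhs => rw [Finset.sum_comm]
            refine Finset.sum_congr rfl fun j _ => ?_
            rw [Finset.sum_comm]
            refine Finset.sum_congr rfl fun i _ => ?_
            simp only [moveTerm]
            by_cases hij : k ≤ l i ∧ k ≤ m j
            · rw [if_pos hij]
              have := sum_dec (l := l) hij.1
              have := sum_dec (l := m) hij.2
              rw [← ih (n - k) (by omega) _ _ (by omega) (by omega), avgP]
              simp [hij.1, hij.2]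
            · rw [if_neg hij]
              rcases not_and_or.1 hij with h | h <;> simp [h]
        _ = _ := by
          have h := sum_moveTerm hl hm hsl hsm
          rw [Finset.sum_product] at h
          simp only [Finset.sum_product] at h
          exact_mod_cast h

/-! ### Consequences -/

theorem orthonormal_canon {n : ℕ} {S T : Finset ℕ} (hS : S ∈ Beta N n) (hT : T ∈ Beta N n) :
    avgP n (fun c => (chiX (canon N S) c : ℂ) * (chiX (canon N T) c : ℂ)) =
      if S = T then 1 else 0 := by
  rw [orthonormal n _ _ (sum_canon_of_mem hS) (sum_canon_of_mem hT)]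
  by_cases h : S = T
  · subst h; rw [if_pos rfl, detD_self (canon_injective (mem_Beta.1 hS).1)]; simp
  · rw [if_neg h]
    norm_cast
    by_contra hne
    obtain ⟨σ, hσ⟩ := exists_of_detD_ne_zero hne
    apply h
    rw [← image_canon (N := N) (mem_Beta.1 hS).1, ← image_canon (N := N) (mem_Beta.1 hT).1, hσ]
    ext x
    simp only [Finset.mem_image, Finset.mem_univ, true_and, Function.comp_apply]
    exact ⟨fun ⟨a, ha⟩ => ⟨σ.symm a, by simpa using ha⟩, fun ⟨a, ha⟩ => ⟨σ a, ha⟩⟩

theorem coeff_eq_zero {V : Type*} [AddCommGroup V] [Module ℂ V] {n : ℕ} {u : Finset ℕ → V}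
    (h : ∀ c ∈ Parts n, ∑ S ∈ Beta N n, (chiX (canon N S) c : ℂ) • u S = 0) :
    ∀ T ∈ Beta N n, u T = 0 := by
  intro T hT
  have key : ∑ S ∈ Beta N n,
      avgP n (fun c => (chiX (canon N T) c : ℂ) * (chiX (canon N S) c : ℂ)) • u S = 0 := by
    simp only [avgP, Finset.sum_smul, smul_eq_mul, mul_smul]
    rw [Finset.sum_comm, Finset.sum_eq_zero]
    intro c hc
    rw [← Finset.smul_sum, ← Finset.smul_sum, h c hc, smul_zero, smul_zero]
  rw [Finset.sum_congr rfl fun S hS => by rw [orthonormal_canon hT hS],
    Finset.sum_eq_single T] at key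
  · simpa using key
  · intro S _ hne; simp [Ne.symm hne]
  · exact fun h => absurd hT h

theorem card_Beta_le (N n : ℕ) : (Beta N n).card ≤ (Parts n).card := by
  classical
  let f : ↥(Beta N n) → (↥(Parts n) → ℂ) := fun S c => (chiX (canon N S.1) c.1 : ℂ)
  have hli : LinearIndependent ℂ f := by
    rw [Fintype.linearIndependent_iff]
    intro g hg S
    let u : Finset ℕ → ℂ := fun T => if h : T ∈ Beta N n then g ⟨T, h⟩ else 0
    have h0 := coeff_eq_zero (N := N) (n := n) (u := u) (fun c hc => by
      have := congrFun hg ⟨c, hc⟩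
      simp only [Finset.sum_apply, Pi.smul_apply, smul_eq_mul, Pi.zero_apply, f] at this
      rw [← Finset.sum_coe_sort, ← this]
      refine Finset.sum_congr rfl fun T _ => ?_
      rw [smul_eq_mul, mul_comm]
      simp [u, T.2]) S.1 S.2
    simpa [u] using h0
  simpa using hli.fintype_card_le_finrank

/-- **The transfer identity.** -/
theorem key_identity {V : Type*} [AddCommGroup V] [Module ℂ V] {u : (Fin N → ℕ) → V}
    (hu : IsAlt u) {n k : ℕ} (hkn : k ≤ n) (c : Multiset ℕ) :
    ∑ S ∈ Beta N n, (chiX (canon N S) (k ::ₘ c) : ℂ) • u (canon N S) =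
      ∑ T ∈ Beta N (n - k), (chiX (canon N T) c : ℂ) • ∑ i, u (inc (canon N T) i k) := by
  classical
  have h1 : ∀ S ∈ Beta N n, (chiX (canon N S) (k ::ₘ c) : ℂ) =
      ∑ T ∈ Beta N (n - k),
        ((∑ i, detD (inc (canon N T) i k) (canon N S) : ℤ) : ℂ) * chiX (canon N T) c := by
    intro S hS
    rw [chiX_cons]
    simp only [← transpose_move, Int.cast_sum, Finset.sum_mul]
    rw [Finset.sum_comm]
    refine Finset.sum_congr rfl fun i _ => ?_
    by_cases hk : k ≤ canon N S i
    · simp only [hk, if_true]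
      have := sum_dec (l := canon N S) hk
      have h2 := sum_canon_of_mem hS
      rw [expand (isAlt_chiX c) (l := dec (canon N S) i k) (n := n - k) (by omega)]
      simp [smul_eq_mul]
    · simp [hk]
  rw [Finset.sum_congr rfl fun S hS => by rw [h1 S hS, Finset.sum_smul]]
  rw [Finset.sum_comm]
  refine Finset.sum_congr rfl fun T hT => ?_
  have h2 : ∀ i, u (inc (canon N T) i k) =
      ∑ S ∈ Beta N n, (detD (inc (canon N T) i k) (canon N S) : ℂ) • u (canon N S) := fun i => by
    refine expand hu ?_
    rw [sum_inc, sum_canon_of_mem hT]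
    omega
  rw [Finset.sum_congr rfl fun i _ => h2 i, Finset.sum_comm, Finset.smul_sum]
  refine Finset.sum_congr rfl fun S _ => ?_
  rw [← Finset.sum_smul, smul_smul, Int.cast_sum, mul_comm]

end Cfsg.Agent.SymChar
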